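import Groth.Prelude.Def_LambdaRing
import Mathlib

/-!
# Pre-λ-rings: the series λ_t and γ_t
-/

universe u

open PowerSeries Finset LambdaRing

namespace Groth.Agent.LambdaLib

variable {K : Type u} [CommRing K] [LambdaOps K]

theorem coeff_lamSeries (i : ℕ) (x : K) : coeff i (lamSeries x) = LambdaOps.lam i x := coeff_mk _ _

@[simp]
theorem constantCoeff_lamSeries (x : K) : constantCoeff (lamSeries x) = 1 := by
  rw [← coeff_zero_eq_constantCoeff_apply, coeff_lamSeries, LambdaOps.lam_zero]

theorem lamSeries_add (x y : K) : lamSeries (x + y) = lamSeries x * lamSeries y := by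
  ext k
  rw [coeff_mul, Finset.Nat.sum_antidiagonal_eq_sum_range_succ_mk, coeff_lamSeries, LambdaOps.lam_add]
  simp [coeff_lamSeries]

theorem isUnit_lamSeries (x : K) : IsUnit (lamSeries x) := by
  rw [PowerSeries.isUnit_iff_constantCoeff, constantCoeff_lamSeries]; exact isUnit_one

@[simp]
theorem lamSeries_zero : lamSeries (0 : K) = 1 := by
  have h := lamSeries_add (0 : K) 0
  rw [add_zero] at h
  exact ((isUnit_lamSeries (0 : K)).mul_eq_left.mp h.symm)

theorem lam_apply_zero (i : ℕ) (hi : i ≠ 0) : LambdaOps.lam i (0 : K) = 0 := by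
  rw [← coeff_lamSeries, lamSeries_zero, PowerSeries.coeff_one, if_neg hi]

theorem lamSeries_multiset_sum (s : Multiset K) : lamSeries s.sum = (s.map lamSeries).prod := by
  induction s using Multiset.induction with
  | empty => simp
  | cons a s ih => simp [lamSeries_add, ih]

theorem lamSeries_sum {ι : Type*} (s : Finset ι) (x : ι → K) :
    lamSeries (∑ i ∈ s, x i) = ∏ i ∈ s, lamSeries (x i) := by
  classical
  induction s using Finset.induction with
  | empty => simp
  | insert a s ha ih => rw [Finset.sum_insert ha, Finset.prod_insert ha, lamSeries_add, ih]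

theorem lamSeries_of_line {u : K} (h : ∀ j : ℕ, 2 ≤ j → LambdaOps.lam j u = 0) :
    lamSeries u = 1 + C u * X := by
  ext j
  rw [coeff_lamSeries]
  match j with
  | 0 => simp [LambdaOps.lam_zero]
  | 1 => simp [LambdaOps.lam_one, PowerSeries.coeff_one]
  | j + 2 =>
    rw [h _ (by omega), map_add, PowerSeries.coeff_one, if_neg (by omega), coeff_succ_mul_X,
      PowerSeries.coeff_C, if_neg (by omega), add_zero]

theorem lamSeries_one (h1 : ∀ k : ℕ, 2 ≤ k → LambdaOps.lam k (1 : K) = 0) : lamSeries (1 : K) = 1 + X := by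
  rw [lamSeries_of_line h1, map_one, one_mul]

theorem lamSeries_natCast (h1 : ∀ k : ℕ, 2 ≤ k → LambdaOps.lam k (1 : K) = 0) (n : ℕ) :
    lamSeries (n : K) = (1 + X) ^ n := by
  induction n with
  | zero => simp
  | succ n ih => rw [Nat.cast_succ, lamSeries_add, ih, lamSeries_one h1, pow_succ]

theorem coeff_one_add_X_pow {R : Type*} [CommRing R] (n i : ℕ) :
    coeff i ((1 + X) ^ n : R⟦X⟧) = (n.choose i : R) := by
  have h : ((((1 : Polynomial R) + Polynomial.X) ^ n : Polynomial R) : R⟦X⟧) = (1 + X) ^ n := by simp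
  rw [← h, Polynomial.coeff_coe, Polynomial.coeff_one_add_X_pow]

theorem lam_natCast (h1 : ∀ k : ℕ, 2 ≤ k → LambdaOps.lam k (1 : K) = 0) (n i : ℕ) :
    LambdaOps.lam i (n : K) = (n.choose i : K) := by
  rw [← coeff_lamSeries, lamSeries_natCast h1, coeff_one_add_X_pow]

theorem lam_add_one (h1 : ∀ k : ℕ, 2 ≤ k → LambdaOps.lam k (1 : K) = 0) (i : ℕ) (y : K) :
    LambdaOps.lam (i + 1) (y + 1) = LambdaOps.lam (i + 1) y + LambdaOps.lam i y := by
  rw [← coeff_lamSeries, lamSeries_add, lamSeries_one h1, mul_add, mul_one, map_add, coeff_succ_mul_X,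
    coeff_lamSeries, coeff_lamSeries]

/-! ### γ -/

/-- t/(1-t) -/
noncomputable def tq (K : Type u) [CommRing K] : K⟦X⟧ := X * PowerSeries.mk 1

omit [LambdaOps K] in
theorem hasSubst_tq : HasSubst (tq K) := HasSubst.of_constantCoeff_zero' (by simp [tq])

/-- γ_t(x) -/
noncomputable def gammaSeries (x : K) : K⟦X⟧ := subst (tq K) (lamSeries x)

theorem coeff_gammaSeries (k : ℕ) (x : K) : coeff k (gammaSeries x) = gamma k x := by
  rw [gammaSeries, coeff_subst' hasSubst_tq]
  rw [finsum_eq_sum_of_support_subset _ (s := range (k + 1))]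
  swap
  · intro d hd
    simp only [Function.mem_support] at hd
    rw [Finset.coe_range, Set.mem_Iio]
    by_contra hk
    apply hd
    rw [tq, mul_pow, coeff_X_pow_mul', if_neg (by omega), smul_zero]
  rcases k with _ | k
  · simp [gamma]
  rw [gamma, if_neg (by omega)]
  refine Finset.sum_congr rfl fun j hj => ?_
  rw [Finset.mem_range] at hj
  rw [tq, mul_pow, coeff_X_pow_mul', if_pos (by omega), coeff_lamSeries, smul_eq_mul]
  rcases j with _ | j
  · simp [PowerSeries.coeff_one]
  · rw [mk_one_pow_eq_mk_choose_add, coeff_mk, if_neg (by omega), mul_comm]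
    congr 3 <;> omega

theorem gammaSeries_add (x y : K) : gammaSeries (x + y) = gammaSeries x * gammaSeries y := by
  rw [gammaSeries, lamSeries_add, subst_mul hasSubst_tq]; rfl

theorem gammaSeries_zero : gammaSeries (0 : K) = 1 := by
  rw [gammaSeries, lamSeries_zero, ← coe_substAlgHom hasSubst_tq, map_one]

theorem gammaSeries_sum {ι : Type*} (s : Finset ι) (x : ι → K) :
    gammaSeries (∑ i ∈ s, x i) = ∏ i ∈ s, gammaSeries (x i) := by
  classical
  induction s using Finset.induction with
  | empty => simp [gammaSeries_zero]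
  | insert a s ha ih => rw [Finset.sum_insert ha, Finset.prod_insert ha, gammaSeries_add, ih]

theorem gammaSeries_multiset_sum (s : Multiset K) : gammaSeries s.sum = (s.map gammaSeries).prod := by
  induction s using Multiset.induction with
  | empty => simp [gammaSeries_zero]
  | cons a s ih => simp [gammaSeries_add, ih]

theorem gamma_add (k : ℕ) (x y : K) :
    gamma k (x + y) = ∑ i ∈ range (k + 1), gamma i x * gamma (k - i) y := by
  rw [← coeff_gammaSeries, gammaSeries_add, coeff_mul, Finset.Nat.sum_antidiagonal_eq_sum_range_succ_mk]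
  simp [coeff_gammaSeries]

@[simp] theorem gamma_zero (x : K) : gamma 0 x = 1 := by simp [gamma]

@[simp] theorem gamma_one (x : K) : gamma 1 x = x := by simp [gamma, Finset.sum_range_succ, LambdaOps.lam_one]

theorem gamma_apply_zero (k : ℕ) (hk : k ≠ 0) : gamma k (0 : K) = 0 := by
  rw [← coeff_gammaSeries, gammaSeries_zero, PowerSeries.coeff_one, if_neg hk]

theorem gammaSeries_of_line {u : K} (h : ∀ j : ℕ, 2 ≤ j → LambdaOps.lam j u = 0) :
    gammaSeries u = 1 + C u * tq K := by
  rw [gammaSeries, lamSeries_of_line h, ← coe_substAlgHom hasSubst_tq, map_add, map_one, map_mul,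
    substAlgHom_X hasSubst_tq]
  congr 2
  rw [coe_substAlgHom]
  exact subst_C u

theorem one_add_tq : (1 : K⟦X⟧) + tq K = PowerSeries.mk 1 := by
  have h := mk_one_mul_one_sub_eq_one K
  rw [tq]; linear_combination -h

theorem gammaSeries_natCast_mul (h1 : ∀ k : ℕ, 2 ≤ k → LambdaOps.lam k (1 : K) = 0) (n : ℕ) :
    gammaSeries (n : K) * (1 - X) ^ n = 1 := by
  induction n with
  | zero => simp [gammaSeries_zero]
  | succ n ih =>
    rw [Nat.cast_succ, gammaSeries_add, gammaSeries_of_line h1, map_one, one_mul, one_add_tq, pow_succ,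
      mul_mul_mul_comm, ih, mk_one_mul_one_sub_eq_one, one_mul]

theorem gammaSeries_sub_natCast (h1 : ∀ k : ℕ, 2 ≤ k → LambdaOps.lam k (1 : K) = 0) (x : K) (n : ℕ) :
    gammaSeries (x - n) = gammaSeries x * (1 - X) ^ n := by
  conv_rhs => rw [← sub_add_cancel x (n : K), gammaSeries_add, mul_assoc, gammaSeries_natCast_mul h1, mul_one]

theorem gammaSeries_line_sub_one (h1 : ∀ k : ℕ, 2 ≤ k → LambdaOps.lam k (1 : K) = 0) {u : K}
    (h : ∀ j : ℕ, 2 ≤ j → LambdaOps.lam j u = 0) : gammaSeries (u - 1) = 1 + C (u - 1) * X := by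
  have h' := gammaSeries_sub_natCast h1 u 1
  rw [Nat.cast_one] at h'
  rw [h', gammaSeries_of_line h, tq, pow_one, map_sub, map_one]
  linear_combination (C u * X) * mk_one_mul_one_sub_eq_one K

theorem gamma_eq_lam_add_sub_one (h1 : ∀ k : ℕ, 2 ≤ k → LambdaOps.lam k (1 : K) = 0) (n : ℕ) (x : K) :
    gamma n x = LambdaOps.lam n (x + (n : K) - 1) := by
  rcases n with _ | n
  · simp [LambdaOps.lam_zero]
  rw [Nat.cast_succ, show x + ((n : K) + 1) - 1 = x + n by ring, LambdaOps.lam_add, gamma, if_neg (by omega)]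
  refine Finset.sum_congr rfl fun j hj => ?_
  rw [Finset.mem_range] at hj
  rw [lam_natCast h1]
  rcases j with _ | j
  · simp
  · rw [if_neg (by omega), mul_comm]
    congr 2
    rw [show n + 1 - 1 = n by omega, show j + 1 - 1 = j by omega, show n + 1 - (j + 1) = n - j by omega,
      Nat.choose_symm (by omega)]

theorem lam_eq_alternating_sum (h1 : ∀ k : ℕ, 2 ≤ k → LambdaOps.lam k (1 : K) = 0) (n : ℕ) (y : K) :
    LambdaOps.lam n y = (-1 : K) ^ n * ∑ i ∈ range (n + 1), (-1 : K) ^ i * LambdaOps.lam i (y + 1) := by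
  induction n with
  | zero => simp [LambdaOps.lam_zero]
  | succ n ih =>
    rw [Finset.sum_range_succ, mul_add, ← mul_assoc, ← pow_add, Even.neg_one_pow ⟨n + 1, rfl⟩, one_mul,
      lam_add_one h1, pow_succ, mul_neg_one, neg_mul, ← ih]
    ring

theorem gamma_sum_sub_card (h1 : ∀ k : ℕ, 2 ≤ k → LambdaOps.lam k (1 : K) = 0) {ι : Type*} (s : Finset ι)
    (y : ι → K) (hy : ∀ i ∈ s, ∀ j : ℕ, 2 ≤ j → LambdaOps.lam j (y i) = 0) (k : ℕ) :
    gamma k (∑ i ∈ s, y i - (s.card : K)) = ∑ t ∈ s.powersetCard k, ∏ i ∈ t, (y i - 1) := by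
  classical
  have hs : ∑ i ∈ s, y i - (s.card : K) = ∑ i ∈ s, (y i - 1) := by simp
  rw [hs, ← coeff_gammaSeries, gammaSeries_sum,
    Finset.prod_congr rfl fun i hi => gammaSeries_line_sub_one h1 (hy i hi), Finset.prod_one_add, map_sum,
    Finset.powersetCard_eq_filter, Finset.sum_filter]
  refine Finset.sum_congr rfl fun t _ => ?_
  rw [Finset.prod_mul_distrib, Finset.prod_const, ← map_prod, ← monomial_eq_C_mul_X_pow, coeff_monomial]
  simp [eq_comm]

end Groth.Agent.LambdaLib
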