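import Groth.Agent.LambdaLib.Basic

/-!
# Positive structures, splitting, augmentation
-/

universe u

open PowerSeries Finset LambdaRing

namespace Groth.Agent.LambdaLib

variable {K : Type u} [CommRing K] [LambdaOps K] (P : PosStructure K)

theorem one_mem_pos : (1 : K) ∈ P.pos := by simpa using P.natCast_mem 1 one_pos

theorem isLine_one : P.IsLine 1 := ⟨one_mem_pos P, map_one _⟩

theorem lam_line_eq_zero {u : K} (hu : P.IsLine u) : ∀ j : ℕ, 2 ≤ j → LambdaOps.lam j u = 0 :=
  fun j hj => P.lam_eq_zero u hu.1 j (by rw [hu.2]; exact_mod_cast hj)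

include P in
theorem lam_one_eq_zero : ∀ j : ℕ, 2 ≤ j → LambdaOps.lam j (1 : K) = 0 := lam_line_eq_zero P (isLine_one P)

theorem isLine_mul {u v : K} (hu : P.IsLine u) (hv : P.IsLine v) : P.IsLine (u * v) :=
  ⟨P.mul_mem u v hu.1 hv.1, by rw [map_mul, hu.2, hv.2, one_mul]⟩

theorem isLine_pow {u : K} (hu : P.IsLine u) : ∀ n : ℕ, P.IsLine (u ^ n)
  | 0 => by rw [pow_zero]; exact isLine_one P
  | n + 1 => by rw [pow_succ]; exact isLine_mul P (isLine_pow hu n) hu

theorem isUnit_of_isLine {u : K} (hu : P.IsLine u) : IsUnit u := by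
  have := P.isUnit_lam u hu.1
  rwa [hu.2, show ((1 : ℤ).toNat) = 1 from rfl, LambdaOps.lam_one] at this

theorem aug_toNat_cast {e : K} (he : e ∈ P.pos) : ((P.aug e).toNat : ℤ) = P.aug e :=
  Int.toNat_of_nonneg (P.aug_pos e he).le

theorem aug_multiset_sum_lines {s : Multiset K} (hs : ∀ u ∈ s, P.IsLine u) :
    P.aug s.sum = (Multiset.card s : ℤ) := by
  induction s using Multiset.induction with
  | empty => simp
  | cons a s ih =>
    rw [Multiset.sum_cons, map_add, (hs a (Multiset.mem_cons_self a s)).2,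
      ih fun u hu => hs u (Multiset.mem_cons_of_mem hu), Multiset.card_cons]
    push_cast
    ring

theorem map_aug_lamSeries_lines {s : Multiset K} (hs : ∀ u ∈ s, P.IsLine u) :
    PowerSeries.map P.aug (lamSeries s.sum) = (1 + X) ^ Multiset.card s := by
  induction s using Multiset.induction with
  | empty => simp
  | cons a s ih =>
    have ha := hs a (Multiset.mem_cons_self a s)
    rw [Multiset.sum_cons, lamSeries_add, map_mul, lamSeries_of_line (lam_line_eq_zero P ha),
      ih fun u hu => hs u (Multiset.mem_cons_of_mem hu), map_add, map_one, map_mul, map_C, map_X, ha.2, map_one,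
      one_mul, Multiset.card_cons, pow_succ']

/-! ### extensions -/

variable {P}

theorem isExtension_refl : IsExtension P P (RingHom.id K) :=
  ⟨fun _ _ => rfl, fun _ _ h => h, fun _ => rfl, fun _ h => h⟩

theorem isExtension_comp {K' K'' : Type u} [CommRing K'] [LambdaOps K'] [CommRing K''] [LambdaOps K'']
    {P' : PosStructure K'} {P'' : PosStructure K''} {f : K →+* K'} {g : K' →+* K''}
    (hf : IsExtension P P' f) (hg : IsExtension P' P'' g) : IsExtension P P'' (g.comp f) where
  isLambdaHom i x := by simp [hf.isLambdaHom i x, hg.isLambdaHom i (f x)]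
  injective := hg.injective.comp hf.injective
  aug_comp x := by simp [hg.aug_comp, hf.aug_comp]
  pos_subset e he := hg.pos_subset _ (hf.pos_subset e he)

theorem isLine_map {K' : Type u} [CommRing K'] [LambdaOps K'] {P' : PosStructure K'} {f : K →+* K'}
    (hf : IsExtension P P' f) {u : K} (hu : P.IsLine u) : P'.IsLine (f u) :=
  ⟨hf.pos_subset u hu.1, by rw [hf.aug_comp, hu.2]⟩

theorem gamma_map {K' : Type u} [CommRing K'] [LambdaOps K'] {f : K →+* K'} (hf : IsLambdaHom f) (k : ℕ)
    (x : K) : f (gamma k x) = gamma k (f x) := by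
  unfold gamma
  split_ifs with h
  · exact map_one f
  · rw [map_sum]
    refine Finset.sum_congr rfl fun j _ => ?_
    split_ifs with hj <;> simp [hf _ _]

/-- `e` is a sum of line elements. -/
def IsSumLines (P : PosStructure K) (e : K) : Prop := ∃ s : Multiset K, (∀ u ∈ s, P.IsLine u) ∧ s.sum = e

theorem IsSumLines.map {K' : Type u} [CommRing K'] [LambdaOps K'] {P' : PosStructure K'} {f : K →+* K'}
    (hf : IsExtension P P' f) {e : K} (h : IsSumLines P e) : IsSumLines P' (f e) := by
  obtain ⟨s, hs, rfl⟩ := h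
  refine ⟨s.map f, ?_, (map_multiset_sum f s).symm⟩
  intro u hu
  obtain ⟨v, hv, rfl⟩ := Multiset.mem_map.mp hu
  exact isLine_map hf (hs v hv)

theorem exists_ext_split (hK : HasSplitting K P) (l : List K) (hl : ∀ e ∈ l, e ∈ P.pos) :
    ∃ (L : PosLambdaRing.{u}) (f : K →+* L.carrier), IsExtension P L.posStr f ∧
      HasSplitting L.carrier L.posStr ∧ ∀ e ∈ l, IsSumLines L.posStr (f e) := by
  obtain ⟨C, hC, hC'⟩ := hK
  suffices ∃ L ∈ C, ∃ f : K →+* L.carrier, IsExtension P L.posStr f ∧ ∀ e ∈ l, IsSumLines L.posStr (f e) by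
    obtain ⟨L, hL, f, hf, h⟩ := this
    exact ⟨L, f, hf, ⟨C, hL, hC'⟩, h⟩
  induction l with
  | nil => exact ⟨⟨K, P⟩, hC, RingHom.id K, isExtension_refl, by simp⟩
  | cons a l ih =>
    obtain ⟨L, hL, f, hf, h⟩ := ih fun e he => hl e (List.mem_cons_of_mem a he)
    obtain ⟨L', hL', g, hg, hs⟩ := hC' L hL (f a) (hf.pos_subset a (hl a List.mem_cons_self))
    refine ⟨L', hL', g.comp f, isExtension_comp hf hg, ?_⟩
    intro e he
    rcases List.mem_cons.mp he with rfl | he
    · exact hs
    · exact (h e he).map hg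

theorem map_aug_lamSeries (hK : HasSplitting K P) {e : K} (he : e ∈ P.pos) :
    PowerSeries.map P.aug (lamSeries e) = (1 + X) ^ (P.aug e).toNat := by
  obtain ⟨L, f, hf, -, h⟩ := exists_ext_split hK [e] (by simpa using he)
  obtain ⟨s, hs, hse⟩ := h e List.mem_cons_self
  have hcard : (P.aug e).toNat = Multiset.card s := by
    rw [← hf.aug_comp, ← hse, aug_multiset_sum_lines _ hs, Int.toNat_natCast]
  rw [hcard, ← map_aug_lamSeries_lines L.posStr hs, hse]
  ext i
  rw [coeff_map, coeff_map, coeff_lamSeries, coeff_lamSeries, ← hf.isLambdaHom, hf.aug_comp]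

theorem aug_lam_eq_choose (hK : HasSplitting K P) {e : K} (he : e ∈ P.pos) (i : ℕ) :
    P.aug (LambdaOps.lam i e) = ((P.aug e).toNat.choose i : ℤ) := by
  rw [← coeff_lamSeries, ← coeff_map, map_aug_lamSeries hK he, coeff_one_add_X_pow]

/-! ### the γ identity -/

theorem reflect_one_sub_X_pow {R : Type*} [CommRing R] (m : ℕ) :
    Polynomial.reflect m ((1 - Polynomial.X : Polynomial R) ^ m) = (Polynomial.X - 1) ^ m := by
  induction m with
  | zero => simp
  | succ m ih =>
    rw [pow_succ, Polynomial.reflect_mul _ _ (Polynomial.natDegree_pow_le.trans (by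
      calc m * (1 - Polynomial.X : Polynomial R).natDegree ≤ m * 1 := Nat.mul_le_mul_left _ (by compute_degree)
        _ = m := mul_one m)) (by compute_degree), ih, pow_succ]
    congr 1
    rw [Polynomial.reflect_sub, show (1 : Polynomial R) = Polynomial.C 1 * Polynomial.X ^ 0 by simp,
      Polynomial.reflect_C_mul_X_pow, show (Polynomial.X : Polynomial R) = Polynomial.C 1 * Polynomial.X ^ 1 by simp,
      Polynomial.reflect_C_mul_X_pow]
    simp [Polynomial.revAt_le]

theorem gammaSeries_pos_sub_natCast (P : PosStructure K) {e : K} (he : e ∈ P.pos) :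
    gammaSeries (e - ((P.aug e).toNat : K)) =
      ((∑ i ∈ range ((P.aug e).toNat + 1), Polynomial.C (LambdaOps.lam i e) * Polynomial.X ^ i *
        (1 - Polynomial.X) ^ ((P.aug e).toNat - i) : Polynomial K) : K⟦X⟧) := by
  set n := (P.aug e).toNat with hn
  have hl : lamSeries e = ((∑ i ∈ range (n + 1), Polynomial.C (LambdaOps.lam i e) * Polynomial.X ^ i :
      Polynomial K) : K⟦X⟧) := by
    ext i
    rw [coeff_lamSeries, Polynomial.coeff_coe, Polynomial.finset_sum_coeff]
    simp only [Polynomial.coeff_C_mul, Polynomial.coeff_X_pow, mul_ite, mul_one, mul_zero]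
    rw [Finset.sum_ite_eq, eq_comm, ite_eq_left_iff]
    intro hi
    rw [Finset.mem_range] at hi
    rw [P.lam_eq_zero e he]
    have := aug_toNat_cast P he
    omega
  rw [gammaSeries_sub_natCast (lam_one_eq_zero P), gammaSeries, hl, subst_coe hasSubst_tq,
    map_sum, Finset.sum_mul, ← Polynomial.coeToPowerSeries.ringHom_apply, map_sum]
  refine Finset.sum_congr rfl fun i hi => ?_
  rw [Finset.mem_range] at hi
  simp only [map_mul, Polynomial.aeval_C, map_pow, Polynomial.aeval_X, Polynomial.coeToPowerSeries.ringHom_apply,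
    Polynomial.coe_mul, Polynomial.coe_pow, Polynomial.coe_C, Polynomial.coe_X, Polynomial.coe_sub, Polynomial.coe_one]
  rw [show n = i + (n - i) by omega, pow_add, Nat.add_sub_cancel_left, tq, mul_pow]
  have h1 : (PowerSeries.mk 1 : K⟦X⟧) ^ i * (1 - X) ^ i = 1 := by
    rw [← mul_pow, mk_one_mul_one_sub_eq_one, one_pow]
  rw [PowerSeries.algebraMap_eq]
  linear_combination (C (LambdaOps.lam i e) * X ^ i * (1 - X) ^ (n - i)) * h1

theorem reflect_sum {R : Type*} [CommRing R] {ι : Type*} (n : ℕ) (s : Finset ι) (f : ι → Polynomial R) :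
    Polynomial.reflect n (∑ i ∈ s, f i) = ∑ i ∈ s, Polynomial.reflect n (f i) := by
  classical
  induction s using Finset.induction with
  | empty => simp
  | insert a s ha ih => rw [Finset.sum_insert ha, Finset.sum_insert ha, Polynomial.reflect_add, ih]

theorem gamma_sub_aug_identity (P : PosStructure K) {e : K} (he : e ∈ P.pos) :
    (∑ i ∈ range ((P.aug e).toNat + 1),
        Polynomial.C (gamma i (e - ((P.aug e).toNat : K))) * Polynomial.X ^ ((P.aug e).toNat - i)) =
      ∑ i ∈ range ((P.aug e).toNat + 1),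
        Polynomial.C (LambdaOps.lam i e) * (Polynomial.X - 1) ^ ((P.aug e).toNat - i) := by
  have hQ := gammaSeries_pos_sub_natCast P he
  set n := (P.aug e).toNat
  set Q : Polynomial K := ∑ i ∈ range (n + 1), Polynomial.C (LambdaOps.lam i e) * Polynomial.X ^ i *
        (1 - Polynomial.X) ^ (n - i) with hQdef
  have hdeg : Q.natDegree ≤ n := by
    refine Polynomial.natDegree_sum_le_of_forall_le _ _ fun i hi => ?_
    rw [Finset.mem_range] at hi
    refine Polynomial.natDegree_mul_le.trans ((add_le_add (Polynomial.natDegree_C_mul_X_pow_le _ _)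
      (Polynomial.natDegree_pow_le.trans (Nat.mul_le_mul_left _ (show (1 - Polynomial.X : Polynomial K).natDegree ≤ 1 by
        compute_degree)))).trans ?_)
    omega
  have hsum : Polynomial.reflect n Q = ∑ i ∈ range (n + 1),
      Polynomial.C (LambdaOps.lam i e) * (Polynomial.X - 1) ^ (n - i) := by
    rw [hQdef, reflect_sum]
    refine Finset.sum_congr rfl fun i hi => ?_
    rw [Finset.mem_range] at hi
    conv_lhs => arg 1; rw [show n = i + (n - i) by omega]
    rw [Polynomial.reflect_mul _ _ (Polynomial.natDegree_C_mul_X_pow_le _ _)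
      (Polynomial.natDegree_pow_le.trans ((Nat.mul_le_mul_left _ (show (1 - Polynomial.X : Polynomial K).natDegree ≤ 1 by
        compute_degree)).trans (mul_one _).le)), Polynomial.reflect_C_mul_X_pow, reflect_one_sub_X_pow]
    simp [Polynomial.revAt_le]
  rw [← hsum]
  conv_rhs => rw [Q.as_sum_range' (n + 1) (by omega)]
  rw [reflect_sum]
  refine Finset.sum_congr rfl fun i hi => ?_
  rw [Finset.mem_range] at hi
  rw [← Polynomial.C_mul_X_pow_eq_monomial, Polynomial.reflect_C_mul_X_pow, Polynomial.revAt_le (by omega),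
    ← coeff_gammaSeries, hQ, Polynomial.coeff_coe]

/-! ### γ-filtration -/


theorem gamma_prod_mem (P : PosStructure K) {n : ℕ} (l : List (ℕ × K)) (hl : ∀ p ∈ l, P.aug p.2 = 0)
    (hn : n ≤ (l.map Prod.fst).sum) : (l.map fun p => gamma p.1 p.2).prod ∈ gammaFiltration P n := by
  rw [gammaFiltration]
  split_ifs with h
  · trivial
  · exact AddSubgroup.subset_closure ⟨l, hl, hn, rfl⟩

theorem gamma_mem (P : PosStructure K) {n k : ℕ} {x : K} (hx : P.aug x = 0) (h : n ≤ k) :
    gamma k x ∈ gammaFiltration P n := by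
  simpa using gamma_prod_mem P [(k, x)] (by simpa using hx) (by simpa using h)

theorem gammaFiltration_induction (P : PosStructure K) {n : ℕ} (hn : n ≠ 0) {motive : K → Prop}
    (gen : ∀ l : List (ℕ × K), (∀ p ∈ l, P.aug p.2 = 0) → n ≤ (l.map Prod.fst).sum →
      motive (l.map fun p => gamma p.1 p.2).prod)
    (zero : motive 0) (add : ∀ a b, motive a → motive b → motive (a + b)) (neg : ∀ a, motive a → motive (-a))
    {x : K} (hx : x ∈ gammaFiltration P n) : motive x := by
  rw [gammaFiltration, if_neg hn] at hx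
  induction hx using AddSubgroup.closure_induction with
  | mem y hy => obtain ⟨l, h1, h2, rfl⟩ := hy; exact gen l h1 h2
  | zero => exact zero
  | add a b _ _ ha hb => exact add a b ha hb
  | neg a _ ha => exact neg a ha

theorem gammaFiltration_antitone (P : PosStructure K) {m n : ℕ} (h : m ≤ n) :
    gammaFiltration P n ≤ gammaFiltration P m := by
  intro x hx
  rcases Nat.eq_zero_or_pos m with rfl | hm
  · simp [gammaFiltration]
  · exact gammaFiltration_induction P (by omega) (fun l h1 h2 => gamma_prod_mem P l h1 (h.trans h2))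
      (zero_mem _) (fun _ _ => add_mem) (fun _ => neg_mem) hx

theorem mul_mem_left (P : PosStructure K) {n : ℕ} (a : K) {x : K} (hx : x ∈ gammaFiltration P n) :
    a * x ∈ gammaFiltration P n := by
  rcases Nat.eq_zero_or_pos n with rfl | hn
  · simp [gammaFiltration]
  refine gammaFiltration_induction P hn.ne' (motive := fun z => a * z ∈ gammaFiltration P n)
    (fun l h1 h2 => ?_) (by simp)
    (fun b c hb hc => by rw [mul_add]; exact add_mem hb hc) (fun b hb => by rw [mul_neg]; exact neg_mem hb) hx
  rw [show a * (l.map fun p => gamma p.1 p.2).prod = (a - (P.aug a : K)) * (l.map fun p => gamma p.1 p.2).prod +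
    (P.aug a) • (l.map fun p => gamma p.1 p.2).prod by rw [zsmul_eq_mul]; ring]
  refine add_mem ?_ (zsmul_mem (gamma_prod_mem P l h1 h2) _)
  simpa using gamma_prod_mem P (n := n) ((1, a - (P.aug a : K)) :: l)
    (List.forall_mem_cons.mpr ⟨by simp, h1⟩) (by simp; omega)

theorem mul_mem_add (P : PosStructure K) {m n : ℕ} {x y : K} (hx : x ∈ gammaFiltration P m)
    (hy : y ∈ gammaFiltration P n) : x * y ∈ gammaFiltration P (m + n) := by
  rcases Nat.eq_zero_or_pos m with rfl | hm
  · rw [zero_add]; exact mul_mem_left P x hy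
  rcases Nat.eq_zero_or_pos n with rfl | hn
  · rw [add_zero, mul_comm]; exact mul_mem_left P y hx
  refine gammaFiltration_induction P hm.ne' (motive := fun z => z * y ∈ gammaFiltration P (m + n))
    (fun l h1 h2 => ?_) (by simp)
    (fun b c hb hc => by rw [add_mul]; exact add_mem hb hc) (fun b hb => by rw [neg_mul]; exact neg_mem hb) hx
  refine gammaFiltration_induction P hn.ne'
    (motive := fun z => (l.map fun p => gamma p.1 p.2).prod * z ∈ gammaFiltration P (m + n))
    (fun l' h1' h2' => ?_) (by simp)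
    (fun b c hb hc => by rw [mul_add]; exact add_mem hb hc) (fun b hb => by rw [mul_neg]; exact neg_mem hb) hy
  rw [← List.prod_append, ← List.map_append]
  exact gamma_prod_mem P _ (fun p hp => (List.mem_append.mp hp).elim (h1 p) (h1' p))
    (by rw [List.map_append, List.sum_append]; omega)

theorem pow_mem (P : PosStructure K) {m : ℕ} {x : K} (hx : x ∈ gammaFiltration P m) :
    ∀ k : ℕ, x ^ k ∈ gammaFiltration P (m * k)
  | 0 => by simp [gammaFiltration]
  | k + 1 => by rw [pow_succ, Nat.mul_succ]; exact mul_mem_add P (pow_mem P hx k) hx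

theorem mem_one_of_aug_eq_zero (P : PosStructure K) {x : K} (hx : P.aug x = 0) : x ∈ gammaFiltration P 1 := by
  simpa using gamma_mem P (k := 1) hx le_rfl

theorem aug_gamma_eq_zero (hK : HasSplitting K P) {x : K} (hx : P.aug x = 0) {k : ℕ} (hk : k ≠ 0) :
    P.aug (gamma k x) = 0 := by
  obtain ⟨a, b, ha, hb, rfl⟩ := P.exists_sub x
  rw [map_sub, sub_eq_zero] at hx
  have key : ∀ e ∈ P.pos, PowerSeries.map P.aug (gammaSeries (e - ((P.aug e).toNat : K))) = 1 := by
    intro e he
    rw [gammaSeries_pos_sub_natCast P he, ← Polynomial.polynomial_map_coe, Polynomial.map_sum]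
    have h2 : (∑ i ∈ range ((P.aug e).toNat + 1), Polynomial.map P.aug (Polynomial.C (LambdaOps.lam i e) * Polynomial.X ^ i *
        (1 - Polynomial.X) ^ ((P.aug e).toNat - i))) = 1 := by
      have h3 := add_pow (Polynomial.X : Polynomial ℤ) (1 - Polynomial.X) (P.aug e).toNat
      rw [add_sub_cancel, one_pow] at h3
      rw [h3]
      refine Finset.sum_congr rfl fun i _ => ?_
      simp [aug_lam_eq_choose hK he]
      ring
    rw [h2, Polynomial.coe_one]
  have h : gammaSeries (a - b) * gammaSeries (b - ((P.aug b).toNat : K)) =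
      gammaSeries (a - ((P.aug a).toNat : K)) := by
    rw [← gammaSeries_add, hx]; congr 1; ring
  have h' := congrArg (PowerSeries.map P.aug) h
  rw [map_mul, key a ha, key b hb, mul_one] at h'
  rw [← coeff_gammaSeries, ← coeff_map, h', PowerSeries.coeff_one, if_neg hk]

theorem aug_eq_zero_of_mem (hK : HasSplitting K P) {n : ℕ} (hn : n ≠ 0) {x : K}
    (hx : x ∈ gammaFiltration P n) : P.aug x = 0 := by
  refine gammaFiltration_induction P hn (motive := fun z => P.aug z = 0) (fun l h1 h2 => ?_) (map_zero _)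
    (fun a b ha hb => by rw [map_add, ha, hb, add_zero]) (fun a ha => by rw [map_neg, ha, neg_zero]) hx
  rw [map_list_prod, List.prod_eq_zero_iff, List.mem_map]
  obtain ⟨p, hp, hp0⟩ : ∃ p ∈ l, p.1 ≠ 0 := by
    by_contra! h0
    have : (l.map Prod.fst).sum = 0 := List.sum_eq_zero fun k hk => by
      obtain ⟨p, hp, rfl⟩ := List.mem_map.mp hk; exact h0 p hp
    omega
  exact ⟨_, List.mem_map.mpr ⟨p, hp, rfl⟩, aug_gamma_eq_zero hK (h1 p hp) hp0⟩

end Groth.Agent.LambdaLib
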