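import Mathlib

/-!
# Symmetric polynomials in elementary symmetric functions, with weights
-/

universe u v

open MvPolynomial Finset

namespace Groth.Agent.LambdaLib

variable {σ : Type v} [Fintype σ] {R : Type u} [CommRing R]

/-- weight of the k-th elementary symmetric variable -/
def esWeight (n : ℕ) : Fin n → ℕ := fun k => (k : ℕ) + 1

theorem esymm_isHomogeneous' (k : ℕ) : (esymm σ R k).IsHomogeneous k := by
  rw [esymm]
  refine IsHomogeneous.sum _ _ _ fun t ht => ?_
  rw [Finset.mem_powersetCard] at ht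
  convert IsHomogeneous.prod t (fun i => (X i : MvPolynomial σ R)) (fun _ => 1) fun i _ => isHomogeneous_X R i
  simp [ht.2]

theorem aeval_esymm_homogeneousComponent {n : ℕ} (Φ : MvPolynomial (Fin n) R) (m : ℕ) :
    homogeneousComponent m (aeval (fun k : Fin n => esymm σ R ((k : ℕ) + 1)) Φ) =
      aeval (fun k : Fin n => esymm σ R ((k : ℕ) + 1)) (weightedHomogeneousComponent (esWeight n) m Φ) := by
  classical
  induction Φ using MvPolynomial.induction_on' with
  | monomial d c =>
    have hw := isWeightedHomogeneous_monomial (esWeight n) d c (m := Finsupp.weight (esWeight n) d) rfl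
    have hh : (aeval (fun k : Fin n => esymm σ R ((k : ℕ) + 1)) (monomial d c)).IsHomogeneous
        (Finsupp.weight (esWeight n) d) := by
      rw [aeval_monomial, Finsupp.weight_apply, Finsupp.sum, Finsupp.prod, ← zero_add (∑ i ∈ d.support, _),
        MvPolynomial.algebraMap_eq]
      refine (isHomogeneous_C σ c).mul (IsHomogeneous.prod _ _ _ fun k _ => ?_)
      rw [smul_eq_mul, mul_comm]
      exact (esymm_isHomogeneous' _).pow _
    rw [homogeneousComponent_of_mem (by exact hh), weightedHomogeneousComponent_of_mem (by exact hw)]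
    split_ifs <;> simp
  | add p q hp hq => rw [map_add, map_add, hp, hq, map_add, map_add]

theorem aeval_esymm_injective {n : ℕ} (hn : n ≤ Fintype.card σ) :
    Function.Injective (aeval (R := R) (fun k : Fin n => esymm σ R ((k : ℕ) + 1))) := by
  intro p q h
  refine esymmAlgHom_injective R (σ := σ) hn (Subtype.ext ?_)
  simpa [esymmAlgHom_apply] using h

theorem exists_esymm_rep {p : MvPolynomial σ R} (hp : p.IsSymmetric) :
    ∃ Φ : MvPolynomial (Fin (Fintype.card σ)) R,
      aeval (fun k : Fin (Fintype.card σ) => esymm σ R ((k : ℕ) + 1)) Φ = p ∧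
      ∀ m : ℕ, homogeneousComponent m p = 0 →
        weightedHomogeneousComponent (esWeight (Fintype.card σ)) m Φ = 0 := by
  obtain ⟨Φ, hΦ⟩ := esymmAlgHom_surjective R (σ := σ) (n := Fintype.card σ) le_rfl ⟨p, hp⟩
  have h : aeval (fun k : Fin (Fintype.card σ) => esymm σ R ((k : ℕ) + 1)) Φ = p := by
    simpa [esymmAlgHom_apply] using congrArg Subtype.val hΦ
  refine ⟨Φ, h, fun m hm => aeval_esymm_injective (σ := σ) le_rfl ?_⟩
  rw [← aeval_esymm_homogeneousComponent, h, hm, map_zero]

theorem exists_esymm_rep_of_le {p : MvPolynomial σ R} (hp : p.IsSymmetric) (d : ℕ)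
    (hd : ∀ m < d, homogeneousComponent m p = 0) :
    ∃ Φ : MvPolynomial (Fin (Fintype.card σ)) R,
      aeval (fun k : Fin (Fintype.card σ) => esymm σ R ((k : ℕ) + 1)) Φ = p ∧
      ∀ s ∈ Φ.support, d ≤ Finsupp.weight (esWeight (Fintype.card σ)) s := by
  obtain ⟨Φ, h1, h2⟩ := exists_esymm_rep hp
  refine ⟨Φ, h1, fun s hs => ?_⟩
  by_contra hlt
  have h3 := congrArg (coeff s) (h2 _ (hd _ (not_le.mp hlt)))
  classical
  rw [coeff_weightedHomogeneousComponent, if_pos rfl, coeff_zero] at h3
  exact (mem_support_iff.mp hs) h3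

theorem exists_esymm_rep_isHomogeneous {p : MvPolynomial σ R} (hp : p.IsSymmetric) (m : ℕ)
    (hm : p.IsHomogeneous m) :
    ∃ Φ : MvPolynomial (Fin (Fintype.card σ)) R,
      aeval (fun k : Fin (Fintype.card σ) => esymm σ R ((k : ℕ) + 1)) Φ = p ∧
      Φ.IsWeightedHomogeneous (esWeight (Fintype.card σ)) m := by
  classical
  obtain ⟨Φ, h1, h2⟩ := exists_esymm_rep hp
  refine ⟨Φ, h1, fun s hs => ?_⟩
  by_contra hne
  have h3 := congrArg (coeff s) (h2 (Finsupp.weight (esWeight (Fintype.card σ)) s)
    (by rw [homogeneousComponent_of_mem (by exact hm), if_neg hne]))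
  rw [coeff_weightedHomogeneousComponent, if_pos rfl, coeff_zero] at h3
  exact hs h3

theorem aeval_esymm_eq {S : Type*} [CommRing S] [Algebra R S] (v : σ → S) (k : ℕ) :
    aeval v (esymm σ R k) = ∑ t ∈ (univ : Finset σ).powersetCard k, ∏ i ∈ t, v i := by
  simp [esymm, map_prod]

end Groth.Agent.LambdaLib
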