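import Groth.Agent.LambdaLib.Adams
import Groth.Agent.LambdaLib.Symm

/-!
# Adams operations on the γ-filtration
-/

universe u

open Finset LambdaRing MvPolynomial

namespace Groth.Agent.LambdaLib

variable {K : Type u} [CommRing K] [LambdaOps K] {P : PosStructure K}

theorem finset_prod_mem (P : PosStructure K) {ι : Type*} (s : Finset ι) (f : ι → K) (w : ι → ℕ)
    (h : ∀ i ∈ s, f i ∈ gammaFiltration P (w i)) : ∏ i ∈ s, f i ∈ gammaFiltration P (∑ i ∈ s, w i) := by
  classical
  induction s using Finset.induction with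
  | empty => simp [gammaFiltration]
  | insert a s ha ih =>
    rw [Finset.prod_insert ha, Finset.sum_insert ha]
    exact mul_mem_add P (h a (Finset.mem_insert_self a s)) (ih fun i hi => h i (Finset.mem_insert_of_mem hi))

theorem aeval_mem_gammaFiltration (P : PosStructure K) {n d : ℕ} (g : Fin n → K)
    (hg : ∀ k : Fin n, g k ∈ gammaFiltration P ((k : ℕ) + 1)) (Φ : MvPolynomial (Fin n) ℤ)
    (hΦ : ∀ s ∈ Φ.support, d ≤ Finsupp.weight (esWeight n) s) : aeval g Φ ∈ gammaFiltration P d := by
  rw [aeval_def, eval₂_eq]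
  refine sum_mem fun s hs => mul_mem_left P _ (gammaFiltration_antitone P (hΦ s hs) ?_)
  rw [Finsupp.weight_apply, Finsupp.sum]
  refine finset_prod_mem P s.support _ (fun k => s k • esWeight n k) fun k _ => ?_
  rw [smul_eq_mul, mul_comm]
  exact pow_mem P (hg k) _

theorem gamma_sub_card_eq_aeval (P : PosStructure K) {n : ℕ} (y : Fin n → K) (hy : ∀ i, P.IsLine (y i)) (k : ℕ) :
    gamma k (∑ i, y i - (n : K)) = aeval (fun i => y i - 1) (esymm (Fin n) ℤ k) := by
  have h := gamma_sum_sub_card (lam_one_eq_zero P) (univ : Finset (Fin n)) y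
    (fun i _ => lam_line_eq_zero P (hy i)) k
  rw [Finset.card_univ, Fintype.card_fin] at h
  rw [h, aeval_esymm_eq]

theorem exists_ext_fin {K : Type u} [CommRing K] [LambdaOps K] {P : PosStructure K} (hK : HasSplitting K P)
    {e : K} (he : e ∈ P.pos) :
    ∃ (L : PosLambdaRing.{u}) (f : K →+* L.carrier) (n : ℕ) (y : Fin n → L.carrier), IsExtension P L.posStr f ∧
      HasSplitting L.carrier L.posStr ∧ (P.aug e).toNat = n ∧ (∀ i, L.posStr.IsLine (y i)) ∧ ∑ i, y i = f e := by
  obtain ⟨L, f, hf, hL, h⟩ := exists_ext_split hK [e] (by simpa using he)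
  obtain ⟨s, hs, hse⟩ := h e List.mem_cons_self
  refine ⟨L, f, s.toList.length, fun i => s.toList[i.1], hf, hL, ?_,
    fun i => hs _ (Multiset.mem_toList.mp (List.getElem_mem _)), ?_⟩
  · rw [← hf.aug_comp, ← hse, aug_multiset_sum_lines _ hs, Int.toNat_natCast, Multiset.length_toList]
  · rw [Fin.sum_univ_getElem, Multiset.sum_toList, hse]

/-- the polynomial ψ^j(e_k) - j^k e_k in Chern roots -/
noncomputable def psiDiff (n j k : ℕ) : MvPolynomial (Fin n) ℤ :=
  aeval (fun i : Fin n => (1 + X i) ^ j - 1) (esymm (Fin n) ℤ k) - C ((j : ℤ) ^ k) * esymm (Fin n) ℤ k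

theorem psiDiff_isSymmetric (n j k : ℕ) : (psiDiff n j k).IsSymmetric := by
  intro e
  have h : (rename e).comp (aeval (fun i : Fin n => ((1 + X i) ^ j - 1 : MvPolynomial (Fin n) ℤ))) =
      (aeval (fun i : Fin n => ((1 + X i) ^ j - 1 : MvPolynomial (Fin n) ℤ))).comp (rename e) := by
    ext i; simp
  have h2 := DFunLike.congr_fun h (esymm (Fin n) ℤ k)
  simp only [AlgHom.comp_apply, rename_esymm] at h2
  rw [psiDiff, map_sub, map_mul, rename_C, rename_esymm, h2]

theorem homogeneousComponent_psiDiff (n j k : ℕ) (m : ℕ) (hm : m < k + 1) :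
    homogeneousComponent m (psiDiff n j k) = 0 := by
  classical
  have hMem : psiDiff n j k ∈ idealOfVars (Fin n) ℤ ^ (k + 1) := by
    set M := idealOfVars (Fin n) ℤ
    have hX : ∀ i : Fin n, (X i : MvPolynomial (Fin n) ℤ) ∈ M := fun i => Ideal.subset_span ⟨i, rfl⟩
    have hp : ∀ i : Fin n, ((1 + X i) ^ j - 1 - C (j : ℤ) * X i : MvPolynomial (Fin n) ℤ) ∈ M ^ 2 := by
      intro i
      induction j with
      | zero => simp
      | succ j ih =>
        rw [show ((1 + X i) ^ (j + 1) - 1 - C ((j + 1 : ℕ) : ℤ) * X i : MvPolynomial (Fin n) ℤ) =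
          ((1 + X i) ^ j - 1 - C (j : ℤ) * X i) * (1 + X i) + C (j : ℤ) * (X i * X i) by push_cast; simp; ring]
        exact add_mem (Ideal.mul_mem_right _ _ ih)
          (Ideal.mul_mem_left _ _ (by rw [pow_two]; exact Ideal.mul_mem_mul (hX i) (hX i)))
    have hp1 : ∀ i : Fin n, ((1 + X i) ^ j - 1 : MvPolynomial (Fin n) ℤ) ∈ M := fun i => by
      have := add_mem (Ideal.pow_le_self two_ne_zero (hp i)) (M.mul_mem_left (C (j : ℤ)) (hX i))
      simpa using this
    have hprod : ∀ t : Finset (Fin n), (∏ i ∈ t, ((1 + X i) ^ j - 1 : MvPolynomial (Fin n) ℤ)) ∈ M ^ t.card ∧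
        (∏ i ∈ t, ((1 + X i) ^ j - 1 : MvPolynomial (Fin n) ℤ)) - C ((j : ℤ) ^ t.card) * ∏ i ∈ t, X i ∈
          M ^ (t.card + 1) := by
      intro t
      induction t using Finset.induction with
      | empty => simp
      | insert a t ha ih =>
        refine ⟨?_, ?_⟩
        · rw [Finset.prod_insert ha, Finset.card_insert_of_notMem ha, pow_succ']
          exact Ideal.mul_mem_mul (hp1 a) ih.1
        · rw [Finset.prod_insert ha, Finset.prod_insert ha, Finset.card_insert_of_notMem ha,
            show ((1 + X a) ^ j - 1 : MvPolynomial (Fin n) ℤ) * ∏ i ∈ t, ((1 + X i) ^ j - 1) -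
              C ((j : ℤ) ^ (t.card + 1)) * (X a * ∏ i ∈ t, X i) =
              ((1 + X a) ^ j - 1 - C (j : ℤ) * X a) * ∏ i ∈ t, ((1 + X i) ^ j - 1) +
                (C (j : ℤ) * X a) * ((∏ i ∈ t, ((1 + X i) ^ j - 1)) - C ((j : ℤ) ^ t.card) * ∏ i ∈ t, X i) by
            rw [pow_succ, map_mul]; ring]
          refine add_mem ?_ ?_
          · have := Ideal.mul_mem_mul (hp a) ih.1
            rwa [← pow_add, show 2 + t.card = t.card + 1 + 1 by omega] at this
          · have := Ideal.mul_mem_mul (M.mul_mem_left (C (j : ℤ)) (hX a)) ih.2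
            rwa [← pow_succ'] at this
    rw [psiDiff, aeval_esymm_eq, esymm, Finset.mul_sum, ← Finset.sum_sub_distrib]
    refine sum_mem fun t ht => ?_
    have := (hprod t).2
    rwa [(Finset.mem_powersetCard.mp ht).2] at this
  ext s
  rw [coeff_homogeneousComponent, coeff_zero]
  split_ifs with hs
  · exact (mem_pow_idealOfVars_iff' (k + 1) _).mp hMem s (by omega)
  · rfl

theorem adams_gamma_pos (hK : HasSplitting K P) (j : ℕ) {e : K} (he : e ∈ P.pos) (k : ℕ) :
    adams P j (gamma k (e - ((P.aug e).toNat : K))) - (j : K) ^ k * gamma k (e - ((P.aug e).toNat : K)) ∈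
      gammaFiltration P (k + 1) := by
  obtain ⟨L, f, n, y, hf, hL, hn, hy, hsum⟩ := exists_ext_fin hK he
  rw [hn]
  set z : Fin n → L.carrier := fun i => y i - 1
  have hg : ∀ i : ℕ, f (gamma i (e - (n : K))) = aeval z (esymm (Fin n) ℤ i) := fun i => by
    rw [gamma_map hf.isLambdaHom, map_sub, map_natCast, ← hsum, gamma_sub_card_eq_aeval L.posStr y hy]
  obtain ⟨Φ, hΦ1, hΦ2⟩ := exists_esymm_rep_of_le (psiDiff_isSymmetric n j k) (k + 1)
    (homogeneousComponent_psiDiff n j k)
  have hcard : Fintype.card (Fin n) = n := Fintype.card_fin n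
  have key : adams P j (gamma k (e - (n : K))) - (j : K) ^ k * gamma k (e - (n : K)) =
      aeval (fun i : Fin (Fintype.card (Fin n)) => gamma ((i : ℕ) + 1) (e - (n : K))) Φ := by
    apply hf.injective
    have hfAlg : f (aeval (fun i : Fin (Fintype.card (Fin n)) => gamma ((i : ℕ) + 1) (e - (n : K))) Φ) =
        aeval (fun i : Fin (Fintype.card (Fin n)) => f (gamma ((i : ℕ) + 1) (e - (n : K)))) Φ := by
      rw [← RingHom.toIntAlgHom_apply f, ← AlgHom.comp_apply, comp_aeval]; rfl
    rw [hfAlg]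
    simp only [hg]
    rw [show aeval (fun i : Fin (Fintype.card (Fin n)) => aeval z (esymm (Fin n) ℤ ((i : ℕ) + 1))) Φ =
      aeval z (aeval (fun i : Fin (Fintype.card (Fin n)) => esymm (Fin n) ℤ ((i : ℕ) + 1)) Φ) by
        rw [← AlgHom.comp_apply, comp_aeval], hΦ1, map_sub, adams_map hf, map_mul, map_pow, map_natCast, hg,
      psiDiff, map_sub, map_mul, aeval_C]
    congr 1
    · rw [← AlgHom.comp_apply (aeval z), comp_aeval]
      have : adams L.posStr j (aeval z (esymm (Fin n) ℤ k)) =
          aeval (fun i => adams L.posStr j (z i)) (esymm (Fin n) ℤ k) := by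
        rw [show adams L.posStr j = (adamsRingHom hL j).toIntAlgHom from rfl, ← AlgHom.comp_apply, comp_aeval]
      rw [this]
      refine congrArg (fun v => aeval v (esymm (Fin n) ℤ k)) (funext fun i => ?_)
      rw [← adamsHom_apply, map_sub, adamsHom_apply, adamsHom_apply, adams_of_isLine _ (hy i), adams_one]
      simp [z]
    · simp
  rw [key]
  refine aeval_mem_gammaFiltration P _ (fun i => gamma_mem P ?_ le_rfl) Φ hΦ2
  rw [map_sub, map_natCast, ← hn, aug_toNat_cast P he, sub_self]

/-- the elements of F^m on which ψ^j acts as j^m modulo F^{m+1} -/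
noncomputable def eigenPart (P : PosStructure K) (j m : ℕ) : AddSubgroup K where
  carrier := {y | y ∈ gammaFiltration P m ∧ adams P j y - (j : K) ^ m * y ∈ gammaFiltration P (m + 1)}
  zero_mem' := ⟨zero_mem _, by simp [← adamsHom_apply]⟩
  add_mem' := fun {a b} ha hb => ⟨add_mem ha.1 hb.1, by
    rw [← adamsHom_apply, map_add, adamsHom_apply, adamsHom_apply, mul_add, add_sub_add_comm]
    exact add_mem ha.2 hb.2⟩
  neg_mem' := fun {a} ha => ⟨neg_mem ha.1, by
    rw [← adamsHom_apply, map_neg, adamsHom_apply, mul_neg, ← neg_sub', ]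
    exact neg_mem ha.2⟩

theorem mem_eigenPart {j m : ℕ} {y : K} :
    y ∈ eigenPart P j m ↔ y ∈ gammaFiltration P m ∧ adams P j y - (j : K) ^ m * y ∈ gammaFiltration P (m + 1) :=
  Iff.rfl

theorem one_mem_eigenPart (P : PosStructure K) (j : ℕ) : (1 : K) ∈ eigenPart P j 0 :=
  ⟨by simp [gammaFiltration], by simp [adams_one]⟩

theorem mul_mem_eigenPart (hK : HasSplitting K P) {j m k : ℕ} {a b : K} (ha : a ∈ eigenPart P j m)
    (hb : b ∈ eigenPart P j k) : a * b ∈ eigenPart P j (m + k) := by
  refine ⟨mul_mem_add P ha.1 hb.1, ?_⟩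
  have hψb : adams P j b ∈ gammaFiltration P k := by
    have := add_mem (gammaFiltration_antitone P (Nat.le_succ k) hb.2) (mul_mem_left P ((j : K) ^ k) hb.1)
    simpa using this
  rw [adams_mul hK, show adams P j a * adams P j b - (j : K) ^ (m + k) * (a * b) =
    (adams P j a - (j : K) ^ m * a) * adams P j b + ((j : K) ^ m * a) * (adams P j b - (j : K) ^ k * b) by ring]
  refine add_mem ?_ ?_
  · exact gammaFiltration_antitone P (le_of_eq (by omega)) (mul_mem_add P ha.2 hψb)
  · exact gammaFiltration_antitone P (le_of_eq (by omega)) (mul_mem_add P (mul_mem_left P _ ha.1) hb.2)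

theorem gamma_mem_eigenPart (hK : HasSplitting K P) (j : ℕ) {x : K} (hx : P.aug x = 0) (r : ℕ) :
    gamma r x ∈ eigenPart P j r := by
  obtain ⟨a, b, ha, hb, hab⟩ := P.exists_sub x
  have key : ∀ e ∈ P.pos, ∀ k, gamma k (e - ((P.aug e).toNat : K)) ∈ eigenPart P j k := fun e he k =>
    ⟨gamma_mem P (by rw [map_sub, map_natCast, aug_toNat_cast P he, sub_self]) le_rfl, adams_gamma_pos hK j he k⟩
  have hn : P.aug a = P.aug b := by rw [hab, map_sub, sub_eq_zero] at hx; exact hx
  induction r using Nat.strong_induction_on with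
  | _ r ih =>
    have h := gamma_add r x (b - ((P.aug b).toNat : K))
    rw [show x + (b - ((P.aug b).toNat : K)) = a - ((P.aug a).toNat : K) by rw [hn, hab]; ring,
      Finset.sum_range_succ, Nat.sub_self, gamma_zero, mul_one, eq_comm, ← eq_sub_iff_add_eq'] at h
    rw [h]
    refine sub_mem (key a ha r) (sum_mem fun i hi => ?_)
    rw [Finset.mem_range] at hi
    have := mul_mem_eigenPart hK (ih i hi) (key b hb (r - i))
    rwa [Nat.add_sub_cancel' hi.le] at this

theorem prod_mem_eigenPart (hK : HasSplitting K P) (j : ℕ) (l : List (ℕ × K)) (hl : ∀ p ∈ l, P.aug p.2 = 0) :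
    (l.map fun p => gamma p.1 p.2).prod ∈ eigenPart P j (l.map Prod.fst).sum := by
  induction l with
  | nil => exact one_mem_eigenPart P j
  | cons a l ih =>
    simp only [List.map_cons, List.prod_cons, List.sum_cons]
    exact mul_mem_eigenPart hK (gamma_mem_eigenPart hK j (hl a List.mem_cons_self) a.1)
      (ih fun p hp => hl p (List.mem_cons_of_mem a hp))

theorem adams_sub_pow_mem (hK : HasSplitting K P) (j n : ℕ) {x : K} (hx : x ∈ gammaFiltration P n) :
    adams P j x - (j : K) ^ n * x ∈ gammaFiltration P (n + 1) := by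
  rcases Nat.eq_zero_or_pos n with rfl | hn
  · rw [pow_zero, one_mul, zero_add]
    apply mem_one_of_aug_eq_zero
    obtain ⟨a, b, ha, hb, rfl⟩ := P.exists_sub x
    have : ∀ e ∈ P.pos, P.aug (adams P j e) = P.aug e := by
      intro e he
      obtain ⟨L, f, hf, -, h⟩ := exists_ext_split hK [e] (by simpa using he)
      obtain ⟨s, hs, hse⟩ := h e List.mem_cons_self
      have hs' : ∀ v ∈ s.map (fun u => u ^ j), L.posStr.IsLine v := fun v hv => by
        obtain ⟨w, hw, rfl⟩ := Multiset.mem_map.mp hv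
        exact isLine_pow _ (hs w hw) j
      rw [← hf.aug_comp, adams_map hf, ← hse, adams_multiset_sum_lines _ hs, aug_multiset_sum_lines _ hs',
        Multiset.card_map, ← hf.aug_comp e, ← hse, aug_multiset_sum_lines _ hs]
    rw [← adamsHom_apply, map_sub, map_sub, map_sub, adamsHom_apply, adamsHom_apply, this a ha, this b hb, map_sub,
      sub_self]
  refine gammaFiltration_induction P hn.ne'
    (motive := fun z => adams P j z - (j : K) ^ n * z ∈ gammaFiltration P (n + 1)) (fun l h1 h2 => ?_)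
    (by simp [← adamsHom_apply]) (fun a b ha hb => ?_) (fun a ha => ?_) hx
  · have h := mem_eigenPart.mp (prod_mem_eigenPart hK j l h1)
    rcases eq_or_lt_of_le h2 with h3 | h3
    · rw [← h3] at h; exact h.2
    · have hψ := add_mem (gammaFiltration_antitone P (Nat.le_succ _) h.2) (mul_mem_left P ((j : K) ^ (l.map Prod.fst).sum) h.1)
      rw [sub_add_cancel] at hψ
      exact sub_mem (gammaFiltration_antitone P h3 hψ) (mul_mem_left P _ (gammaFiltration_antitone P h3 h.1))
  · rw [← adamsHom_apply, map_add, adamsHom_apply, adamsHom_apply, mul_add, add_sub_add_comm]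
    exact add_mem ha hb
  · rw [← adamsHom_apply, map_neg, adamsHom_apply, mul_neg, ← neg_sub']
    exact neg_mem ha

theorem adams_mem_gammaFiltration (hK : HasSplitting K P) (j n : ℕ) {x : K} (hx : x ∈ gammaFiltration P n) :
    adams P j x ∈ gammaFiltration P n := by
  have := add_mem (gammaFiltration_antitone P (Nat.le_succ n) (adams_sub_pow_mem hK j n hx))
    (mul_mem_left P ((j : K) ^ n) hx)
  simpa using this

end Groth.Agent.LambdaLib
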