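import Groth.Prelude.Def_W4bkmilneecrracsp2Inv
import Groth.Agent.LambdaLib.Filtration

/-!
# λ-operations on sums of lines; alternating sums; involutions
-/

universe u

open PowerSeries Finset LambdaRing

namespace Groth.Agent.LambdaLib

variable {K : Type u} [CommRing K] [LambdaOps K]

theorem lam_sum_lines {ι : Type*} (s : Finset ι) (y : ι → K)
    (hy : ∀ i ∈ s, ∀ j : ℕ, 2 ≤ j → LambdaOps.lam j (y i) = 0) (k : ℕ) :
    LambdaOps.lam k (∑ i ∈ s, y i) = ∑ t ∈ s.powersetCard k, ∏ i ∈ t, y i := by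
  classical
  rw [← coeff_lamSeries, lamSeries_sum, Finset.prod_congr rfl fun i hi => lamSeries_of_line (hy i hi),
    Finset.prod_one_add, map_sum, Finset.powersetCard_eq_filter, Finset.sum_filter]
  refine Finset.sum_congr rfl fun t _ => ?_
  rw [Finset.prod_mul_distrib, Finset.prod_const, ← map_prod, ← monomial_eq_C_mul_X_pow, coeff_monomial]
  simp [eq_comm]

theorem prod_sub_one_eq {R : Type*} [CommRing R] {ι : Type*} [Fintype ι] (v : ι → R) :
    ∏ i, (1 - v i) = ∑ k ∈ range (Fintype.card ι + 1), (-1) ^ k * ∑ t ∈ (univ : Finset ι).powersetCard k, ∏ i ∈ t, v i := by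
  classical
  have h : ∏ i, (1 - v i) = ∏ i, (1 + (-1) * v i) := Finset.prod_congr rfl fun i _ => by ring
  rw [h, Finset.prod_one_add, Finset.sum_powerset, Finset.card_univ]
  refine Finset.sum_congr rfl fun k _ => ?_
  rw [Finset.mul_sum]
  refine Finset.sum_congr rfl fun t ht => ?_
  rw [Finset.prod_mul_distrib, Finset.prod_const, (Finset.mem_powersetCard.mp ht).2]

theorem powersetCard_univ_self (n : ℕ) : (univ : Finset (Fin n)).powersetCard n = {univ} := by
  have h := Finset.powersetCard_self (univ : Finset (Fin n))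
  rwa [Finset.card_univ, Fintype.card_fin] at h

theorem alt_lam_lines {n : ℕ} (y : Fin n → K) (hy : ∀ i, ∀ j : ℕ, 2 ≤ j → LambdaOps.lam j (y i) = 0) :
    ∑ k ∈ range (n + 1), (-1 : K) ^ k * LambdaOps.lam k (∑ i, y i) = ∏ i, (1 - y i) := by
  rw [prod_sub_one_eq, Fintype.card_fin]
  exact Finset.sum_congr rfl fun k _ => by rw [lam_sum_lines univ y fun i _ => hy i]

theorem alt_lam_eq_gamma (P : PosStructure K) {e : K} (he : e ∈ P.pos) :
    ∑ i ∈ range ((P.aug e).toNat + 1), (-1 : K) ^ i * LambdaOps.lam i e =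
      (-1) ^ (P.aug e).toNat * gamma (P.aug e).toNat (e - ((P.aug e).toNat : K)) := by
  set n := (P.aug e).toNat with hn
  have h := congrArg (Polynomial.eval 0) (gamma_sub_aug_identity P he)
  simp only [Polynomial.eval_finsetSum, Polynomial.eval_mul, Polynomial.eval_C, Polynomial.eval_pow,
    Polynomial.eval_X, Polynomial.eval_sub, Polynomial.eval_one, zero_sub, ← hn] at h
  rw [Finset.sum_eq_single n] at h
  · rw [Nat.sub_self, pow_zero, mul_one] at h
    rw [h, Finset.mul_sum]
    refine Finset.sum_congr rfl fun i hi => ?_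
    rw [Finset.mem_range] at hi
    obtain ⟨k, hk⟩ := Nat.exists_eq_add_of_le (show i ≤ n by omega)
    rw [hk, Nat.add_sub_cancel_left, mul_comm (LambdaOps.lam i e), ← mul_assoc, ← pow_add,
      show i + k + k = i + 2 * k by ring, pow_add, pow_mul, neg_one_sq, one_pow, mul_one]
  · intro i hi hne
    rw [Finset.mem_range] at hi
    rw [zero_pow (by omega), mul_zero]
  · simp

theorem alt_lam_mem (P : PosStructure K) {e : K} (he : e ∈ P.pos) :
    ∑ i ∈ range ((P.aug e).toNat + 1), (-1 : K) ^ i * LambdaOps.lam i e ∈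
      gammaFiltration P (P.aug e).toNat := by
  rw [alt_lam_eq_gamma P he]
  exact mul_mem_left P _ (gamma_mem P (by rw [map_sub, map_natCast, aug_toNat_cast P he, sub_self]) le_rfl)

theorem sum_compl_powersetCard {M : Type*} [CommMonoid M] {N : Type*} [AddCommMonoid N] (g : M → N) {n : ℕ}
    (f : Fin n → M) {k : ℕ} (hk : k ≤ n) :
    ∑ t ∈ (univ : Finset (Fin n)).powersetCard k, g (∏ i ∈ tᶜ, f i) =
      ∑ t ∈ (univ : Finset (Fin n)).powersetCard (n - k), g (∏ i ∈ t, f i) := by
  refine Finset.sum_bij' (fun t _ => tᶜ) (fun t _ => tᶜ) ?_ ?_ ?_ ?_ ?_ <;> intro t ht <;>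
    simp_all [Finset.mem_powersetCard, Finset.card_compl] <;> omega

/-- the data of a positive element split compatibly with an involution -/
theorem exists_inv_split {P : PosStructure K} {inv : K → K} (hS : HasInvSplitting P inv) {e : K} (he : e ∈ P.pos) :
    ∃ (L : PosLambdaRing.{u}) (f : K →+* L.carrier) (n : ℕ) (y z : Fin n → L.carrier),
      IsExtension P L.posStr f ∧ (P.aug e).toNat = n ∧ (∀ i, L.posStr.IsLine (y i)) ∧ (∀ i, L.posStr.IsLine (z i)) ∧
        (∀ i, z i * y i = 1) ∧ ∑ i, y i = f e ∧ ∑ i, z i = f (inv e) := by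
  obtain ⟨L, inv', f, hf, hV, hcomm, s, hs, hse⟩ := hS e he
  have hy : ∀ i : Fin s.toList.length, L.posStr.IsLine s.toList[i.1] :=
    fun i => hs _ (Multiset.mem_toList.mp (List.getElem_mem _))
  refine ⟨L, f, s.toList.length, fun i => s.toList[i.1], fun i => inv' s.toList[i.1], hf, ?_, hy,
    fun i => hV.inv_line _ (hy i), fun i => hV.inv_mul_self _ (hy i), ?_, ?_⟩
  · rw [← hf.aug_comp, ← hse, aug_multiset_sum_lines _ hs, Int.toNat_natCast, Multiset.length_toList]
  · rw [Fin.sum_univ_getElem, Multiset.sum_toList, hse]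
  · let I : L.carrier →+ L.carrier := AddMonoidHom.mk' inv' hV.map_add
    change ∑ i : Fin s.toList.length, I s.toList[i.1] = _
    rw [← map_sum, Fin.sum_univ_getElem, Multiset.sum_toList, hse, hcomm]
    rfl

end Groth.Agent.LambdaLib
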