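import Mathlib
import Groth.Prelude.Def_KRR
import Groth.Agent.LambdaLib.Lines

/-!
# The elementary extension of a λ-ring: the functional, its values, the annihilator of `1 - ℓ`
-/

set_option autoImplicit false

universe u

open Finset LambdaRing

namespace Groth.Agent.LambdaLib

variable {K : Type u} [CommRing K] [LambdaOps K] {P : PosStructure K} {e : K} {r : ℕ}

theorem sigma_zero (e : K) : KRR.sigma 0 e = 1 := by
  rw [KRR.sigma, KRR.sigmaSeries, PowerSeries.coeff_zero_eq_constantCoeff_apply,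
    PowerSeries.constantCoeff_invOfUnit]
  simp

theorem sigma_rec (e : K) (k : ℕ) :
    ∑ i ∈ range (k + 1), (-1 : K) ^ i * LambdaOps.lam i e * KRR.sigma (k - i) e = if k = 0 then 1 else 0 := by
  have h : PowerSeries.rescale (-1 : K) (lamSeries e) * KRR.sigmaSeries e = 1 := by
    refine PowerSeries.mul_invOfUnit _ _ ?_
    rw [← PowerSeries.coeff_zero_eq_constantCoeff_apply, PowerSeries.coeff_rescale, coeff_lamSeries,
      LambdaOps.lam_zero]
    simp
  have h2 := congrArg (PowerSeries.coeff k) h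
  rw [PowerSeries.coeff_mul, Finset.Nat.sum_antidiagonal_eq_sum_range_succ_mk, PowerSeries.coeff_one] at h2
  rw [← h2]
  refine Finset.sum_congr rfl fun i _ => ?_
  rw [PowerSeries.coeff_rescale, coeff_lamSeries, KRR.sigma]

theorem lam_eq_zero_of_lt (he : e ∈ P.pos) (hr : P.aug e = r + 1) {i : ℕ} (hi : r + 1 < i) :
    LambdaOps.lam i e = 0 := P.lam_eq_zero e he i (by rw [hr]; exact_mod_cast hi)

theorem sigma_rec_range (he : e ∈ P.pos) (hr : P.aug e = r + 1) {k : ℕ} (hk : r + 1 ≤ k) :
    ∑ i ∈ range (r + 2), (-1 : K) ^ i * LambdaOps.lam i e * KRR.sigma (k - i) e = 0 := by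
  have h := sigma_rec e k
  rw [if_neg (by omega)] at h
  rw [← h]
  refine Finset.sum_subset (fun i hi => ?_) (fun i _ hi => ?_)
  · simp only [Finset.mem_range] at hi ⊢; omega
  · simp only [Finset.mem_range] at hi
    rw [lam_eq_zero_of_lt he hr (by omega), mul_zero, zero_mul]

theorem extPoly_eq_sum (hr : P.aug e = r + 1) :
    KRR.extPoly P e =
      ∑ i ∈ range (r + 2), Polynomial.C ((-1 : K) ^ i * LambdaOps.lam i e) * Polynomial.X ^ (r + 1 - i) := by
  rw [KRR.extPoly, show (P.aug e).toNat = r + 1 by omega]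

theorem root_rel (hr : P.aug e = r + 1) :
    ∑ i ∈ range (r + 2), AdjoinRoot.of (KRR.extPoly P e) ((-1 : K) ^ i * LambdaOps.lam i e) *
      AdjoinRoot.root (KRR.extPoly P e) ^ (r + 1 - i) = 0 := by
  have h := congrArg (AdjoinRoot.mk (KRR.extPoly P e)) (extPoly_eq_sum (P := P) hr)
  rw [AdjoinRoot.mk_self, map_sum] at h
  refine Eq.trans (Finset.sum_congr rfl fun i _ => ?_) h.symm
  rw [map_mul, map_mul (AdjoinRoot.mk _), map_pow (AdjoinRoot.mk _), AdjoinRoot.mk_C, AdjoinRoot.mk_X, map_mul]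

theorem map_of_mul (f : AdjoinRoot (KRR.extPoly P e) →ₗ[K] K) (a : K) (x : AdjoinRoot (KRR.extPoly P e)) :
    f (AdjoinRoot.of (KRR.extPoly P e) a * x) = a * f x := by
  rw [← AdjoinRoot.algebraMap_eq, ← Algebra.smul_def, map_smul, smul_eq_mul]

theorem f_root_pow (he : e ∈ P.pos) (hr : P.aug e = r + 1) (f : AdjoinRoot (KRR.extPoly P e) →ₗ[K] K)
    (hf : ∀ i : ℕ, i ≤ r → f (AdjoinRoot.root (KRR.extPoly P e) ^ i) = KRR.sigma i e) (i : ℕ) :
    f (AdjoinRoot.root (KRR.extPoly P e) ^ i) = KRR.sigma i e := by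
  induction i using Nat.strong_induction_on with
  | _ i ih =>
    by_cases hi : i ≤ r
    · exact hf i hi
    have h := congrArg (fun z => f (z * AdjoinRoot.root (KRR.extPoly P e) ^ (i - (r + 1)))) (root_rel (P := P) hr)
    simp only [zero_mul, map_zero, Finset.sum_mul, map_sum, mul_assoc, ← pow_add, map_of_mul] at h
    have h2 := sigma_rec_range he hr (k := i) (by omega)
    rw [Finset.sum_range_succ'] at h h2
    simp only [pow_zero, LambdaOps.lam_zero, one_mul, mul_one, Nat.sub_zero] at h h2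
    rw [show r + 1 + (i - (r + 1)) = i by omega] at h
    rw [eq_neg_of_add_eq_zero_right h, eq_neg_of_add_eq_zero_right h2, neg_inj]
    refine Finset.sum_congr rfl fun k hk => ?_
    rw [Finset.mem_range] at hk
    rw [show r + 1 - (k + 1) + (i - (r + 1)) = i - (k + 1) by omega, ih _ (by omega), mul_assoc]

theorem pow_mul_root_pow {A : Type*} [CommMonoid A] {a b : A} (h : a * b = 1) (n m : ℕ) :
    a ^ n * b ^ m = if n ≤ m then b ^ (m - n) else a ^ (n - m) := by
  split_ifs with hnm
  · conv_lhs => rw [show m = n + (m - n) by omega]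
    rw [pow_add, ← mul_assoc, ← mul_pow, h, one_pow, one_mul]
  · conv_lhs => rw [show n = (n - m) + m by omega]
    rw [pow_add, mul_assoc, ← mul_pow, h, one_pow, mul_one]

theorem f_linv_pow (he : e ∈ P.pos) (hr : P.aug e = r + 1) (f : AdjoinRoot (KRR.extPoly P e) →ₗ[K] K)
    (hf : ∀ i : ℕ, i ≤ r → f (AdjoinRoot.root (KRR.extPoly P e) ^ i) = KRR.sigma i e)
    (linv : AdjoinRoot (KRR.extPoly P e)) (hlinv : linv * AdjoinRoot.root (KRR.extPoly P e) = 1) (n : ℕ)
    (hn1 : 1 ≤ n) (hn : n ≤ r) : f (linv ^ n) = 0 := by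
  induction n using Nat.strong_induction_on with
  | _ n ih =>
    have h := congrArg (fun z => f (z * linv ^ n)) (root_rel (P := P) hr)
    simp only [zero_mul, map_zero, Finset.sum_mul, map_sum, mul_assoc, map_of_mul] at h
    rw [Finset.sum_range_succ, Nat.sub_self, pow_zero, one_mul] at h
    have hz : ∑ i ∈ range (r + 1), (-1 : K) ^ i * (LambdaOps.lam i e *
        f (AdjoinRoot.root (KRR.extPoly P e) ^ (r + 1 - i) * linv ^ n)) = 0 := by
      have h2 := sigma_rec e (r + 1 - n)
      rw [if_neg (by omega)] at h2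
      rw [← h2]
      refine (Finset.sum_subset (fun i hi => ?_) fun i hi hi2 => ?_).symm.trans (Finset.sum_congr rfl fun i hi => ?_)
      · simp only [Finset.mem_range] at hi ⊢; omega
      · simp only [Finset.mem_range] at hi hi2
        rw [mul_comm (AdjoinRoot.root (KRR.extPoly P e) ^ (r + 1 - i)), pow_mul_root_pow hlinv, if_neg (by omega),
          ih _ (by omega) (by omega) (by omega), mul_zero, mul_zero]
      · rw [Finset.mem_range] at hi
        rw [mul_comm (AdjoinRoot.root (KRR.extPoly P e) ^ (r + 1 - i)), pow_mul_root_pow hlinv, if_pos (by omega),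
          f_root_pow he hr f hf, show r + 1 - i - n = r + 1 - n - i by omega, mul_assoc]
    rw [hz, zero_add] at h
    have hu : IsUnit (LambdaOps.lam (r + 1) e) := by
      have := P.isUnit_lam e he
      rwa [show (P.aug e).toNat = r + 1 by omega] at this
    have h3 : (-1 : K) ^ (r + 1) * LambdaOps.lam (r + 1) e * f (linv ^ n) = 0 := by rw [mul_assoc]; exact h
    exact (((isUnit_one.neg).pow (r + 1)).mul hu).mul_right_eq_zero.mp h3

section lamq

variable [inst : LambdaOps (AdjoinRoot (KRR.extPoly P e))]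
  (hext : ∀ (i : ℕ) (x : K), LambdaOps.lam i (AdjoinRoot.of (KRR.extPoly P e) x) =
      AdjoinRoot.of (KRR.extPoly P e) (LambdaOps.lam i x))
  (hroot : ∀ i : ℕ, 2 ≤ i → LambdaOps.lam i (AdjoinRoot.root (KRR.extPoly P e)) = 0)
include hext hroot

theorem lam_q (i : ℕ) :
    LambdaOps.lam i (AdjoinRoot.of (KRR.extPoly P e) e - AdjoinRoot.root (KRR.extPoly P e)) =
      ∑ j ∈ range (i + 1), AdjoinRoot.of (KRR.extPoly P e) (LambdaOps.lam (i - j) e) *
        (-AdjoinRoot.root (KRR.extPoly P e)) ^ j := by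
  induction i with
  | zero => simp [LambdaOps.lam_zero]
  | succ i ih =>
    have h := lamSeries_add (AdjoinRoot.of (KRR.extPoly P e) e - AdjoinRoot.root (KRR.extPoly P e))
      (AdjoinRoot.root (KRR.extPoly P e))
    rw [sub_add_cancel, lamSeries_of_line hroot] at h
    have h2 := congrArg (PowerSeries.coeff (i + 1)) h
    rw [mul_add, mul_one, map_add, ← mul_assoc, PowerSeries.coeff_succ_mul_X, PowerSeries.coeff_mul_C,
      coeff_lamSeries, coeff_lamSeries, coeff_lamSeries, hext] at h2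
    rw [Finset.sum_range_succ', Nat.sub_zero, pow_zero, mul_one, h2, ih, Finset.sum_mul, ← add_assoc,
      add_right_comm, ← Finset.sum_add_distrib]
    refine (zero_add (LambdaOps.lam (i + 1) _)).symm.trans (congrArg (· + _) ?_)
    symm
    refine Finset.sum_eq_zero fun j _ => ?_
    rw [show i + 1 - (j + 1) = i - j by omega, pow_succ]
    ring

theorem f_lam_q (he : e ∈ P.pos) (hr : P.aug e = r + 1) (f : AdjoinRoot (KRR.extPoly P e) →ₗ[K] K)
    (hf : ∀ i : ℕ, i ≤ r → f (AdjoinRoot.root (KRR.extPoly P e) ^ i) = KRR.sigma i e) (i : ℕ) :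
    f (LambdaOps.lam i (AdjoinRoot.of (KRR.extPoly P e) e - AdjoinRoot.root (KRR.extPoly P e))) =
      if i = 0 then 1 else 0 := by
  have hs := congrArg ((-1 : K) ^ i * ·) (sigma_rec e i)
  rw [lam_q hext hroot, map_sum]
  have h1 : ((-1 : K) ^ i * if i = 0 then 1 else 0) = if i = 0 then 1 else 0 := by
    split_ifs with h
    · simp [h]
    · simp
  rw [h1] at hs
  rw [← hs, Finset.mul_sum, ← Finset.sum_range_reflect]
  refine Finset.sum_congr rfl fun j hj => ?_
  rw [Finset.mem_range] at hj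
  rw [show i - (i + 1 - 1 - j) = j by omega, Nat.add_sub_cancel, neg_pow,
    show (-1 : AdjoinRoot (KRR.extPoly P e)) ^ (i - j) = AdjoinRoot.of (KRR.extPoly P e) ((-1) ^ (i - j)) by simp,
    ← mul_assoc, ← map_mul, map_of_mul, f_root_pow he hr f hf]
  have : (-1 : K) ^ (i - j) = (-1) ^ i * (-1) ^ j := by
    conv_rhs => rw [show i = (i - j) + j by omega]
    rw [pow_add, mul_assoc, ← mul_pow, neg_one_mul, neg_neg, one_pow, mul_one]
  rw [this]
  ring

theorem eq_mul_lamAlt_q (he : e ∈ P.pos) (hr : P.aug e = r + 1) (f : AdjoinRoot (KRR.extPoly P e) →ₗ[K] K)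
    (hf : ∀ i : ℕ, i ≤ r → f (AdjoinRoot.root (KRR.extPoly P e) ^ i) = KRR.sigma i e)
    (z : AdjoinRoot (KRR.extPoly P e)) (hz : z * (1 - AdjoinRoot.root (KRR.extPoly P e)) = 0) :
    z = AdjoinRoot.of (KRR.extPoly P e) (f z) * ∑ i ∈ range (r + 1), (-1 : AdjoinRoot (KRR.extPoly P e)) ^ i *
      LambdaOps.lam i (AdjoinRoot.of (KRR.extPoly P e) e - AdjoinRoot.root (KRR.extPoly P e)) := by
  set w := ∑ i ∈ range (r + 1), (-1 : AdjoinRoot (KRR.extPoly P e)) ^ i *
      LambdaOps.lam i (AdjoinRoot.of (KRR.extPoly P e) e - AdjoinRoot.root (KRR.extPoly P e)) with hw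
  have hfw : f w = 1 := by
    rw [hw, map_sum, Finset.sum_eq_single 0]
    · rw [pow_zero, one_mul, f_lam_q hext hroot he hr f hf, if_pos rfl]
    · intro i _ hi
      rw [show (-1 : AdjoinRoot (KRR.extPoly P e)) ^ i = AdjoinRoot.of (KRR.extPoly P e) ((-1) ^ i) by simp,
        map_of_mul, f_lam_q hext hroot he hr f hf, if_neg hi, mul_zero]
    · simp
  suffices ∃ c, z = AdjoinRoot.of (KRR.extPoly P e) c * w by
    obtain ⟨c, rfl⟩ := this
    rw [map_of_mul, hfw, mul_one]
  let a : ℕ → K := fun m => (-1) ^ m * LambdaOps.lam m e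
  let S : ℕ → Polynomial K := fun i => ∑ j ∈ range (i + 1), Polynomial.C (a (i - j)) * Polynomial.X ^ j
  have hSsucc : ∀ i, S (i + 1) = Polynomial.C (a (i + 1)) + Polynomial.X * S i := fun i => by
    simp only [S]
    rw [Finset.sum_range_succ', Finset.mul_sum, add_comm]
    congr 1
    · simp
    · refine Finset.sum_congr rfl fun j _ => ?_
      rw [show i + 1 - (j + 1) = i - j by omega, pow_succ]
      ring
  have htel : ∀ n, (Polynomial.X - 1) * ∑ i ∈ range (n + 1), S i =
      S (n + 1) - ∑ i ∈ range (n + 2), Polynomial.C (a i) := by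
    intro n
    induction n with
    | zero => simp [S, Finset.sum_range_succ, hSsucc]; ring
    | succ n ih => rw [Finset.sum_range_succ, mul_add, ih, hSsucc (n + 1), Finset.sum_range_succ _ (n + 2)]; ring
  have hSp : S (r + 1) = KRR.extPoly P e := by
    rw [extPoly_eq_sum hr]
    simp only [S]
    rw [← Finset.sum_range_reflect]
    refine Finset.sum_congr rfl fun i hi => ?_
    rw [Finset.mem_range] at hi
    rw [show r + 1 - (r + 1 + 1 - 1 - i) = i by omega, show r + 1 + 1 - 1 - i = r + 1 - i by omega]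
  let Q : Polynomial K := ∑ i ∈ range (r + 1), S i
  have hQ : (Polynomial.X - 1) * Q = KRR.extPoly P e - Polynomial.C (∑ i ∈ range (r + 2), a i) := by
    rw [htel, hSp, map_sum]
  have hQw : AdjoinRoot.mk (KRR.extPoly P e) Q = w := by
    rw [hw, map_sum]
    refine Finset.sum_congr rfl fun i _ => ?_
    rw [lam_q hext hroot, map_sum, Finset.mul_sum]
    refine Finset.sum_congr rfl fun j hj => ?_
    rw [Finset.mem_range] at hj
    rw [map_mul, map_pow, AdjoinRoot.mk_C, AdjoinRoot.mk_X, map_mul, map_pow, map_neg, map_one,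
      neg_pow (AdjoinRoot.root (KRR.extPoly P e))]
    have : (-1 : AdjoinRoot (KRR.extPoly P e)) ^ (i - j) = (-1) ^ i * (-1) ^ j := by
      conv_rhs => rw [show i = (i - j) + j by omega]
      rw [pow_add, mul_assoc, ← mul_pow, neg_one_mul, neg_neg, one_pow, mul_one]
    rw [this]
    ring
  -- monic of degree r + 1
  have hrest : (∑ i ∈ range (r + 1), Polynomial.C ((-1 : K) ^ (i + 1) * LambdaOps.lam (i + 1) e) *
      Polynomial.X ^ (r + 1 - (i + 1))).degree < ((r + 1 : ℕ) : WithBot ℕ) := by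
    refine lt_of_le_of_lt (Polynomial.degree_sum_le _ _) ((Finset.sup_lt_iff (WithBot.bot_lt_coe _)).mpr fun i _ => ?_)
    exact lt_of_le_of_lt (Polynomial.degree_C_mul_X_pow_le _ _) (by exact_mod_cast (show r + 1 - (i + 1) < r + 1 by omega))
  have hsplit : KRR.extPoly P e = Polynomial.X ^ (r + 1) + ∑ i ∈ range (r + 1),
      Polynomial.C ((-1 : K) ^ (i + 1) * LambdaOps.lam (i + 1) e) * Polynomial.X ^ (r + 1 - (i + 1)) := by
    rw [extPoly_eq_sum hr, Finset.sum_range_succ', add_comm]
    simp [LambdaOps.lam_zero]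
  have hmon : (KRR.extPoly P e).Monic := by
    rw [hsplit]; exact Polynomial.monic_X_pow_add hrest
  rcases subsingleton_or_nontrivial K with hK | hK
  · exact ⟨0, AdjoinRoot.mk_surjective.forall₂.mpr (fun a b => by rw [Subsingleton.elim a b]) _ _⟩
  have hdeg : (KRR.extPoly P e).natDegree = r + 1 := by
    rw [hsplit]
    refine Polynomial.natDegree_eq_of_degree_eq_some ?_
    rw [Polynomial.degree_add_eq_left_of_degree_lt (by rwa [Polynomial.degree_X_pow]), Polynomial.degree_X_pow]
  obtain ⟨g0, rfl⟩ := AdjoinRoot.mk_surjective z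
  let g := g0 %ₘ KRR.extPoly P e
  have hg : AdjoinRoot.mk (KRR.extPoly P e) g0 = AdjoinRoot.mk (KRR.extPoly P e) g := by
    conv_lhs => rw [← Polynomial.modByMonic_add_div g0 (KRR.extPoly P e)]
    simp [g]
  have hgdeg : g.natDegree ≤ r := by
    have := Polynomial.natDegree_modByMonic_lt g0 hmon (by
      intro h; rw [h, Polynomial.natDegree_one] at hdeg; omega)
    simp only [g]; omega
  have hdvd : KRR.extPoly P e ∣ (Polynomial.X - 1) * g := by
    rw [← AdjoinRoot.mk_eq_zero, map_mul, map_sub, AdjoinRoot.mk_X, map_one, ← hg]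
    linear_combination (-1 : AdjoinRoot (KRR.extPoly P e)) * hz
  obtain ⟨c, hc⟩ := hdvd
  have hcdeg : c.natDegree = 0 := by
    by_cases hc0 : c = 0
    · simp [hc0]
    have h1 := hmon.natDegree_mul' hc0
    rw [← hc] at h1
    have h2 : ((Polynomial.X - 1 : Polynomial K) * g).natDegree ≤ 1 + r :=
      Polynomial.natDegree_mul_le.trans (Nat.add_le_add (by compute_degree) hgdeg)
    omega
  obtain ⟨c0, rfl⟩ : ∃ c0, c = Polynomial.C c0 := ⟨c.coeff 0, Polynomial.eq_C_of_natDegree_eq_zero hcdeg⟩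
  refine ⟨c0, ?_⟩
  have h1 : (∑ i ∈ range (r + 2), a i) * c0 = 0 := by
    have e1 := congrArg (Polynomial.eval 1) hc
    have e2 := congrArg (Polynomial.eval 1) hQ
    simp only [Polynomial.eval_mul, Polynomial.eval_sub, Polynomial.eval_X, Polynomial.eval_one, sub_self, zero_mul,
      Polynomial.eval_C] at e1 e2
    linear_combination -e1 + c0 * e2
  have h2 : (Polynomial.X - 1) * g = (Polynomial.X - 1) * (Polynomial.C c0 * Q) := by
    rw [hc, mul_left_comm, hQ, mul_sub, ← map_mul, mul_comm c0, h1, map_zero, sub_zero, mul_comm]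
  have h3 : g = Polynomial.C c0 * Q :=
    (by simpa using Polynomial.monic_X_sub_C (1 : K) : (Polynomial.X - 1 : Polynomial K).Monic).isRegular.left h2
  rw [hg, h3, map_mul, AdjoinRoot.mk_C, hQw]

end lamq

end Groth.Agent.LambdaLib
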