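import Groth.Agent.LambdaLib.GammaThms

/-!
# γ-operations on multiples of λ_{-1}(N)
-/

universe u v

open Finset LambdaRing MvPolynomial

namespace Groth.Agent.LambdaLib

section algebra

variable {A : Type v} [CommRing A] [LambdaOps A]

theorem tq_mul_one_sub : tq A * (1 - PowerSeries.X) = PowerSeries.X := by
  rw [tq, mul_assoc, PowerSeries.mk_one_mul_one_sub_eq_one, mul_one]

theorem gamma_sub_rank (h1 : ∀ k : ℕ, 2 ≤ k → LambdaOps.lam k (1 : A) = 0) {d : ℕ} {N : A}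
    (hN : ∀ k : ℕ, d < k → LambdaOps.lam k N = 0) (k : ℕ) :
    gamma k (N - (d : A)) =
      ∑ j ∈ range (d + 1),
        if j ≤ k then LambdaOps.lam j N * ((-1) ^ (k - j) * ((d - j).choose (k - j) : A)) else 0 := by
  have hs : lamSeries N = ∑ j ∈ range (d + 1), PowerSeries.C (LambdaOps.lam j N) * PowerSeries.X ^ j := by
    ext m
    rw [coeff_lamSeries, map_sum]
    simp only [PowerSeries.coeff_C_mul_X_pow]
    rw [Finset.sum_ite_eq]
    simp only [Finset.mem_range]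
    split_ifs with h
    · rfl
    · exact hN m (by omega)
  rw [← coeff_gammaSeries, gammaSeries_sub_natCast h1, gammaSeries, hs, ← PowerSeries.coe_substAlgHom hasSubst_tq,
    map_sum, Finset.sum_mul, map_sum]
  refine Finset.sum_congr rfl fun j hj => ?_
  rw [Finset.mem_range] at hj
  rw [map_mul (PowerSeries.substAlgHom hasSubst_tq), map_pow (PowerSeries.substAlgHom hasSubst_tq),
    PowerSeries.substAlgHom_X hasSubst_tq]
  simp only [PowerSeries.coe_substAlgHom hasSubst_tq]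
  erw [PowerSeries.subst_C]
  rw [show d = j + (d - j) by omega, pow_add, mul_assoc, ← mul_assoc (tq A ^ j), ← mul_pow, tq_mul_one_sub,
    Nat.add_sub_cancel_left]
  erw [PowerSeries.coeff_C_mul]
  rw [PowerSeries.coeff_X_pow_mul', mul_ite, mul_zero, coeff_one_sub_X_pow]

theorem gamma_sub_rank_eq_zero (h1 : ∀ k : ℕ, 2 ≤ k → LambdaOps.lam k (1 : A) = 0) {d : ℕ} {N : A}
    (hN : ∀ k : ℕ, d < k → LambdaOps.lam k N = 0) {k : ℕ} (hk : d < k) : gamma k (N - (d : A)) = 0 := by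
  rw [gamma_sub_rank h1 hN]
  refine Finset.sum_eq_zero fun j hj => ?_
  rw [Finset.mem_range] at hj
  rw [if_pos (by omega), Nat.choose_eq_zero_of_lt (by omega), Nat.cast_zero, mul_zero, mul_zero]

theorem sum_alt_eq_gamma (h1 : ∀ k : ℕ, 2 ≤ k → LambdaOps.lam k (1 : A) = 0) {d : ℕ} {N : A}
    (hN : ∀ k : ℕ, d < k → LambdaOps.lam k N = 0) :
    (∑ j ∈ range (d + 1), (-1 : A) ^ j * LambdaOps.lam j N) = (-1) ^ d * gamma d (N - (d : A)) := by
  rw [gamma_sub_rank h1 hN, Finset.mul_sum]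
  refine Finset.sum_congr rfl fun j hj => ?_
  rw [Finset.mem_range] at hj
  rw [if_pos (by omega), Nat.choose_self, Nat.cast_one, mul_one]
  have h : ((-1 : A) ^ d) * (-1) ^ (d - j) = (-1) ^ j := by
    rw [← pow_add, show d + (d - j) = j + 2 * (d - j) by omega, pow_add, pow_mul, neg_one_sq, one_pow, mul_one]
  rw [← h]; ring

end algebra

/-! ### the universal polynomials of γ^d of an element of γ-dimension d -/

theorem map_genG_all {ι : Type} {S : Type u} [CommRing S] {N : ℕ} {e : Fin N → ι} (φ : MvPolynomial ι ℤ →+* S)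
    {g : ℕ → S} (h0 : g 0 = 1) (h : ∀ i : Fin N, φ (X (e i)) = g ((i : ℕ) + 1)) (hz : ∀ j, N < j → g j = 0) (j : ℕ) :
    φ (genG N e j) = g j := by
  rcases le_or_gt j N with hj | hj
  · exact map_genG φ h0 h hj
  · rw [hz j hj, genG, if_neg (by omega), dif_neg (by omega), map_zero]

/-- the universal λ^n γ^d -/
noncomputable def topLam (d n : ℕ) : MvPolynomial (Fin d) ℤ := lamGammaVal (genG d id) d n

/-- the universal γ^q γ^d -/
noncomputable def topGamma (d q : ℕ) : MvPolynomial (Fin d) ℤ := gamOf (topLam d) q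

section eval

variable {A : Type v} [CommRing A] [LambdaOps A]

theorem map_topLam {d : ℕ} (hd : 1 ≤ d) (hA : IsSpecial A) (φ : MvPolynomial (Fin d) ℤ →+* A) (w : A)
    (h : ∀ i : Fin d, φ (X i) = gamma ((i : ℕ) + 1) w) (hw : ∀ j, d < j → gamma j w = 0) (n : ℕ) :
    φ (topLam d n) = LambdaOps.lam n (gamma d w) := by
  rw [lam_gamma_eq hA hd, topLam, map_lamGammaVal]
  exact lamGammaVal_congr d n fun i _ => map_genG_all φ (g := fun i => gamma i w) (gamma_zero w) h hw i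

theorem map_topGamma {d : ℕ} (hd : 1 ≤ d) (hA : IsSpecial A) (φ : MvPolynomial (Fin d) ℤ →+* A) (w : A)
    (h : ∀ i : Fin d, φ (X i) = gamma ((i : ℕ) + 1) w) (hw : ∀ j, d < j → gamma j w = 0) (q : ℕ) :
    φ (topGamma d q) = gamma q (gamma d w) := by
  rw [gamma_eq_gamOf, topGamma, map_gamOf]
  exact gamOf_congr q fun n _ _ => map_topLam hd hA φ w h hw n

end eval

theorem gamma_uni_sum (σ : Type) [Fintype σ] (i : ℕ) :
    @gamma _ _ (uniOps σ) i (∑ a, X a : MvPolynomial σ ℚ) = esymm σ ℚ i := by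
  have h := gamma_sum_X (σ := σ) id i
  simpa using h

theorem esymm_eq_zero_of_lt {σ : Type} [Fintype σ] {R : Type} [CommRing R] {i : ℕ} (h : Fintype.card σ < i) :
    esymm σ R i = 0 := by
  rw [MvPolynomial.esymm, Finset.powersetCard_eq_empty.mpr (by simpa using h), Finset.sum_empty]

theorem topLam_last_dvd (d n : ℕ) (hn : 1 ≤ n) : X (Fin.last d) ∣ topLam (d + 1) n := by
  classical
  letI := uniOps (Fin d)
  set η := aeval (R := ℤ) fun k : Fin (d + 1) => esymm (Fin d) ℤ ((k : ℕ) + 1)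
  set w : MvPolynomial (Fin d) ℚ := ∑ a, X a
  have hη : η (topLam (d + 1) n) = 0 := by
    refine MvPolynomial.map_injective (Int.castRingHom ℚ) Int.cast_injective ?_
    rw [map_zero]
    change ((MvPolynomial.map (Int.castRingHom ℚ)).comp η.toRingHom) _ = 0
    rw [map_topLam (by omega) isSpecial_uni ((MvPolynomial.map (Int.castRingHom ℚ)).comp η.toRingHom) w
      (fun i => by simp [η, w, gamma_uni_sum, esymm_cast])
      (fun j hj => by rw [gamma_uni_sum, esymm_eq_zero_of_lt (by simp; omega)]),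
      gamma_uni_sum, esymm_eq_zero_of_lt (by simp), lam_apply_zero n (by omega)]
  set ψ : MvPolynomial (Fin (d + 1)) ℤ →ₐ[ℤ] MvPolynomial (Fin d) ℤ :=
    aeval fun k : Fin (d + 1) => Fin.lastCases 0 (fun i => X i) k
  have hψ : ψ (topLam (d + 1) n) = 0 := by
    refine aeval_esymm_injective (σ := Fin d) (R := ℤ) (n := d) (by simp) ?_
    rw [map_zero, ← hη, ← AlgHom.comp_apply]
    refine DFunLike.congr_fun (algHom_ext fun k => ?_) _
    induction k using Fin.lastCases with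
    | last => simp [ψ, η, esymm_eq_zero_of_lt]
    | cast i => simp [ψ, η]
  have h : ((Ideal.Quotient.mkₐ ℤ (Ideal.span {(X (Fin.last d) : MvPolynomial (Fin (d + 1)) ℤ)})).comp
      ((rename Fin.castSucc).comp ψ)) = Ideal.Quotient.mkₐ ℤ _ := by
    refine algHom_ext fun k => ?_
    induction k using Fin.lastCases with
    | last =>
      simp only [AlgHom.comp_apply, ψ, aeval_X, Fin.lastCases_last, map_zero, Ideal.Quotient.mkₐ_eq_mk]
      exact (Ideal.Quotient.eq_zero_iff_mem.mpr (Ideal.mem_span_singleton_self _)).symm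
    | cast i => simp [ψ]
  rw [← Ideal.mem_span_singleton, ← Ideal.Quotient.eq_zero_iff_mem, ← Ideal.Quotient.mkₐ_eq_mk ℤ, ← h]
  simp [hψ]

theorem topGamma_last_dvd (d q : ℕ) (hq : 1 ≤ q) : X (Fin.last d) ∣ topGamma (d + 1) q := by
  rw [topGamma, gamOf, if_neg (by omega)]
  refine Finset.dvd_sum fun n _ => dvd_mul_of_dvd_right ?_ _
  split_ifs with h
  · exact dvd_zero _
  · exact topLam_last_dvd d n (Nat.one_le_iff_ne_zero.mpr h)

variable {A : Type v} [CommRing A] [LambdaOps A]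

/-- D times the (m-d)-th step -/
noncomputable def dFil (𝔉 : IdealFil A) (D : A) (d m : ℕ) : Ideal A := Ideal.span {D} * 𝔉.F (m - d)

theorem mem_dFil {𝔉 : IdealFil A} {D : A} {d m : ℕ} {z : A} :
    z ∈ dFil 𝔉 D d m ↔ ∃ u ∈ 𝔉.F (m - d), D * u = z := Ideal.mem_span_singleton_mul

theorem dFil_le_span {𝔉 : IdealFil A} {D : A} {d m : ℕ} {z : A} (hz : z ∈ dFil 𝔉 D d m) : z ∈ Ideal.span {D} := by
  obtain ⟨u, -, rfl⟩ := mem_dFil.mp hz
  exact Ideal.mul_mem_right _ _ (Ideal.mem_span_singleton_self D)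

theorem dFil_le {𝔉 : IdealFil A} {D : A} {d a b : ℕ} (h : a ≤ b) {z : A} (hz : z ∈ dFil 𝔉 D d b) :
    z ∈ dFil 𝔉 D d a := by
  obtain ⟨u, hu, rfl⟩ := mem_dFil.mp hz
  exact mem_dFil.mpr ⟨u, 𝔉.le (by omega) hu, rfl⟩

theorem dFil_mul {𝔉 : IdealFil A} {D : A} {d a b : ℕ} {z y : A} (hz : z ∈ dFil 𝔉 D d a) (hy : y ∈ 𝔉.F b) :
    z * y ∈ dFil 𝔉 D d (a + b) := by
  obtain ⟨u, hu, rfl⟩ := mem_dFil.mp hz
  exact mem_dFil.mpr ⟨u * y, 𝔉.le (by omega) (𝔉.mul hu hy), by ring⟩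

theorem aeval_mem_dFil (𝔉 : IdealFil A) {w : A} (hw : w ∈ gammaBound 𝔉) (d m : ℕ)
    (Φ : MvPolynomial (Fin (d + 1)) ℤ) (hdvd : X (Fin.last d) ∣ Φ)
    (hΦ : MvPolynomial.map (Int.castRingHom ℚ) (aeval (fun k : Fin (d + 1) => esymm (Fin (d + 1)) ℤ ((k : ℕ) + 1)) Φ) ∈
      idealOfVars (Fin (d + 1)) ℚ ^ m) :
    aeval (fun k : Fin (d + 1) => gamma ((k : ℕ) + 1) w) Φ ∈ dFil 𝔉 (gamma (d + 1) w) (d + 1) m := by
  classical
  have hwt := weight_ge_of_aeval_mem (W := esWeight (d + 1)) (fun k => esymm_isHomogeneous' ((k : ℕ) + 1))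
    (aeval_esymm_injective (by simp)) hΦ
  obtain ⟨Ψ, rfl⟩ := hdvd
  rw [map_mul, aeval_X, Fin.val_last]
  refine mem_dFil.mpr ⟨_, 𝔉.aeval_mem (w := esWeight (d + 1)) (fun k => hw _) ?_, rfl⟩
  intro s hs
  have h := hwt (Finsupp.single (Fin.last d) 1 + s) (by
    rw [support_X_mul]; exact Finset.mem_map.mpr ⟨s, hs, rfl⟩)
  rw [map_add, Finsupp.weight_single, one_smul] at h
  simp only [esWeight, Fin.val_last] at h ⊢
  omega

theorem gamma_top_mem (hA : IsSpecial A) (𝔉 : IdealFil A) {w : A} (hw : w ∈ gammaBound 𝔉) {d : ℕ}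
    (hwz : ∀ j, d + 1 < j → gamma j w = 0) {q : ℕ} (hq : 1 ≤ q) :
    gamma q (gamma (d + 1) w) ∈ dFil 𝔉 (gamma (d + 1) w) (d + 1) q := by
  set v : Fin (d + 1) → A := fun k => gamma ((k : ℕ) + 1) w
  rw [← map_topGamma (Nat.succ_le_succ (Nat.zero_le d)) hA (aeval v).toRingHom w (fun i => by simp [v]) hwz q]
  refine aeval_mem_dFil 𝔉 hw d q _ (topGamma_last_dvd d q hq) ?_
  letI := uniOps (Fin (d + 1))
  change ((MvPolynomial.map (Int.castRingHom ℚ)).comp (aeval fun k : Fin (d + 1) => esymm (Fin (d + 1)) ℤ ((k : ℕ) + 1)).toRingHom) _ ∈ _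
  rw [map_topGamma (Nat.succ_le_succ (Nat.zero_le d)) isSpecial_uni _ (∑ a, X a : MvPolynomial (Fin (d + 1)) ℚ)
    (fun i => by simp [gamma_uni_sum, esymm_cast]) (fun j hj => by rw [gamma_uni_sum, esymm_eq_zero_of_lt (by simpa using hj)]) q]
  exact (gamma_gamma_bounds isSpecial_uni (degFil _)
    (lineDiffs_le_gammaBound (sum_mem fun i _ => X_mem_lineDiffs i)) (Nat.succ_le_succ (Nat.zero_le d))).2 q

theorem lam_top_sub_mem (hA : IsSpecial A) (𝔉 : IdealFil A) {w : A} (hw : w ∈ gammaBound 𝔉) {d : ℕ}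
    (hwz : ∀ j, d + 1 < j → gamma j w = 0) {n : ℕ} (hn : 1 ≤ n) :
    LambdaOps.lam n (gamma (d + 1) w) - (leadC (d + 1) n : A) * gamma (d + 1) w ∈
      dFil 𝔉 (gamma (d + 1) w) (d + 1) (d + 1 + 1) := by
  set v : Fin (d + 1) → A := fun k => gamma ((k : ℕ) + 1) w
  set Φ := topLam (d + 1) n - (leadC (d + 1) n : MvPolynomial (Fin (d + 1)) ℤ) * X (Fin.last d)
  have hval : aeval v Φ = LambdaOps.lam n (gamma (d + 1) w) - (leadC (d + 1) n : A) * gamma (d + 1) w := by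
    rw [map_sub, map_mul, map_intCast, aeval_X,
      ← map_topLam (Nat.succ_le_succ (Nat.zero_le d)) hA (aeval v).toRingHom w (fun i => by simp [v]) hwz n]
    simp [v]
  rw [← hval]
  refine aeval_mem_dFil 𝔉 hw d _ _ (dvd_sub (topLam_last_dvd d n hn) (dvd_mul_left _ _)) ?_
  letI := uniOps (Fin (d + 1))
  rw [map_sub, map_mul, map_intCast, aeval_X, map_sub, map_mul, map_intCast, Fin.val_last, esymm_cast]
  change ((MvPolynomial.map (Int.castRingHom ℚ)).comp (aeval fun k : Fin (d + 1) => esymm (Fin (d + 1)) ℤ ((k : ℕ) + 1)).toRingHom) _ - _ ∈ _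
  rw [map_topLam (Nat.succ_le_succ (Nat.zero_le d)) isSpecial_uni _ (∑ a, X a : MvPolynomial (Fin (d + 1)) ℚ)
    (fun i => by simp [gamma_uni_sum, esymm_cast]) (fun j hj => by rw [gamma_uni_sum, esymm_eq_zero_of_lt (by simpa using hj)]) n,
    gamma_uni_sum]
  exact (good_esymm (Nat.succ_le_succ (Nat.zero_le d))).lam n hn

theorem gammaMulVal_weight (p : ℕ) :
    ∀ s ∈ (gammaMulVal (genG p Sum.inl) (genG p Sum.inr) p : MvPolynomial (Fin p ⊕ Fin p) ℤ).support,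
      p ≤ Finsupp.weight (Sum.elim (fun k : Fin p => (k : ℕ) + 1) fun k : Fin p => (k : ℕ) + 1) s := by
  set W : Fin p ⊕ Fin p → ℕ := Sum.elim (fun k => (k : ℕ) + 1) fun k => (k : ℕ) + 1
  refine weight_ge_of_aeval_mem (W := W) (g := esymmPair ℤ p p) ?_ (aeval_esymmPair_injective ℤ p p) ?_
  · rintro (k | k)
    · simpa [esymmPair, W] using esymm_weighted (R := ℤ) (fun _ : Fin p ⊕ Fin p => (1 : ℕ)) 1 Sum.inl (fun _ => rfl) ((k : ℕ) + 1)
    · simpa [esymmPair, W] using esymm_weighted (R := ℤ) (fun _ : Fin p ⊕ Fin p => (1 : ℕ)) 1 Sum.inr (fun _ => rfl) ((k : ℕ) + 1)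
  letI := uniOps (Fin p ⊕ Fin p)
  have h2 : MvPolynomial.map (Int.castRingHom ℚ) (aeval (esymmPair ℤ p p) (gammaMulVal (genG p Sum.inl) (genG p Sum.inr) p)) =
      gamma p ((∑ a : Fin p, X (Sum.inl a)) * (∑ a : Fin p, X (Sum.inr a)) : MvPolynomial (Fin p ⊕ Fin p) ℚ) := by
    change ((MvPolynomial.map (Int.castRingHom ℚ)).comp (aeval (esymmPair ℤ p p)).toRingHom) _ = _
    rw [map_gammaMulVal, gamma_mul_eq isSpecial_uni]
    exact gammaMulVal_congr p (fun i hi => gamma_uni_genG (e := Sum.inl) (g := esymmPair ℤ p p) Sum.inl (fun k => rfl) hi)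
      (fun i hi => gamma_uni_genG (e := Sum.inr) (g := esymmPair ℤ p p) Sum.inr (fun k => rfl) hi)
  rw [h2]
  exact lineDiffs_le_gammaBound (mul_mem_lineDiffs (sum_mem fun a _ => X_mem_lineDiffs _) (sum_mem fun a _ => X_mem_lineDiffs _)) p

theorem gammaMulVal_mem_span {p : ℕ} (hp : 1 ≤ p) :
    (gammaMulVal (genG p Sum.inl) (genG p Sum.inr) p : MvPolynomial (Fin p ⊕ Fin p) ℤ) ∈
      Ideal.span ((X : Fin p ⊕ Fin p → MvPolynomial (Fin p ⊕ Fin p) ℤ) '' Set.range Sum.inr) := by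
  classical
  set I := Ideal.span ((X : Fin p ⊕ Fin p → MvPolynomial (Fin p ⊕ Fin p) ℤ) '' Set.range Sum.inr)
  have hg : ∀ j, 1 ≤ j → genG p (Sum.inr : Fin p → Fin p ⊕ Fin p) j ∈ I := by
    intro j hj
    rw [genG, if_neg (by omega)]
    split_ifs with h
    · exact Ideal.subset_span ⟨_, ⟨_, rfl⟩, rfl⟩
    · exact zero_mem _
  have hl : ∀ l, 1 ≤ l → lamOf (genG p (Sum.inr : Fin p → Fin p ⊕ Fin p)) l ∈ I := by
    intro l hl
    rw [lamOf, if_neg (by omega)]
    refine Ideal.sum_mem _ fun j _ => ?_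
    rcases j with _ | j
    · rw [Nat.sub_zero, Nat.choose_eq_zero_of_lt (by omega)]; simp
    · exact Ideal.mul_mem_right _ _ (hg _ (by omega))
  rw [gammaMulVal, gamOf, if_neg (by omega)]
  refine Ideal.sum_mem _ fun n _ => Ideal.mul_mem_left _ _ ?_
  split_ifs with hn0
  · exact zero_mem _
  · rw [aeval_def, eval₂_eq]
    refine Ideal.sum_mem _ fun s hs => Ideal.mul_mem_left _ _ ?_
    obtain ⟨k, hk⟩ : ∃ k, s (Sum.inr k) ≠ 0 := by
      have := (mulPoly_monomial_cases (Nat.one_le_iff_ne_zero.mpr hn0)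
        ((isMulPoly_pPoly n).2 (MvPolynomial.mem_support_iff.mp hs))).1.2
      by_contra! h0
      simp [h0] at this
    refine Ideal.prod_mem _ (Finsupp.mem_support_iff.mpr hk) ?_
    simp only [Sum.elim_inr]
    exact Ideal.pow_mem_of_mem _ (hl _ (by omega)) _ (Nat.pos_of_ne_zero hk)

theorem gamma_mul_mem_dFil (hA : IsSpecial A) (𝔉 : IdealFil A) {D : A} {d : ℕ} {a z : A} (ha : a ∈ gammaBound 𝔉)
    (hz : z ∈ gammaBound 𝔉) (hzD : ∀ q, 1 ≤ q → gamma q z ∈ dFil 𝔉 D d q) {p : ℕ} (hp : 1 ≤ p) :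
    gamma p (a * z) ∈ dFil 𝔉 D d p := by
  classical
  set v : Fin p ⊕ Fin p → A := Sum.elim (fun k : Fin p => gamma ((k : ℕ) + 1) a) fun k : Fin p => gamma ((k : ℕ) + 1) z
  set Φ : MvPolynomial (Fin p ⊕ Fin p) ℤ := gammaMulVal (genG p Sum.inl) (genG p Sum.inr) p
  have hval : aeval v Φ = gamma p (a * z) := by
    change (aeval v).toRingHom _ = _
    rw [map_gammaMulVal, gamma_mul_eq hA]
    exact gammaMulVal_congr p (fun i hi => map_genG _ (g := fun i => gamma i a) (gamma_zero a) (fun k => by simp [v]) hi)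
      (fun i hi => map_genG _ (g := fun i => gamma i z) (gamma_zero z) (fun k => by simp [v]) hi)
  rw [← hval, aeval_def, eval₂_eq]
  refine Ideal.sum_mem _ fun s hs => Ideal.mul_mem_left _ _ ?_
  obtain ⟨i, ⟨l, rfl⟩, hl⟩ := (mem_ideal_span_X_image.mp (gammaMulVal_mem_span hp)) s hs
  have hw := gammaMulVal_weight p s hs
  set W : Fin p ⊕ Fin p → ℕ := Sum.elim (fun k => (k : ℕ) + 1) fun k => (k : ℕ) + 1
  obtain ⟨s', rfl⟩ : ∃ s', s = Finsupp.single (Sum.inr l) 1 + s' :=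
    ⟨s - Finsupp.single (Sum.inr l) 1, (add_tsub_cancel_of_le (Finsupp.single_le_iff.mpr (Nat.one_le_iff_ne_zero.mpr hl))).symm⟩
  rw [map_add, Finsupp.weight_single, one_smul] at hw
  change (Finsupp.single (Sum.inr l) 1 + s').prod (fun i k => v i ^ k) ∈ _
  rw [Finsupp.prod_add_index' (fun i => pow_zero _) (fun i m n => pow_add _ _ _),
    Finsupp.prod_single_index (h := fun i k => v i ^ k) (pow_zero _), pow_one]
  refine dFil_le hw (dFil_mul (a := W (Sum.inr l)) (hzD ((l : ℕ) + 1) (Nat.succ_le_succ (Nat.zero_le _))) (𝔉.finsuppProd s' ?_))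
  rintro (k | k) -
  · exact ha _
  · exact hz _

section main

variable {K : Type u} [CommRing K] [LambdaOps K] [BinomialRing K] [Algebra K A]

theorem coeff_gamma_pow_mem_dFil (𝔉 : IdealFil A) {D : A} {d : ℕ} {z : A} (hz : z ∈ gammaBound 𝔉)
    (hzD : ∀ q, 1 ≤ q → gamma q z ∈ dFil 𝔉 D d q) :
    ∀ j n, PowerSeries.coeff n ((gammaSeries z - 1) ^ (j + 1)) ∈ dFil 𝔉 D d n := by
  have h1 : ∀ n, PowerSeries.coeff n (gammaSeries z - 1) ∈ dFil 𝔉 D d n := by
    intro n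
    rw [map_sub, coeff_gammaSeries, PowerSeries.coeff_one]
    rcases n with _ | n
    · simp
    · simpa using hzD (n + 1) (Nat.succ_le_succ (Nat.zero_le n))
  intro j
  induction j with
  | zero => intro n; simpa using h1 n
  | succ j ih =>
    intro n
    rw [pow_succ, PowerSeries.coeff_mul]
    refine Ideal.sum_mem _ fun p hp => ?_
    obtain rfl : p.1 + p.2 = n := by simpa using hp
    refine dFil_mul (ih _) ?_
    rw [map_sub, coeff_gammaSeries, PowerSeries.coeff_one]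
    split_ifs with h0
    · rw [h0]; exact 𝔉.mem_zero _
    · simpa using hz p.2

theorem gamma_scalar_mem_dFil (hA : IsSpecial A) (hKb : IsBinomial K) (halg : IsLambdaAlg K A) (𝔉 : IdealFil A)
    {D : A} {d : ℕ} {z : A} (hz : z ∈ gammaBound 𝔉) (hzD : ∀ q, 1 ≤ q → gamma q z ∈ dFil 𝔉 D d q) (k : K) {p : ℕ}
    (hp : 1 ≤ p) : gamma p (algebraMap K A k * z) ∈ dFil 𝔉 D d p := by
  rw [gamma_scalar_mul hA hKb halg, Finset.sum_range_succ']
  refine Ideal.add_mem _ (Ideal.sum_mem _ fun j _ => Ideal.mul_mem_left _ _ (coeff_gamma_pow_mem_dFil 𝔉 hz hzD j p)) ?_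
  simp [PowerSeries.coeff_one, show p ≠ 0 by omega]

variable {ε : A →ₐ[K] K}

theorem gamma_mul_top_mem (hKb : IsBinomial K) (hA : IsSpecial A) (hε : IsAugLambdaAlg K A ε) {w : A}
    (hw0 : ε w = 0) {d : ℕ} (hwz : ∀ j, d + 1 < j → gamma j w = 0) (x : A) {p : ℕ} (hp : 1 ≤ p) :
    gamma p (x * gamma (d + 1) w) ∈ dFil (gFil (ε : A →+* K)) (gamma (d + 1) w) (d + 1) p := by
  set 𝔉 := gFil (ε : A →+* K)
  have hw : w ∈ gammaBound 𝔉 := mem_gammaBound_gFil (ε : A →+* K) hw0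
  set D := gamma (d + 1) w
  have hDB : D ∈ gammaBound 𝔉 := (gamma_gamma_bounds hA 𝔉 hw (Nat.succ_le_succ (Nat.zero_le d))).2
  have hD : ∀ q, 1 ≤ q → gamma q D ∈ dFil 𝔉 D (d + 1) q := fun q hq => gamma_top_mem hA 𝔉 hw hwz hq
  have ha : x - algebraMap K A (ε x) ∈ gammaBound 𝔉 := mem_gammaBound_gFil (ε : A →+* K) (by simp)
  rw [show x * D = (x - algebraMap K A (ε x)) * D + algebraMap K A (ε x) * D by ring, gamma_add]
  refine Ideal.sum_mem _ fun i hi => ?_
  rw [Finset.mem_range] at hi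
  rcases Nat.eq_zero_or_pos i with rfl | hi0
  · rw [gamma_zero, one_mul, Nat.sub_zero]
    exact gamma_scalar_mem_dFil hA hKb hε.isLambdaAlg 𝔉 hDB hD _ hp
  · exact dFil_le (by omega) (dFil_mul (gamma_mul_mem_dFil hA 𝔉 ha hDB hD hi0)
      (scalar_mem_gammaBound hA hKb hε.isLambdaAlg 𝔉 (ε x) hDB (p - i)))

theorem lam_mul_top_sub_mem (hA : IsSpecial A) (𝔉 : IdealFil A) {w : A} (hw : w ∈ gammaBound 𝔉) {d : ℕ}
    (hwz : ∀ j, d + 1 < j → gamma j w = 0) {i : ℕ} (hi : 1 ≤ i) {x : A} (hx : Good 𝔉 i x) {n : ℕ} (hn : 1 ≤ n) :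
    LambdaOps.lam n (x * gamma (d + 1) w) - (leadC (i + (d + 1)) n : A) * (x * gamma (d + 1) w) ∈
      dFil 𝔉 (gamma (d + 1) w) (d + 1) (d + 1 + i + 1) := by
  set D := gamma (d + 1) w
  have hsub : ∀ l, 1 ≤ l → LambdaOps.lam l D - (leadC (d + 1) l : A) * D ∈ dFil 𝔉 D (d + 1) (d + 1 + 1) :=
    fun l hl => lam_top_sub_mem hA 𝔉 hw hwz hl
  have hDl : ∀ l, 1 ≤ l → LambdaOps.lam l D ∈ Ideal.span {D} := fun l hl => by
    rw [show LambdaOps.lam l D = (LambdaOps.lam l D - (leadC (d + 1) l : A) * D) + (leadC (d + 1) l : A) * D by ring]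
    refine Ideal.add_mem _ (dFil_le_span (hsub l hl)) (Ideal.mul_mem_left _ _ (Ideal.mem_span_singleton_self D))
  obtain ⟨P, hP⟩ := exists_isMulPoly n
  have h := mulPoly_linear_split hn hP (fun l => LambdaOps.lam l x) (fun l => LambdaOps.lam l D) (𝔉.F i)
    (Ideal.span {D}) (fun l hl => hx.lam_mem hl) hDl
  rw [← hA.lam_mul n P hP] at h
  have hDF : D ∈ 𝔉.F (d + 1) := hw _
  have hle : 𝔉.F i * 𝔉.F i * Ideal.span {D} ⊔ 𝔉.F i * Ideal.span {D} * Ideal.span {D} ≤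
      dFil 𝔉 D (d + 1) (d + 1 + i + 1) := by
    refine sup_le ?_ ?_
    · rw [dFil, mul_comm]
      refine Ideal.mul_mono_right (Ideal.mul_le.mpr fun a ha b hb => 𝔉.le (by omega) (𝔉.mul ha hb))
    · rw [dFil, mul_comm (𝔉.F i) (Ideal.span {D}), mul_assoc]
      refine Ideal.mul_mono_right (Ideal.mul_le.mpr fun a ha b hb => ?_)
      obtain ⟨c, rfl⟩ := Ideal.mem_span_singleton.mp hb
      exact 𝔉.le (by omega) (𝔉.mul ha (Ideal.mul_mem_right c _ hDF))
  have h2 : ((-1) ^ (n - 1) * (n : A)) * (LambdaOps.lam n x * LambdaOps.lam n D) - (leadC (i + (d + 1)) n : A) * (x * D) ∈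
      dFil 𝔉 D (d + 1) (d + 1 + i + 1) := by
    rw [← leadC_mul hi (Nat.succ_le_succ (Nat.zero_le d)), Int.cast_mul, Int.cast_mul, Int.cast_mul, Int.cast_pow,
      Int.cast_neg, Int.cast_one, Int.cast_natCast,
      show ((-1) ^ (n - 1) * (n : A)) * (LambdaOps.lam n x * LambdaOps.lam n D) -
        (-1) ^ (n - 1) * (n : A) * ((leadC i n : A) * (leadC (d + 1) n : A)) * (x * D) =
      ((-1) ^ (n - 1) * (n : A)) * ((LambdaOps.lam n D - (leadC (d + 1) n : A) * D) * LambdaOps.lam n x +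
        (leadC (d + 1) n : A) * (D * (LambdaOps.lam n x - (leadC i n : A) * x))) by ring]
    refine Ideal.mul_mem_left _ _ (Ideal.add_mem _ (dFil_le (by omega) (dFil_mul (hsub n hn) (hx.lam_mem hn)))
      (Ideal.mul_mem_left _ _ ?_))
    exact mem_dFil.mpr ⟨_, 𝔉.le (by omega) (hx.lam n hn), rfl⟩
  rw [show LambdaOps.lam n (x * D) - (leadC (i + (d + 1)) n : A) * (x * D) =
    (LambdaOps.lam n (x * D) - (-1) ^ (n - 1) * (n : A) * (LambdaOps.lam n x * LambdaOps.lam n D)) +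
    ((-1) ^ (n - 1) * (n : A) * (LambdaOps.lam n x * LambdaOps.lam n D) - (leadC (i + (d + 1)) n : A) * (x * D)) by ring]
  exact Ideal.add_mem _ (hle h) h2

theorem gamma_sub_lead_mem {z : A} {m : ℕ} (hm : 1 ≤ m) {I : Ideal A}
    (h : ∀ n, 1 ≤ n → LambdaOps.lam n z - (leadC m n : A) * z ∈ I) :
    gamma m z - (-1 : A) ^ (m - 1) * ((m - 1).factorial : A) * z ∈ I := by
  have hc := congrArg (fun c : ℤ => (c : A)) (sum_choose_leadC m hm)
  simp only [Int.cast_sum, Int.cast_mul, Int.cast_natCast, Int.cast_pow, Int.cast_neg, Int.cast_one, apply_ite Int.cast,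
    Int.cast_zero] at hc
  rw [← hc, Finset.sum_mul, gamma, if_neg (by omega), ← Finset.sum_sub_distrib]
  refine Ideal.sum_mem _ fun n _ => ?_
  rw [mul_assoc, ← mul_sub]
  refine Ideal.mul_mem_left _ _ ?_
  split_ifs with hn
  · simp
  · exact h n (Nat.one_le_iff_ne_zero.mpr hn)

theorem gamma_mul_top_sub_mem (hKb : IsBinomial K) (hA : IsSpecial A) (hε : IsAugLambdaAlg K A ε) {w : A}
    (hw0 : ε w = 0) {d : ℕ} (hwz : ∀ j, d + 1 < j → gamma j w = 0) {i : ℕ} {x : A}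
    (hx : x ∈ gammaFil (ε : A →+* K) i) :
    gamma (d + 1 + i) (x * gamma (d + 1) w) -
        (-1 : A) ^ (d + 1 + i - 1) * ((d + 1 + i - 1).factorial : A) * (x * gamma (d + 1) w) ∈
      dFil (gFil (ε : A →+* K)) (gamma (d + 1) w) (d + 1) (d + 1 + i + 1) := by
  set 𝔉 := gFil (ε : A →+* K)
  have hw : w ∈ gammaBound 𝔉 := mem_gammaBound_gFil (ε : A →+* K) hw0
  rcases Nat.eq_zero_or_pos i with rfl | hi
  swap
  · refine gamma_sub_lead_mem (by omega) fun n hn => ?_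
    rw [add_comm (d + 1) i, add_comm i (d + 1)]
    have h := lam_mul_top_sub_mem hA 𝔉 hw hwz hi (good_of_mem hKb hA hε hi hx) hn
    rwa [add_comm i (d + 1)] at h
  simp only [add_zero]
  set D := gamma (d + 1) w
  set G := dFil 𝔉 D (d + 1) (d + 1 + 1)
  have hDB : D ∈ gammaBound 𝔉 := (gamma_gamma_bounds hA 𝔉 hw (Nat.succ_le_succ (Nat.zero_le d))).2
  have hD : ∀ q, 1 ≤ q → gamma q D ∈ dFil 𝔉 D (d + 1) q := fun q hq => gamma_top_mem hA 𝔉 hw hwz hq
  set k := algebraMap K A (ε x)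
  set a := x - k
  have ha0 : (ε : A →+* K) a = 0 := by simp [a, k]
  have hga : Good 𝔉 1 a := by
    have := (gamma_gamma_bounds hA 𝔉 (mem_gammaBound_gFil (ε : A →+* K) ha0) le_rfl).1
    rwa [gamma_one] at this
  have haD : a * D ∈ G := by
    rw [mul_comm]; exact mem_dFil.mpr ⟨a, 𝔉.le (by omega) hga.mem, rfl⟩
  have hlam : ∀ n, 1 ≤ n → LambdaOps.lam n (a * D) ∈ G := by
    intro n hn
    rw [show LambdaOps.lam n (a * D) = (LambdaOps.lam n (a * D) - (leadC (1 + (d + 1)) n : A) * (a * D)) +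
      (leadC (1 + (d + 1)) n : A) * (a * D) by ring]
    exact Ideal.add_mem _ (dFil_le (by omega) (lam_mul_top_sub_mem hA 𝔉 hw hwz le_rfl hga hn)) (Ideal.mul_mem_left _ _ haD)
  have hgam : ∀ q, 1 ≤ q → gamma q (a * D) ∈ G := by
    intro q hq
    rw [gamma, if_neg (by omega)]
    refine Ideal.sum_mem _ fun n _ => Ideal.mul_mem_left _ _ ?_
    split_ifs with h
    · exact zero_mem _
    · exact hlam n (Nat.one_le_iff_ne_zero.mpr h)
  have hk : gamma (d + 1) (k * D) - k * gamma (d + 1) D ∈ G := by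
    rw [gamma_scalar_mul hA hKb hε.isLambdaAlg, Finset.sum_range_succ', Finset.sum_range_succ']
    simp only [pow_zero, PowerSeries.coeff_one, Nat.succ_ne_zero, if_false, mul_zero, add_zero, zero_add, pow_one,
      Ring.choose_one_right, map_sub, coeff_gammaSeries, sub_zero, add_sub_cancel_right, k]
    refine Ideal.sum_mem _ fun j _ => Ideal.mul_mem_left _ _ ?_
    have hI : ∀ l, PowerSeries.coeff l (gammaSeries D - 1) ∈ Ideal.span {D} := by
      intro l
      rw [map_sub, coeff_gammaSeries, PowerSeries.coeff_one]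
      rcases l with _ | l
      · simp
      · simpa using dFil_le_span (hD (l + 1) (Nat.succ_le_succ (Nat.zero_le l)))
    have h2 := Ideal.pow_le_pow_right (show 2 ≤ j + 1 + 1 by omega) (coeff_pow_mem hI (j + 1 + 1) (d + 1))
    rw [pow_two] at h2
    refine (Ideal.mul_mono_right ?_) h2
    rw [Ideal.span_le, Set.singleton_subset_iff]
    exact 𝔉.le (by omega) (hw _)
  have hDlead : gamma (d + 1) D - (-1 : A) ^ (d + 1 - 1) * ((d + 1 - 1).factorial : A) * D ∈ G :=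
    gamma_sub_lead_mem (Nat.succ_le_succ (Nat.zero_le d)) fun n hn => lam_top_sub_mem hA 𝔉 hw hwz hn
  set c := (-1 : A) ^ (d + 1 - 1) * ((d + 1 - 1).factorial : A)
  have hsum : gamma (d + 1) (x * D) - gamma (d + 1) (k * D) ∈ G := by
    rw [show x * D = a * D + k * D by simp [a]; ring, gamma_add, Finset.sum_range_succ']
    simp only [gamma_zero, one_mul, Nat.sub_zero, add_sub_cancel_right]
    exact Ideal.sum_mem _ fun j _ => Ideal.mul_mem_right _ _ (hgam _ (by omega))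
  rw [show gamma (d + 1) (x * D) - c * (x * D) = (gamma (d + 1) (x * D) - gamma (d + 1) (k * D)) +
    (gamma (d + 1) (k * D) - k * gamma (d + 1) D) + k * (gamma (d + 1) D - c * D) - c * (a * D) by simp [a]; ring]
  exact Ideal.sub_mem _ (Ideal.add_mem _ (Ideal.add_mem _ hsum hk) (Ideal.mul_mem_left _ _ hDlead))
    (Ideal.mul_mem_left _ _ haD)

end main

theorem mem_gammaFil_of_mul_alt_eq {K : Type u} [CommRing K] [LambdaOps K] [BinomialRing K] (hKb : IsBinomial K)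
    [Algebra K A] (hA : IsSpecial A) {ε : A →ₐ[K] K} (hε : IsAugLambdaAlg K A ε) {d : ℕ} (hd : 1 ≤ d) {N : A}
    (hN : ∀ k : ℕ, d < k → LambdaOps.lam k N = 0) (hNε : ε N = (d : K))
    (hnzd : (∑ j ∈ range (d + 1), (-1 : A) ^ j * LambdaOps.lam j N) ∈ nonZeroDivisors A) {p : ℕ} (hp : 1 ≤ p)
    {x y : A} (hy : y * (∑ j ∈ range (d + 1), (-1 : A) ^ j * LambdaOps.lam j N) =
      gamma p (x * ∑ j ∈ range (d + 1), (-1 : A) ^ j * LambdaOps.lam j N)) :
    y ∈ gammaFil (ε : A →+* K) (p - d) := by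
  obtain ⟨d, rfl⟩ : ∃ e, d = e + 1 := ⟨d - 1, by omega⟩
  have h1 := hA.lam_one_eq_zero
  rw [sum_alt_eq_gamma h1 hN] at hy hnzd
  set w := N - ((d + 1 : ℕ) : A)
  set s := (-1 : A) ^ (d + 1)
  have hs : s * s = 1 := by rw [← mul_pow, neg_one_mul, neg_neg, one_pow]
  have hw0 : ε w = 0 := by simp [w, hNε]
  obtain ⟨u, hu, hu'⟩ := mem_dFil.mp (gamma_mul_top_mem hKb hA hε hw0 (fun j hj => gamma_sub_rank_eq_zero h1 hN hj) (x * s) hp)
  have h : (y - u * s) * (s * gamma (d + 1) w) = 0 := by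
    rw [← mul_assoc x, ← hu'] at hy
    linear_combination hy - u * gamma (d + 1) w * hs
  rw [sub_eq_zero.mp ((mul_right_mem_nonZeroDivisors_eq_zero_iff hnzd).mp h)]
  exact Ideal.mul_mem_right _ _ hu

theorem sub_mem_gammaFil_of_mul_alt_eq {K : Type u} [CommRing K] [LambdaOps K] [BinomialRing K] (hKb : IsBinomial K)
    [Algebra K A] (hA : IsSpecial A) {ε : A →ₐ[K] K} (hε : IsAugLambdaAlg K A ε) {d : ℕ} (hd : 1 ≤ d) {N : A}
    (hN : ∀ k : ℕ, d < k → LambdaOps.lam k N = 0) (hNε : ε N = (d : K))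
    (hnzd : (∑ j ∈ range (d + 1), (-1 : A) ^ j * LambdaOps.lam j N) ∈ nonZeroDivisors A) {i : ℕ} {x : A}
    (hx : x ∈ gammaFil (ε : A →+* K) i) {y : A}
    (hy : y * (∑ j ∈ range (d + 1), (-1 : A) ^ j * LambdaOps.lam j N) =
      gamma (d + i) (x * ∑ j ∈ range (d + 1), (-1 : A) ^ j * LambdaOps.lam j N)) :
    y - (-1 : A) ^ (d + i - 1) * ((d + i - 1).factorial : A) * x ∈ gammaFil (ε : A →+* K) (i + 1) := by
  obtain ⟨d, rfl⟩ : ∃ e, d = e + 1 := ⟨d - 1, by omega⟩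
  have h1 := hA.lam_one_eq_zero
  rw [sum_alt_eq_gamma h1 hN] at hy hnzd
  set w := N - ((d + 1 : ℕ) : A)
  set s := (-1 : A) ^ (d + 1)
  have hs : s * s = 1 := by rw [← mul_pow, neg_one_mul, neg_neg, one_pow]
  have hw0 : ε w = 0 := by simp [w, hNε]
  obtain ⟨u, hu, hu'⟩ := mem_dFil.mp (gamma_mul_top_sub_mem hKb hA hε hw0
    (fun j hj => gamma_sub_rank_eq_zero h1 hN hj) (x := x * s) (Ideal.mul_mem_right s _ hx))
  rw [show d + 1 + i + 1 - (d + 1) = i + 1 by omega] at hu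
  set c := (-1 : A) ^ (d + 1 + i - 1) * ((d + 1 + i - 1).factorial : A)
  have h : (y - (c * x + u * s)) * (s * gamma (d + 1) w) = 0 := by
    rw [← mul_assoc x] at hy
    linear_combination hy - hu' - u * gamma (d + 1) w * hs
  rw [sub_eq_zero.mp ((mul_right_mem_nonZeroDivisors_eq_zero_iff hnzd).mp h), add_sub_cancel_left]
  exact Ideal.mul_mem_right _ _ hu

end Groth.Agent.LambdaLib
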