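import Mathlib
import Groth.Prelude.Def_KRR
import Groth.Agent.LambdaLib.LamAlt
import Groth.Agent.LambdaLib.KRRExt

/-!
# The γ-filtration of an elementary extension
-/

set_option autoImplicit false

universe u

open Finset LambdaRing

namespace Groth.Agent.LambdaLib

theorem lam_mul_line {A : Type u} [CommRing A] [LambdaOps A] {Q : PosStructure A} (hA : HasSplitting A Q) {p w : A}
    (hp : p ∈ Q.pos) (hw : Q.IsLine w) (k : ℕ) : LambdaOps.lam k (p * w) = LambdaOps.lam k p * w ^ k := by
  obtain ⟨L, f, n, y, hf, -, -, hy, hsum⟩ := exists_ext_fin hA hp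
  apply hf.injective
  rw [map_mul, map_pow, hf.isLambdaHom, hf.isLambdaHom, map_mul, ← hsum, Finset.sum_mul,
    lam_sum_lines univ (fun i => y i * f w)
      (fun i _ => lam_line_eq_zero L.posStr (isLine_mul _ (hy i) (isLine_map hf hw))),
    lam_sum_lines univ y (fun i _ => lam_line_eq_zero L.posStr (hy i)), Finset.sum_mul]
  refine Finset.sum_congr rfl fun t ht => ?_
  rw [Finset.prod_mul_distrib, Finset.prod_const, (Finset.mem_powersetCard.mp ht).2]

variable {K : Type u} [CommRing K] [LambdaOps K] {P : PosStructure K} {e : K} {r : ℕ}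

/-- the candidate filtration -/
noncomputable def extFil (P : PosStructure K) (e : K) (r k : ℕ) : AddSubgroup (AdjoinRoot (KRR.extPoly P e)) :=
  ⨆ i ∈ Finset.range (r + 1), AddSubgroup.map
    ((AddMonoidHom.mulRight ((AdjoinRoot.root (KRR.extPoly P e) - 1) ^ i)).comp
      (AdjoinRoot.of (KRR.extPoly P e)).toAddMonoidHom)
    (gammaFiltration P (k - i))

theorem mem_extFil {k i : ℕ} {a : K} (hi : i ≤ r) (ha : a ∈ gammaFiltration P (k - i)) :
    (AdjoinRoot.of (KRR.extPoly P e)) a * (AdjoinRoot.root (KRR.extPoly P e) - 1) ^ i ∈ extFil P e r k :=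
  AddSubgroup.mem_iSup_of_mem i (AddSubgroup.mem_iSup_of_mem (Finset.mem_range.mpr (by omega)) ⟨a, ha, rfl⟩)

theorem extFil_induction {k : ℕ} {motive : AdjoinRoot (KRR.extPoly P e) → Prop}
    (gen : ∀ i ≤ r, ∀ a ∈ gammaFiltration P (k - i), motive ((AdjoinRoot.of (KRR.extPoly P e)) a * (AdjoinRoot.root (KRR.extPoly P e) - 1) ^ i)) (zero : motive 0)
    (add : ∀ a b, motive a → motive b → motive (a + b))
    {z : AdjoinRoot (KRR.extPoly P e)} (hz : z ∈ extFil P e r k) : motive z := by
  refine AddSubgroup.iSup_induction _ (C := motive) hz (fun i x hx => ?_) zero add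
  refine AddSubgroup.iSup_induction _ (C := motive) hx (fun hi y hy => ?_) zero add
  obtain ⟨a, ha, rfl⟩ := hy
  exact gen i (by simp at hi; omega) a ha

theorem extFil_antitone {m k : ℕ} (h : m ≤ k) {z : AdjoinRoot (KRR.extPoly P e)} (hz : z ∈ extFil P e r k) :
    z ∈ extFil P e r m :=
  extFil_induction (fun _ hi _ ha => mem_extFil hi (gammaFiltration_antitone P (by omega) ha)) (zero_mem _)
    (fun _ _ => add_mem) hz

theorem of_mul_extFil {j k : ℕ} {c : K} (hc : c ∈ gammaFiltration P j) {z : AdjoinRoot (KRR.extPoly P e)}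
    (hz : z ∈ extFil P e r k) : (AdjoinRoot.of (KRR.extPoly P e)) c * z ∈ extFil P e r (j + k) :=
  extFil_induction (motive := fun z => (AdjoinRoot.of (KRR.extPoly P e)) c * z ∈ extFil P e r (j + k))
    (fun i hi a ha => by
      rw [← mul_assoc, ← map_mul]
      exact mem_extFil hi (gammaFiltration_antitone P (by omega) (mul_mem_add P hc ha)))
    (by simp) (fun a b ha hb => by simpa [mul_add] using add_mem ha hb) hz

theorem root_sub_one_rel (he : e ∈ P.pos) (hr : P.aug e = r + 1) :
    ∑ i ∈ range (r + 2), (AdjoinRoot.of (KRR.extPoly P e)) (gamma i (e - ((r + 1 : ℕ) : K))) *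
      (1 - AdjoinRoot.root (KRR.extPoly P e)) ^ (r + 1 - i) = 0 := by
  have h := congrArg (Polynomial.eval₂ ((AdjoinRoot.of (KRR.extPoly P e))) (1 - AdjoinRoot.root (KRR.extPoly P e))) (gamma_sub_aug_identity P he)
  simp only [Polynomial.eval₂_finsetSum, Polynomial.eval₂_mul, Polynomial.eval₂_C, Polynomial.eval₂_pow,
    Polynomial.eval₂_X, Polynomial.eval₂_sub, Polynomial.eval₂_one, show (P.aug e).toNat = r + 1 by omega] at h
  rw [h]
  calc _ = (-1) ^ (r + 1) * ∑ i ∈ range (r + 2), (AdjoinRoot.of (KRR.extPoly P e)) ((-1 : K) ^ i * LambdaOps.lam i e) *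
        AdjoinRoot.root (KRR.extPoly P e) ^ (r + 1 - i) := by
        rw [Finset.mul_sum]
        refine Finset.sum_congr rfl fun i hi => ?_
        rw [Finset.mem_range] at hi
        rw [map_mul, map_pow, map_neg, map_one, show (1 : AdjoinRoot (KRR.extPoly P e)) -
          AdjoinRoot.root (KRR.extPoly P e) - 1 = -1 * AdjoinRoot.root (KRR.extPoly P e) by ring, mul_pow,
          show (-1 : AdjoinRoot (KRR.extPoly P e)) ^ (r + 1) = (-1) ^ (r + 1 - i) * (-1) ^ i by
            rw [← pow_add]; congr 1; omega]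
        have : (-1 : AdjoinRoot (KRR.extPoly P e)) ^ i * (-1) ^ i = 1 := by
          rw [← mul_pow, neg_one_mul, neg_neg, one_pow]
        linear_combination (-((-1 : AdjoinRoot (KRR.extPoly P e)) ^ (r + 1 - i) * (AdjoinRoot.of (KRR.extPoly P e)) (LambdaOps.lam i e) *
          AdjoinRoot.root (KRR.extPoly P e) ^ (r + 1 - i))) * this
    _ = 0 := by rw [root_rel (P := P) hr, mul_zero]

theorem T_pow_succ_mem (he : e ∈ P.pos) (hr : P.aug e = r + 1) : ((AdjoinRoot.root (KRR.extPoly P e) - 1) : AdjoinRoot (KRR.extPoly P e)) ^ (r + 1) ∈ extFil P e r (r + 1) := by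
  have h0 : P.aug (e - ((r + 1 : ℕ) : K)) = 0 := by rw [map_sub, map_natCast, hr]; push_cast; ring
  have h := root_sub_one_rel he hr
  rw [Finset.sum_range_succ', Nat.sub_zero, show gamma 0 (e - ((r + 1 : ℕ) : K)) = 1 by simp [gamma], map_one,
    one_mul, show (1 : AdjoinRoot (KRR.extPoly P e)) - AdjoinRoot.root (KRR.extPoly P e) = -1 * (AdjoinRoot.root (KRR.extPoly P e) - 1) by ring, mul_pow] at h
  have hsgn : (-1 : AdjoinRoot (KRR.extPoly P e)) ^ (r + 1) * (-1) ^ (r + 1) = 1 := by
    rw [← mul_pow, neg_one_mul, neg_neg, one_pow]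
  have h2 : ((AdjoinRoot.root (KRR.extPoly P e) - 1) : AdjoinRoot (KRR.extPoly P e)) ^ (r + 1) = -((-1) ^ (r + 1) * ∑ k ∈ range (r + 1),
      (AdjoinRoot.of (KRR.extPoly P e)) (gamma (k + 1) (e - ((r + 1 : ℕ) : K))) * (-1 * (AdjoinRoot.root (KRR.extPoly P e) - 1)) ^ (r + 1 - (k + 1))) := by
    linear_combination ((-1 : AdjoinRoot (KRR.extPoly P e)) ^ (r + 1)) * h - (AdjoinRoot.root (KRR.extPoly P e) - 1) ^ (r + 1) * hsgn
  rw [h2, Finset.mul_sum]
  refine neg_mem (sum_mem fun k hk => ?_)
  rw [Finset.mem_range] at hk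
  rw [mul_pow, show (-1 : AdjoinRoot (KRR.extPoly P e)) ^ (r + 1) * ((AdjoinRoot.of (KRR.extPoly P e)) (gamma (k + 1) (e - ((r + 1 : ℕ) : K))) *
      ((-1) ^ (r + 1 - (k + 1)) * (AdjoinRoot.root (KRR.extPoly P e) - 1) ^ (r + 1 - (k + 1)))) = (AdjoinRoot.of (KRR.extPoly P e)) ((-1) ^ (r + 1) * (-1) ^ (r + 1 - (k + 1)) *
      gamma (k + 1) (e - ((r + 1 : ℕ) : K))) * (AdjoinRoot.root (KRR.extPoly P e) - 1) ^ (r + 1 - (k + 1)) by
    simp only [map_mul, map_pow, map_neg, map_one]; ring]
  exact mem_extFil (by omega) (mul_mem_left P _ (gamma_mem P h0 (by omega)))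

theorem T_mul_extFil (he : e ∈ P.pos) (hr : P.aug e = r + 1) {k : ℕ} {z : AdjoinRoot (KRR.extPoly P e)}
    (hz : z ∈ extFil P e r k) : ((AdjoinRoot.root (KRR.extPoly P e) - 1) : AdjoinRoot (KRR.extPoly P e)) * z ∈ extFil P e r (k + 1) := by
  refine extFil_induction (motive := fun z => (AdjoinRoot.root (KRR.extPoly P e) - 1) * z ∈ extFil P e r (k + 1)) (fun i hi a ha => ?_) (by simp)
    (fun a b ha hb => by simpa [mul_add] using add_mem ha hb) hz
  rw [mul_left_comm, ← pow_succ']
  rcases Nat.lt_or_eq_of_le hi with h | rfl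
  · exact mem_extFil h (gammaFiltration_antitone P (by omega) ha)
  · exact extFil_antitone (by omega) (of_mul_extFil ha (T_pow_succ_mem he hr))

theorem mul_mem_extFil (he : e ∈ P.pos) (hr : P.aug e = r + 1) {j k : ℕ} {x y : AdjoinRoot (KRR.extPoly P e)}
    (hx : x ∈ extFil P e r j) (hy : y ∈ extFil P e r k) : x * y ∈ extFil P e r (j + k) := by
  refine extFil_induction (motive := fun x => x * y ∈ extFil P e r (j + k)) (fun i hi a ha => ?_) (by simp)
    (fun a b ha hb => by simpa [add_mul] using add_mem ha hb) hx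
  have hT : ∀ m, ((AdjoinRoot.root (KRR.extPoly P e) - 1) : AdjoinRoot (KRR.extPoly P e)) ^ m * y ∈ extFil P e r (k + m) := fun m => by
    induction m with
    | zero => simpa using hy
    | succ m ih => rw [pow_succ', mul_assoc]; exact T_mul_extFil he hr ih
  rw [mul_assoc]
  exact extFil_antitone (by omega) (of_mul_extFil ha (hT i))

theorem pow_mem_extFil (he : e ∈ P.pos) (hr : P.aug e = r + 1) {j : ℕ} {x : AdjoinRoot (KRR.extPoly P e)}
    (hx : x ∈ extFil P e r j) : ∀ m : ℕ, x ^ m ∈ extFil P e r (j * m)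
  | 0 => by simpa using mem_extFil (P := P) (e := e) (r := r) (k := 0) (i := 0) (a := 1) (Nat.zero_le r) (by simp [gammaFiltration])
  | m + 1 => by rw [pow_succ, Nat.mul_succ]; exact mul_mem_extFil he hr (pow_mem_extFil he hr hx m) hx

theorem mem_extFil_zero (he : e ∈ P.pos) (hr : P.aug e = r + 1) (z : AdjoinRoot (KRR.extPoly P e)) :
    z ∈ extFil P e r 0 := by
  have hof : ∀ a : K, (AdjoinRoot.of (KRR.extPoly P e)) a ∈ extFil P e r 0 := fun a => by
    simpa using mem_extFil (P := P) (e := e) (r := r) (k := 0) (i := 0) (a := a) (Nat.zero_le r) (by simp [gammaFiltration])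
  have hroot : AdjoinRoot.root (KRR.extPoly P e) ∈ extFil P e r 0 := by
    have h := add_mem (extFil_antitone (Nat.zero_le 1) (T_mul_extFil he hr (hof 1))) (hof 1)
    rwa [map_one, mul_one, sub_add_cancel] at h
  obtain ⟨g, rfl⟩ := AdjoinRoot.mk_surjective z
  induction g using Polynomial.induction_on' with
  | add p q hp hq => rw [map_add]; exact add_mem hp hq
  | monomial n a =>
    rw [← Polynomial.C_mul_X_pow_eq_monomial, map_mul, map_pow, AdjoinRoot.mk_C, AdjoinRoot.mk_X]
    simpa using mul_mem_extFil he hr (hof a) (pow_mem_extFil he hr hroot n)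

section main

variable [inst : LambdaOps (AdjoinRoot (KRR.extPoly P e))] {Pe : PosStructure (AdjoinRoot (KRR.extPoly P e))}
  (hext : IsExtension P Pe ((AdjoinRoot.of (KRR.extPoly P e)))) (he : e ∈ P.pos) (hr : P.aug e = r + 1)
  (hline : Pe.IsLine (AdjoinRoot.root (KRR.extPoly P e))) (hsplit : HasSplitting (AdjoinRoot (KRR.extPoly P e)) Pe)

include hext he hr hsplit in
theorem gamma_monomial_mem {p : K} (hp : p ∈ P.pos) {w : AdjoinRoot (KRR.extPoly P e)} (hw : Pe.IsLine w)
    (hw1 : w - 1 ∈ extFil P e r 1) (s : ℕ) :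
    gamma s ((AdjoinRoot.of (KRR.extPoly P e)) p * w - ((P.aug p).toNat : AdjoinRoot (KRR.extPoly P e))) ∈ extFil P e r s := by
  set n := (P.aug p).toNat with hn
  have hpos : (AdjoinRoot.of (KRR.extPoly P e)) p * w ∈ Pe.pos := Pe.mul_mem _ _ (hext.pos_subset p hp) hw.1
  have haug : (Pe.aug ((AdjoinRoot.of (KRR.extPoly P e)) p * w)).toNat = n := by rw [map_mul, hext.aug_comp, hw.2, mul_one]
  rcases le_or_gt s n with hsn | hsn
  swap
  · rw [gamma_sub_rank_eq_zero (lam_one_eq_zero Pe) (fun k hk => Pe.lam_eq_zero _ hpos k (by omega)) hsn]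
    exact zero_mem _
  obtain ⟨wu, hwu⟩ := isUnit_of_isLine Pe hw
  have hid : ∑ i ∈ range (n + 1), Polynomial.C (gamma i ((AdjoinRoot.of (KRR.extPoly P e)) p * w - (n : AdjoinRoot (KRR.extPoly P e)))) * Polynomial.X ^ (n - i) =
      ∑ i ∈ range (n + 1), Polynomial.C ((AdjoinRoot.of (KRR.extPoly P e)) (gamma i (p - (n : K))) * w ^ i) *
        (Polynomial.X + Polynomial.C (w - 1)) ^ (n - i) := by
    have h1 := gamma_sub_aug_identity Pe hpos
    rw [haug] at h1
    rw [h1]
    have h2 := congrArg (Polynomial.eval₂ (Polynomial.C.comp ((AdjoinRoot.of (KRR.extPoly P e))))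
      ((Polynomial.X + Polynomial.C (w - 1)) * Polynomial.C (↑wu⁻¹ : AdjoinRoot (KRR.extPoly P e))))
      (gamma_sub_aug_identity P hp)
    simp only [Polynomial.eval₂_finsetSum, Polynomial.eval₂_mul, Polynomial.eval₂_C, Polynomial.eval₂_pow,
      Polynomial.eval₂_X, Polynomial.eval₂_sub, Polynomial.eval₂_one, RingHom.comp_apply, ← hn] at h2
    have hwi : Polynomial.C (↑wu⁻¹ : AdjoinRoot (KRR.extPoly P e)) * Polynomial.C w = 1 := by
      rw [← map_mul, ← hwu, Units.inv_mul, map_one]
    have hpow : ∀ i ≤ n, ∀ q : Polynomial (AdjoinRoot (KRR.extPoly P e)),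
        Polynomial.C w ^ n * (q * Polynomial.C (↑wu⁻¹ : AdjoinRoot (KRR.extPoly P e))) ^ (n - i) =
          Polynomial.C w ^ i * q ^ (n - i) := by
      intro i hi q
      conv_lhs => arg 1; rw [show n = i + (n - i) by omega]
      rw [pow_add, mul_assoc, ← mul_pow, mul_left_comm (Polynomial.C w), mul_comm (Polynomial.C w), hwi, mul_one]
    calc _ = Polynomial.C w ^ n * ∑ i ∈ range (n + 1), Polynomial.C ((AdjoinRoot.of (KRR.extPoly P e)) (LambdaOps.lam i p)) *
          ((Polynomial.X + Polynomial.C (w - 1)) * Polynomial.C (↑wu⁻¹ : AdjoinRoot (KRR.extPoly P e)) - 1) ^ (n - i) := by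
          rw [Finset.mul_sum]
          refine Finset.sum_congr rfl fun i hi => ?_
          rw [Finset.mem_range] at hi
          rw [lam_mul_line hsplit (hext.pos_subset p hp) hw, ← hext.isLambdaHom, mul_left_comm,
            show (Polynomial.X + Polynomial.C (w - 1)) * Polynomial.C (↑wu⁻¹ : AdjoinRoot (KRR.extPoly P e)) - 1 =
              (Polynomial.X - 1) * Polynomial.C (↑wu⁻¹ : AdjoinRoot (KRR.extPoly P e)) by
              rw [map_sub, map_one]; linear_combination hwi, hpow i (by omega), map_mul, map_pow]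
          ring
      _ = _ := by
          rw [← h2, Finset.mul_sum]
          refine Finset.sum_congr rfl fun i hi => ?_
          rw [Finset.mem_range] at hi
          rw [mul_left_comm, hpow i (by omega), map_mul, map_pow]
          ring
  have h3 := congrArg (fun q => Polynomial.coeff q (n - s)) hid
  simp only [Polynomial.finsetSum_coeff, Polynomial.coeff_C_mul, Polynomial.coeff_X_pow,
    Polynomial.coeff_X_add_C_pow, mul_ite, mul_one, mul_zero] at h3
  rw [Finset.sum_eq_single s (f := fun i => if n - s = n - i then gamma i ((AdjoinRoot.of (KRR.extPoly P e)) p * w - (n : AdjoinRoot (KRR.extPoly P e))) else 0)] at h3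
  rotate_left
  · intro i hi hne
    rw [Finset.mem_range] at hi
    rw [if_neg (by omega)]
  · intro hs; simp at hs; omega
  rw [if_pos rfl] at h3
  rw [h3]
  refine sum_mem fun i hi => ?_
  rw [Finset.mem_range] at hi
  rcases le_or_gt i s with his | his
  swap
  · rw [Nat.choose_eq_zero_of_lt (show n - i < n - s by omega)]
    simp
  have hg : (AdjoinRoot.of (KRR.extPoly P e)) (gamma i (p - (n : K))) ∈ extFil P e r i := by
    simpa using mem_extFil (P := P) (e := e) (r := r) (k := i) (i := 0) (a := gamma i (p - (n : K))) (Nat.zero_le r)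
      (gamma_mem P (by rw [map_sub, map_natCast, hn, aug_toNat_cast P hp, sub_self]) le_rfl)
  have hW : (w - 1) ^ (n - i - (n - s)) ∈ extFil P e r (s - i) := by
    have := pow_mem_extFil he hr hw1 (n - i - (n - s))
    rw [one_mul] at this
    exact extFil_antitone (by omega) this
  have hres := mul_mem_extFil he hr (mul_mem_extFil he hr hg (mem_extFil_zero he hr (w ^ i)))
    (mul_mem_extFil he hr hW (mem_extFil_zero he hr ((Nat.choose (n - i) (n - s) : ℕ) : AdjoinRoot (KRR.extPoly P e))))
  rwa [show i + 0 + (s - i + 0) = s by omega] at hres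

include hext he hr hline hsplit in
theorem gamma_mem_extFil {x : AdjoinRoot (KRR.extPoly P e)} (hx : Pe.aug x = 0) (s : ℕ) :
    gamma s x ∈ extFil P e r s := by
  let S : Set (AdjoinRoot (KRR.extPoly P e)) := {y | ∀ s, gamma s y ∈ extFil P e r s}
  have hadd : ∀ a b, a ∈ S → b ∈ S → a + b ∈ S := fun a b ha hb s => by
    rw [← coeff_gammaSeries, gammaSeries_add, PowerSeries.coeff_mul]
    refine sum_mem fun q hq => ?_
    rw [coeff_gammaSeries, coeff_gammaSeries]
    exact extFil_antitone (Finset.HasAntidiagonal.mem_antidiagonal.mp hq).ge (mul_mem_extFil he hr (ha _) (hb _))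
  have h1 : (1 : AdjoinRoot (KRR.extPoly P e)) ∈ extFil P e r 0 := mem_extFil_zero he hr 1
  have hneg : ∀ a, a ∈ S → -a ∈ S := fun a ha s => by
    induction s using Nat.strong_induction_on with
    | _ s ih =>
      rcases Nat.eq_zero_or_pos s with rfl | hs
      · simpa [gamma] using h1
      have h := gamma_apply_zero (K := AdjoinRoot (KRR.extPoly P e)) s (by omega)
      rw [← add_neg_cancel a, ← coeff_gammaSeries, gammaSeries_add, PowerSeries.coeff_mul,
        Finset.Nat.sum_antidiagonal_eq_sum_range_succ_mk, Finset.sum_range_succ', coeff_gammaSeries] at h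
      simp only [coeff_gammaSeries, Nat.sub_zero, show gamma 0 a = 1 from if_pos rfl, one_mul] at h
      rw [add_neg_cancel] at h
      rw [eq_neg_of_add_eq_zero_right h]
      refine neg_mem (sum_mem fun k hk => ?_)
      rw [Finset.mem_range] at hk
      exact extFil_antitone (by omega) (mul_mem_extFil he hr (ha (k + 1)) (ih (s - (k + 1)) (by omega)))
  have hzero : (0 : AdjoinRoot (KRR.extPoly P e)) ∈ S := fun s => by
    rcases Nat.eq_zero_or_pos s with rfl | hs
    · simpa [gamma] using h1
    · rw [gamma_apply_zero s (by omega)]; exact zero_mem _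
  suffices ∀ z : AdjoinRoot (KRR.extPoly P e), z - (Pe.aug z : AdjoinRoot (KRR.extPoly P e)) ∈ S by
    have := this x
    rw [hx, Int.cast_zero, sub_zero] at this
    exact this s
  intro z
  obtain ⟨g, rfl⟩ := AdjoinRoot.mk_surjective z
  induction g using Polynomial.induction_on' with
  | add p q hp hq =>
    convert hadd _ _ hp hq using 1
    rw [map_add, map_add]; push_cast; ring
  | monomial i a =>
    rw [← Polynomial.C_mul_X_pow_eq_monomial, map_mul, map_pow, AdjoinRoot.mk_C, AdjoinRoot.mk_X]
    set w := AdjoinRoot.root (KRR.extPoly P e) ^ i with hw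
    have hwl : Pe.IsLine w := isLine_pow Pe hline i
    have hw1 : w - 1 ∈ extFil P e r 1 := by
      rw [hw, ← mul_geom_sum]
      have := mul_mem_extFil he hr (T_mul_extFil he hr h1) (mem_extFil_zero he hr (∑ k ∈ range i, AdjoinRoot.root (KRR.extPoly P e) ^ k))
      simpa [mul_comm] using this
    obtain ⟨p, q, hp, hq, rfl⟩ := P.exists_sub a
    convert hadd _ _ (fun s => gamma_monomial_mem hext he hr hsplit hp hwl hw1 s)
      (hneg _ fun s => gamma_monomial_mem hext he hr hsplit hq hwl hw1 s) using 1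
    rw [map_sub, sub_mul, map_sub, map_mul, map_mul, hext.aug_comp, hext.aug_comp, hwl.2, mul_one, mul_one,
      ← aug_toNat_cast P hp, ← aug_toNat_cast P hq]
    push_cast
    simp only [Int.toNat_natCast]
    ring

include hext he hr hline hsplit in
theorem gammaFiltration_ext_eq (k : ℕ) : gammaFiltration Pe k = extFil P e r k := by
  refine le_antisymm (fun z hz => ?_) fun z hz => ?_
  · rcases Nat.eq_zero_or_pos k with rfl | hk
    · exact mem_extFil_zero he hr z
    refine gammaFiltration_induction Pe (by omega) (motive := fun z => z ∈ extFil P e r k) (fun l hl hsum => ?_)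
      (zero_mem _) (fun _ _ => add_mem) (fun _ => neg_mem) hz
    have key : ∀ l : List (ℕ × AdjoinRoot (KRR.extPoly P e)), (∀ p ∈ l, Pe.aug p.2 = 0) →
        (l.map fun p => gamma p.1 p.2).prod ∈ extFil P e r (l.map Prod.fst).sum := by
      intro l
      induction l with
      | nil => intro _; exact mem_extFil_zero he hr _
      | cons p l ih =>
        intro h
        rw [List.map_cons, List.map_cons, List.prod_cons, List.sum_cons]
        exact mul_mem_extFil he hr (gamma_mem_extFil hext he hr hline hsplit (h p List.mem_cons_self) p.1)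
          (ih fun q hq => h q (List.mem_cons_of_mem _ hq))
    exact extFil_antitone hsum (key l hl)
  · refine extFil_induction (motive := fun z => z ∈ gammaFiltration Pe k) (fun i hi a ha => ?_) (zero_mem _)
      (fun _ _ => add_mem) hz
    have hmap : ∀ m (a : K), a ∈ gammaFiltration P m → (AdjoinRoot.of (KRR.extPoly P e)) a ∈ gammaFiltration Pe m := by
      intro m a ha
      rcases Nat.eq_zero_or_pos m with rfl | hm
      · simp [gammaFiltration]
      refine gammaFiltration_induction P (by omega) (motive := fun a => (AdjoinRoot.of (KRR.extPoly P e)) a ∈ gammaFiltration Pe m)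
        (fun l hl hsum => ?_) (by simp) (fun a b ha hb => by simpa using add_mem ha hb)
        (fun a ha => by simpa using neg_mem ha) ha
      have h := gamma_prod_mem Pe (n := m) (l.map fun p => (p.1, (AdjoinRoot.of (KRR.extPoly P e)) p.2))
        (fun p hp => by
          obtain ⟨q, hq, rfl⟩ := List.mem_map.mp hp
          rw [hext.aug_comp]; exact hl q hq)
        (by simpa [List.map_map, Function.comp_def] using hsum)
      rw [List.map_map] at h
      rw [map_list_prod, List.map_map]
      simpa [Function.comp_def, gamma_map hext.isLambdaHom] using h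
    have hT : ((AdjoinRoot.root (KRR.extPoly P e) - 1) : AdjoinRoot (KRR.extPoly P e)) ∈ gammaFiltration Pe 1 :=
      mem_one_of_aug_eq_zero Pe (by rw [map_sub, hline.2, map_one, sub_self])
    exact gammaFiltration_antitone Pe (by omega) (mul_mem_add Pe (hmap _ a ha) (pow_mem Pe hT i))

end main

end Groth.Agent.LambdaLib
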