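import Mathlib
import Groth.Prelude.Def_KRR
import Groth.Agent.LambdaLib.Lines

/-!
# Adams operations on λ_{-1}, rational γ-filtration, determinants
-/

set_option autoImplicit false

universe u

open Finset LambdaRing

namespace Groth.Agent.LambdaLib

variable {K : Type u} [CommRing K] [LambdaOps K] {P : PosStructure K}

theorem adams_lamAlt (hK : HasSplitting K P) {e : K} (he : e ∈ P.pos) (j : ℕ) :
    adams P j (KRR.lamAlt P e) = KRR.lamAlt P e * KRR.bott P j e := by
  obtain ⟨L, f, n, y, hf, hL, hn, hy, hsum⟩ := exists_ext_fin hK he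
  subst hn
  apply hf.injective
  have hA : f (KRR.lamAlt P e) = ∏ i, (1 - y i) := by
    rw [← alt_lam_lines y (fun i => lam_line_eq_zero L.posStr (hy i)), KRR.lamAlt, map_sum, hsum]
    exact Finset.sum_congr rfl fun k _ => by rw [map_mul, map_pow, map_neg, map_one, hf.isLambdaHom]
  have hB : f (KRR.bott P j e) = ∏ i, ∑ k ∈ range j, y i ^ k := by
    have h1 : MvPolynomial.aeval (fun i : Fin (P.aug e).toNat => MvPolynomial.esymm (Fin (P.aug e).toNat) ℤ (i.1 + 1))
        (KRR.bottPoly j (P.aug e).toNat) = KRR.bottSym j (P.aug e).toNat := by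
      have h := congrArg Subtype.val ((MvPolynomial.esymmAlgEquiv (Fin (P.aug e).toNat) ℤ
        (Fintype.card_fin _)).apply_symm_apply ⟨_, KRR.bottSym_isSymmetric j (P.aug e).toNat⟩)
      rw [MvPolynomial.esymmAlgEquiv_apply, MvPolynomial.esymmAlgHom_apply] at h
      exact h
    have h2 : f (KRR.bott P j e) = MvPolynomial.aeval y (KRR.bottSym j (P.aug e).toNat) := by
      rw [← h1, ← AlgHom.comp_apply, MvPolynomial.comp_aeval, KRR.bott]
      show f.toIntAlgHom _ = _
      rw [← AlgHom.comp_apply, MvPolynomial.comp_aeval]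
      refine congrArg (fun v => MvPolynomial.aeval v _) (funext fun i => ?_)
      rw [aeval_esymm_eq]
      show f _ = _
      rw [hf.isLambdaHom, ← hsum, lam_sum_lines univ y fun i _ => lam_line_eq_zero L.posStr (hy i)]
    rw [h2]
    simp [KRR.bottSym, map_prod, map_sum]
  rw [adams_map hf, map_mul, hA, hB, ← Finset.prod_mul_distrib]
  show adamsRingHom hL j _ = _
  rw [map_prod]
  refine Finset.prod_congr rfl fun i _ => ?_
  rw [map_sub, map_one, mul_neg_geom_sum]
  show 1 - adams L.posStr j (y i) = _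
  rw [adams_of_isLine _ (hy i)]

theorem mem_rational_of_adams (hK : HasSplitting K P) {j : ℕ} (hj : 2 ≤ j) (n : ℕ) (x : K)
    (hx : ∃ N : ℕ, 1 ≤ N ∧ (N : K) * (adams P j x - (j : K) ^ n * x) ∈ gammaFiltration P (n + 1)) :
    ∃ N : ℕ, 1 ≤ N ∧ (N : K) * x ∈ gammaFiltration P n := by
  obtain ⟨N, hN, hx⟩ := hx
  suffices ∀ m ≤ n, ∃ M : ℕ, 1 ≤ M ∧ (M : K) * x ∈ gammaFiltration P m from this n le_rfl
  intro m
  induction m with
  | zero => exact fun _ => ⟨1, le_rfl, by simp [gammaFiltration]⟩
  | succ m ih =>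
    intro hm
    obtain ⟨M, hM, hMx⟩ := ih (by omega)
    have hlt : j ^ m < j ^ n := Nat.pow_lt_pow_right (by omega) (by omega)
    obtain ⟨d, hd⟩ := Nat.exists_eq_add_of_lt hlt
    refine ⟨N * M * (d + 1), Nat.mul_pos (Nat.mul_pos hN hM) d.succ_pos, ?_⟩
    have h1 := adams_sub_pow_mem hK j m hMx
    rw [adams_mul hK, show adams P j (M : K) = (M : K) from map_natCast (adamsRingHom hK j) M] at h1
    have h2 := gammaFiltration_antitone P (show m + 1 ≤ n + 1 by omega) hx
    have h3 := sub_mem (mul_mem_left P (N : K) h1) (mul_mem_left P (M : K) h2)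
    convert h3 using 1
    have hd' : (j : K) ^ n = (j : K) ^ m + (d : K) + 1 := by exact_mod_cast congrArg (Nat.cast : ℕ → K) hd
    push_cast
    rw [hd']
    ring

/-! ### determinants -/

/-- det of a positive element. -/
def detPos (P : PosStructure K) (e : K) : K := LambdaOps.lam (P.aug e).toNat e

theorem detPos_lines (P : PosStructure K) {s : Multiset K} (hs : ∀ u ∈ s, P.IsLine u) :
    detPos P s.sum = s.prod := by
  have key : ∀ t : Multiset K, (∀ u ∈ t, P.IsLine u) →
      LambdaOps.lam (Multiset.card t) t.sum = t.prod ∧ ∀ i, Multiset.card t < i → LambdaOps.lam i t.sum = 0 := by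
    intro t ht
    induction t using Multiset.induction with
    | empty => exact ⟨by simp [LambdaOps.lam_zero], fun i hi => by
        simpa using lam_apply_zero (K := K) i (by simp at hi; omega)⟩
    | cons a t ih =>
      obtain ⟨h1, h2⟩ := ih fun u hu => ht u (Multiset.mem_cons_of_mem hu)
      have hl := lam_line_eq_zero P (ht a (Multiset.mem_cons_self a t))
      have hk : ∀ k, LambdaOps.lam (k + 1) (a + t.sum) = LambdaOps.lam (k + 1) t.sum + a * LambdaOps.lam k t.sum := by
        intro k
        rw [← coeff_lamSeries, lamSeries_add, lamSeries_of_line hl, add_mul, one_mul, map_add, mul_assoc,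
          PowerSeries.coeff_C_mul, PowerSeries.coeff_succ_X_mul, coeff_lamSeries, coeff_lamSeries]
      rw [Multiset.sum_cons, Multiset.card_cons, Multiset.prod_cons]
      refine ⟨by rw [hk, h1, h2 _ (Nat.lt_succ_self _), zero_add], fun i hi => ?_⟩
      obtain ⟨k, rfl⟩ := Nat.exists_eq_succ_of_ne_zero (show i ≠ 0 by omega)
      rw [hk, h2 _ (by omega), h2 _ (by omega), mul_zero, add_zero]
  rw [detPos, aug_multiset_sum_lines P hs, Int.toNat_natCast]
  exact (key s hs).1

theorem detPos_map {K' : Type u} [CommRing K'] [LambdaOps K'] {P' : PosStructure K'} {f : K →+* K'}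
    (hf : IsExtension P P' f) (e : K) : f (detPos P e) = detPos P' (f e) := by
  rw [detPos, detPos, hf.aug_comp, hf.isLambdaHom]

theorem detPos_add (hK : HasSplitting K P) {a b : K} (ha : a ∈ P.pos) (hb : b ∈ P.pos) :
    detPos P (a + b) = detPos P a * detPos P b := by
  obtain ⟨L, f, hf, -, h⟩ := exists_ext_split hK [a, b] (by simp [ha, hb])
  obtain ⟨s, hs, hsa⟩ := h a (by simp)
  obtain ⟨t, ht, htb⟩ := h b (by simp)
  apply hf.injective
  rw [map_mul, detPos_map hf, detPos_map hf, detPos_map hf, map_add, ← hsa, ← htb, ← Multiset.sum_add,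
    detPos_lines _ hs, detPos_lines _ ht, detPos_lines, Multiset.prod_add]
  intro u hu
  rcases Multiset.mem_add.mp hu with hu | hu
  · exact hs u hu
  · exact ht u hu

theorem exists_prod_lines (P : PosStructure K) {s t : Multiset K} (hs : ∀ u ∈ s, P.IsLine u)
    (ht : ∀ u ∈ t, P.IsLine u) : ∃ m : Multiset K, (∀ u ∈ m, P.IsLine u) ∧ m.sum = s.sum * t.sum ∧
      m.prod = s.prod ^ Multiset.card t * t.prod ^ Multiset.card s := by
  induction s using Multiset.induction with
  | empty => exact ⟨0, by simp, by simp, by simp⟩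
  | cons a s ih =>
    obtain ⟨m, hm, hms, hmp⟩ := ih fun u hu => hs u (Multiset.mem_cons_of_mem hu)
    have ha := hs a (Multiset.mem_cons_self a s)
    refine ⟨t.map (a * ·) + m, ?_, ?_, ?_⟩
    · intro u hu
      rcases Multiset.mem_add.mp hu with hu | hu
      · obtain ⟨v, hv, rfl⟩ := Multiset.mem_map.mp hu
        exact isLine_mul P ha (ht v hv)
      · exact hm u hu
    · rw [Multiset.sum_add, hms, Multiset.sum_map_mul_left, Multiset.map_id', Multiset.sum_cons, add_mul]
    · rw [Multiset.prod_add, hmp, Multiset.prod_map_mul, Multiset.map_const', Multiset.prod_replicate,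
        Multiset.map_id', Multiset.prod_cons, Multiset.card_cons, mul_pow, pow_succ]
      ring

theorem detPos_mul (hK : HasSplitting K P) {a b : K} (ha : a ∈ P.pos) (hb : b ∈ P.pos) :
    detPos P (a * b) = detPos P a ^ (P.aug b).toNat * detPos P b ^ (P.aug a).toNat := by
  obtain ⟨L, f, hf, -, h⟩ := exists_ext_split hK [a, b] (by simp [ha, hb])
  obtain ⟨s, hs, hsa⟩ := h a (by simp)
  obtain ⟨t, ht, htb⟩ := h b (by simp)
  apply hf.injective
  simp only [map_mul, map_pow, detPos_map hf, ← hf.aug_comp, ← hsa, ← htb, detPos_lines _ hs, detPos_lines _ ht,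
    aug_multiset_sum_lines _ hs, aug_multiset_sum_lines _ ht, Int.toNat_natCast]
  obtain ⟨m, hm, hms, hmp⟩ := exists_prod_lines _ hs ht
  rw [← hms, detPos_lines _ hm, hmp]

/-- det as a homomorphism K → Kˣ. -/
theorem exists_detHom (hK : HasSplitting K P) :
    ∃ D : K → Kˣ, (∀ x y, D (x + y) = D x * D y) ∧ ∀ e ∈ P.pos, (D e : K) = detPos P e := by
  classical
  choose p q hp hq hpq using P.exists_sub
  obtain ⟨u, hu⟩ : ∃ u : ∀ e ∈ P.pos, Kˣ, ∀ e he, (u e he : K) = detPos P e :=
    ⟨fun e he => (P.isUnit_lam e he).unit, fun e he => IsUnit.unit_spec _⟩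
  have hadd : ∀ a b (ha : a ∈ P.pos) (hb : b ∈ P.pos), u (a + b) (P.add_mem a b ha hb) = u a ha * u b hb :=
    fun a b ha hb => Units.ext (by rw [Units.val_mul, hu, hu, hu, detPos_add hK ha hb])
  let D : K → Kˣ := fun x => u (p x) (hp x) / u (q x) (hq x)
  have key : ∀ x a b (ha : a ∈ P.pos) (hb : b ∈ P.pos), x = a - b → D x = u a ha / u b hb := by
    intro x a b ha hb hx
    rw [div_eq_div_iff_mul_eq_mul, ← hadd, ← hadd]
    apply Units.ext
    rw [hu, hu, show p x + b = a + q x by linear_combination hx - hpq x]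
  refine ⟨D, fun x y => ?_, fun e he => ?_⟩
  · rw [key (x + y) (p x + p y) (q x + q y) (P.add_mem _ _ (hp x) (hp y)) (P.add_mem _ _ (hq x) (hq y))
      (by linear_combination hpq x + hpq y), hadd _ _ (hp x) (hp y), hadd _ _ (hq x) (hq y), div_mul_div_comm]
  · rw [key e (e + e) e (P.add_mem e e he he) he (by ring), hadd e e he he, mul_div_cancel_right, hu]

variable {D : K → Kˣ}

theorem detHom_zero (hD : ∀ x y, D (x + y) = D x * D y) : D 0 = 1 := by
  have := hD 0 0
  rwa [add_zero, left_eq_mul] at this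

theorem detHom_sub (hD : ∀ x y, D (x + y) = D x * D y) (x y : K) : D (x - y) = D x / D y := by
  rw [eq_div_iff_mul_eq', ← hD, sub_add_cancel]

theorem detHom_mul_aug_zero (hK : HasSplitting K P) (hD : ∀ x y, D (x + y) = D x * D y)
    (hD' : ∀ e ∈ P.pos, (D e : K) = detPos P e) {x y : K} (hx : P.aug x = 0) (hy : P.aug y = 0) : D (x * y) = 1 := by
  obtain ⟨a, b, ha, hb, rfl⟩ := P.exists_sub x
  obtain ⟨c, d, hc, hd, rfl⟩ := P.exists_sub y
  rw [map_sub, sub_eq_zero] at hx hy
  have hm : ∀ a c, a ∈ P.pos → c ∈ P.pos → D (a * c) = D a ^ (P.aug c).toNat * D c ^ (P.aug a).toNat :=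
    fun a c ha hc => Units.ext (by
      rw [Units.val_mul, Units.val_pow_eq_pow_val, Units.val_pow_eq_pow_val, hD' _ ha, hD' _ hc,
        hD' _ (P.mul_mem a c ha hc), detPos_mul hK ha hc])
  rw [sub_mul, mul_sub, mul_sub, detHom_sub hD, detHom_sub hD, detHom_sub hD, hm a c ha hc, hm a d ha hd,
    hm b c hb hc, hm b d hb hd, hx, hy]
  generalize D a ^ (P.aug d).toNat = s
  generalize D b ^ (P.aug d).toNat = t
  generalize D c ^ (P.aug b).toNat = v
  generalize D d ^ (P.aug b).toNat = w
  rw [mul_div_mul_left_eq_div, mul_div_mul_left_eq_div, div_self']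

theorem gamma_mem_sq (P : PosStructure K) {s t : Multiset K} (hs : ∀ u ∈ s, P.IsLine u) (ht : ∀ u ∈ t, P.IsLine u)
    (hst : Multiset.card s = Multiset.card t) {k : ℕ} (hk : 2 ≤ k) :
    gamma k (s.sum - t.sum) ∈ RingHom.ker P.aug * RingHom.ker P.aug := by
  set I := RingHom.ker P.aug * RingHom.ker P.aug with hI
  set π := Ideal.Quotient.mk I
  have hsq : ∀ a b : K, P.aug a = 0 → P.aug b = 0 → π a * π b = 0 := fun a b ha hb => by
    rw [← map_mul, Ideal.Quotient.eq_zero_iff_mem]
    exact Ideal.mul_mem_mul (RingHom.mem_ker.mpr ha) (RingHom.mem_ker.mpr hb)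
  have key : ∀ s : Multiset K, (∀ u ∈ s, P.IsLine u) →
      PowerSeries.map π (gammaSeries (s.sum - (Multiset.card s : K))) =
        1 + PowerSeries.C (π (s.sum - (Multiset.card s : K))) * PowerSeries.X := by
    intro s hs
    induction s using Multiset.induction with
    | empty => simp [gammaSeries_zero]
    | cons a s ih =>
      have ha := hs a (Multiset.mem_cons_self a s)
      have hs' := fun u hu => hs u (Multiset.mem_cons_of_mem hu)
      have e1 : (a ::ₘ s).sum - (Multiset.card (a ::ₘ s) : K) = (a - 1) + (s.sum - (Multiset.card s : K)) := by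
        rw [Multiset.sum_cons, Multiset.card_cons]; push_cast; ring
      have h0 : π (a - 1) * π (s.sum - (Multiset.card s : K)) = 0 :=
        hsq _ _ (by simp [ha.2]) (by simp [aug_multiset_sum_lines P hs'])
      have h00 : PowerSeries.C (π (a - 1)) * PowerSeries.C (π (s.sum - (Multiset.card s : K))) = 0 := by
        rw [← map_mul, h0, map_zero]
      rw [e1, gammaSeries_add, gammaSeries_line_sub_one (lam_one_eq_zero P) (lam_line_eq_zero P ha), map_mul, ih hs',
        map_add π, map_add (PowerSeries.C), map_add, map_one, map_mul, PowerSeries.map_C, PowerSeries.map_X]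
      linear_combination (PowerSeries.X * PowerSeries.X) * h00
  have h := congrArg (PowerSeries.map π) (gammaSeries_add (s.sum - t.sum) (t.sum - (Multiset.card t : K)))
  rw [map_mul, sub_add_sub_cancel, key t ht, ← hst, key s hs] at h
  set α := π (s.sum - (Multiset.card s : K))
  set β := π (t.sum - (Multiset.card s : K))
  have hββ : β * β = 0 := hsq _ _ (by simp [aug_multiset_sum_lines P ht, hst]) (by simp [aug_multiset_sum_lines P ht, hst])
  have hαβ : α * β = 0 := hsq _ _ (by simp [aug_multiset_sum_lines P hs]) (by simp [aug_multiset_sum_lines P ht, hst])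
  have h2 : PowerSeries.map π (gammaSeries (s.sum - t.sum)) = 1 + PowerSeries.C (α - β) * PowerSeries.X := by
    have e2 : PowerSeries.C β * PowerSeries.C β = 0 := by rw [← map_mul, hββ, map_zero]
    have e3 : PowerSeries.C α * PowerSeries.C β = 0 := by rw [← map_mul, hαβ, map_zero]
    rw [map_sub PowerSeries.C]
    linear_combination -(1 - PowerSeries.C β * PowerSeries.X) * h + (PowerSeries.map π (gammaSeries (s.sum - t.sum)) * PowerSeries.X * PowerSeries.X) * e2 - (PowerSeries.X * PowerSeries.X) * e3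
  have h3 := congrArg (PowerSeries.coeff k) h2
  rw [PowerSeries.coeff_map, coeff_gammaSeries, map_add, PowerSeries.coeff_one, if_neg (by omega), zero_add,
    PowerSeries.coeff_C_mul, PowerSeries.coeff_X, if_neg (by omega), mul_zero] at h3
  exact Ideal.Quotient.eq_zero_iff_mem.mp h3

theorem detHom_sq (hK : HasSplitting K P) (hD : ∀ x y, D (x + y) = D x * D y)
    (hD' : ∀ e ∈ P.pos, (D e : K) = detPos P e) {z : K} (hz : z ∈ RingHom.ker P.aug * RingHom.ker P.aug) : D z = 1 := by
  induction hz using Submodule.mul_induction_on' with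
  | mem_mul_mem a ha b hb => exact detHom_mul_aug_zero hK hD hD' (RingHom.mem_ker.mp ha) (RingHom.mem_ker.mp hb)
  | add a _ b _ iha ihb => rw [hD, iha, ihb, one_mul]

theorem detHom_gammaTwo (hK : HasSplitting K P) (hD : ∀ x y, D (x + y) = D x * D y)
    (hD' : ∀ e ∈ P.pos, (D e : K) = detPos P e) {z : K} (hz : z ∈ gammaFiltration P 2) : D z = 1 := by
  refine gammaFiltration_induction P two_ne_zero (motive := fun z => D z = 1) (fun l hl hsum => ?_) (detHom_zero hD)
    (fun a b ha hb => by rw [hD, ha, hb, one_mul])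
    (fun a ha => by rw [← zero_sub, detHom_sub hD, detHom_zero hD, ha, div_one]) hz
  by_cases hbig : ∃ p ∈ l, 2 ≤ p.1
  · obtain ⟨⟨k, x⟩, hp, hk⟩ := hbig
    obtain ⟨rest, hrest⟩ : gamma k x ∣ (l.map fun p => gamma p.1 p.2).prod :=
      List.dvd_prod (List.mem_map.mpr ⟨_, hp, rfl⟩)
    rw [hrest]
    obtain ⟨a, b, ha, hb, hab⟩ := P.exists_sub x
    obtain ⟨L, f, hf, hL, h⟩ := exists_ext_split hK [a, b] (by simp [ha, hb])
    obtain ⟨E, hE, hE'⟩ := exists_detHom hL
    obtain ⟨s, hs, hsa⟩ := h a (by simp)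
    obtain ⟨t, ht, htb⟩ := h b (by simp)
    have hst : Multiset.card s = Multiset.card t := by
      have h1 := aug_multiset_sum_lines L.posStr hs
      rw [hsa, hf.aug_comp] at h1
      have h2 := aug_multiset_sum_lines L.posStr ht
      rw [htb, hf.aug_comp] at h2
      have h3 : P.aug a = P.aug b := by
        have := hl _ hp; rw [hab, map_sub, sub_eq_zero] at this; exact this
      exact_mod_cast h1.symm.trans (h3.trans h2)
    have hmem : f (gamma k x * rest) ∈ RingHom.ker L.posStr.aug * RingHom.ker L.posStr.aug := by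
      rw [map_mul, gamma_map hf.isLambdaHom, hab, map_sub, ← hsa, ← htb]
      exact Ideal.mul_mem_right _ _ (gamma_mem_sq L.posStr hs ht hst hk)
    have hcomm : ∀ w : K, f (D w : K) = (E (f w) : L.carrier) := by
      intro w
      obtain ⟨c, d, hc, hd, rfl⟩ := P.exists_sub w
      have e1 : D (c - d) * D d = D c := by rw [← hD, sub_add_cancel]
      have e2 : E (f (c - d)) * E (f d) = E (f c) := by rw [← hE, ← map_add, sub_add_cancel]
      have e1' := congrArg (fun v : Kˣ => f (v : K)) e1
      simp only [Units.val_mul, map_mul] at e1'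
      rw [hD' c hc, hD' d hd, detPos_map hf, detPos_map hf, ← hE' _ (hf.pos_subset c hc), ← hE' _ (hf.pos_subset d hd),
        ← e2, Units.val_mul] at e1'
      exact (E (f d)).isUnit.mul_right_cancel e1'
    refine Units.ext (hf.injective ?_)
    rw [hcomm, detHom_sq hL hE hE' hmem, Units.val_one, Units.val_one, map_one]
  · simp only [not_exists, not_and, not_le] at hbig
    have h1 : ∀ p ∈ l, p.1 = 0 ∨ p.1 = 1 := fun p hp => by have := hbig p hp; omega
    refine detHom_sq hK hD hD' ?_
    have : ∀ l : List (ℕ × K), (∀ p ∈ l, P.aug p.2 = 0) → (∀ p ∈ l, p.1 = 0 ∨ p.1 = 1) →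
        (l.map fun p => gamma p.1 p.2).prod ∈ RingHom.ker P.aug ^ (l.map Prod.fst).sum := by
      intro l
      induction l with
      | nil => simp
      | cons p l ih =>
        intro h0 h1
        rw [List.map_cons, List.map_cons, List.prod_cons, List.sum_cons, pow_add]
        refine Ideal.mul_mem_mul ?_ (ih (fun q hq => h0 q (List.mem_cons_of_mem _ hq)) fun q hq => h1 q (List.mem_cons_of_mem _ hq))
        rcases h1 p List.mem_cons_self with hp | hp
        · simp [hp]
        · rw [hp, pow_one, RingHom.mem_ker]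
          simpa [gamma, Finset.sum_range_succ, LambdaOps.lam_one] using h0 p List.mem_cons_self
    rw [← sq]
    exact Ideal.pow_le_pow_right hsum (this l hl h1)

theorem detPos_sub_one_sub_mem (P : PosStructure K) {e : K} (he : e ∈ P.pos) :
    detPos P e - 1 - (e - ((P.aug e).toNat : K)) ∈ gammaFiltration P 2 := by
  have h := congrArg (Polynomial.eval 1) (gamma_sub_aug_identity P he)
  simp only [Polynomial.eval_finsetSum, Polynomial.eval_mul, Polynomial.eval_C, Polynomial.eval_pow,
    Polynomial.eval_X, Polynomial.eval_sub, Polynomial.eval_one, one_pow, mul_one, sub_self] at h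
  rw [Finset.sum_eq_single (P.aug e).toNat (f := fun i => LambdaOps.lam i e * (0 : K) ^ ((P.aug e).toNat - i))] at h
  rotate_left
  · intro i hi hne
    rw [Finset.mem_range] at hi
    rw [zero_pow (by omega), mul_zero]
  · simp
  rw [Nat.sub_self, pow_zero, mul_one] at h
  have hpos := P.aug_pos e he
  obtain ⟨m, hm⟩ : ∃ m, (P.aug e).toNat = m + 1 := ⟨(P.aug e).toNat - 1, by omega⟩
  have h0 : P.aug (e - ((P.aug e).toNat : K)) = 0 := by rw [map_sub, map_natCast, aug_toNat_cast P he, sub_self]
  rw [detPos, ← h, hm, Finset.sum_range_succ', Finset.sum_range_succ', ← hm,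
    show gamma (0 + 1) (e - ((P.aug e).toNat : K)) = e - ((P.aug e).toNat : K) by
      simp [gamma, Finset.sum_range_succ, LambdaOps.lam_one], show gamma 0 (e - ((P.aug e).toNat : K)) = 1 by simp [gamma],
    show ∀ S g : K, S + g + 1 - 1 - g = S from fun S g => by ring]
  exact sum_mem fun i _ => gamma_mem P h0 (by omega)

theorem lineElements_gr1 (hK : HasSplitting K P) (hLinv : ∀ w : K, P.IsLine w → ∃ w' : K, P.IsLine w' ∧ w * w' = 1)
    (hdet : ∀ e : K, e ∈ P.pos → LambdaOps.lam (P.aug e).toNat e ∈ P.pos) :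
    (∀ x : K, x ∈ gammaFiltration P 1 → ∃ u : K, P.IsLine u ∧ x - (u - 1) ∈ gammaFiltration P 2) ∧
    ∀ u v : K, P.IsLine u → P.IsLine v → u - v ∈ gammaFiltration P 2 → u = v := by
  refine ⟨fun x hx => ?_, fun u v hu hv huv => ?_⟩
  · obtain ⟨a, b, ha, hb, rfl⟩ := P.exists_sub x
    have hab : P.aug a = P.aug b := by
      have := aug_eq_zero_of_mem hK one_ne_zero hx
      rwa [map_sub, sub_eq_zero] at this
    have hline : ∀ e ∈ P.pos, P.IsLine (detPos P e) := fun e he => ⟨hdet e he, by
      rw [detPos, aug_lam_eq_choose hK he, Nat.choose_self, Nat.cast_one]⟩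
    obtain ⟨w, hw, hbw⟩ := hLinv _ (hline b hb)
    refine ⟨detPos P a * w, isLine_mul P (hline a ha) hw, ?_⟩
    have h1 := detPos_sub_one_sub_mem P ha
    have h2 := detPos_sub_one_sub_mem P hb
    have h3 : (detPos P a * w - 1) * (detPos P b - 1) ∈ gammaFiltration P 2 :=
      mul_mem_add P (m := 1) (n := 1) (mem_one_of_aug_eq_zero P (by simp [(isLine_mul P (hline a ha) hw).2]))
        (mem_one_of_aug_eq_zero P (by simp [(hline b hb).2]))
    rw [hab] at h1
    convert add_mem (sub_mem h2 h1) h3 using 1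
    linear_combination -detPos P a * hbw
  · obtain ⟨D, hD, hD'⟩ := exists_detHom hK
    have hl : ∀ u, P.IsLine u → (D u : K) = u := fun u hu => by
      rw [hD' u hu.1, detPos, hu.2]; exact LambdaOps.lam_one u
    have h := detHom_gammaTwo hK hD hD' huv
    rw [detHom_sub hD, div_eq_one] at h
    rw [← hl u hu, ← hl v hv, h]

end Groth.Agent.LambdaLib
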