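import Groth.Agent.LambdaLib.Pos

/-!
# Adams operations of a positive structure
-/

universe u

open PowerSeries Finset LambdaRing

namespace Groth.Agent.LambdaLib

variable {K : Type u} [CommRing K] [LambdaOps K]

theorem invOfUnit_mul {R : Type*} [CommRing R] {f g : R⟦X⟧} (hf : constantCoeff f = 1) (hg : constantCoeff g = 1) :
    (f * g).invOfUnit 1 = f.invOfUnit 1 * g.invOfUnit 1 := by
  have h1 := PowerSeries.mul_invOfUnit f 1 (by simpa using hf)
  have h2 := PowerSeries.mul_invOfUnit g 1 (by simpa using hg)
  have h3 := PowerSeries.invOfUnit_mul (f * g) 1 (by simp [hf, hg])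
  refine left_inv_eq_right_inv h3 ?_
  linear_combination (g * g.invOfUnit 1) * h1 + h2

/-- logarithmic derivative -/
noncomputable def logD {R : Type*} [CommRing R] (f : R⟦X⟧) : R⟦X⟧ := derivative R f * f.invOfUnit 1

theorem logD_mul {R : Type*} [CommRing R] {f g : R⟦X⟧} (hf : constantCoeff f = 1) (hg : constantCoeff g = 1) :
    logD (f * g) = logD f + logD g := by
  have h1 := PowerSeries.mul_invOfUnit f 1 (by simpa using hf)
  have h2 := PowerSeries.mul_invOfUnit g 1 (by simpa using hg)
  simp only [logD, invOfUnit_mul hf hg, Derivation.leibniz, smul_eq_mul]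
  linear_combination (derivative R g * g.invOfUnit 1) * h1 + (derivative R f * f.invOfUnit 1) * h2

theorem logD_eq {R : Type*} [CommRing R] {f g : R⟦X⟧} (hf : constantCoeff f = 1)
    (h : g * f = derivative R f) : logD f = g := by
  rw [logD, ← h, mul_assoc, PowerSeries.mul_invOfUnit f 1 (by simpa using hf), mul_one]

theorem map_logD {R S : Type*} [CommRing R] [CommRing S] (φ : R →+* S) {f : R⟦X⟧} (hf : constantCoeff f = 1) :
    PowerSeries.map φ (logD f) = logD (PowerSeries.map φ f) := by
  refine (logD_eq (by rw [← coeff_zero_eq_constantCoeff_apply, coeff_map, coeff_zero_eq_constantCoeff_apply, hf,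
    map_one]) ?_).symm
  rw [← map_mul, logD, mul_assoc, PowerSeries.invOfUnit_mul f 1 (by simpa using hf), mul_one]
  ext n
  rw [coeff_map, coeff_derivative, coeff_derivative, coeff_map]
  simp

/-- λ_{-t}(x) -/
noncomputable def lamNeg (x : K) : K⟦X⟧ := rescale (-1 : K) (lamSeries x)

theorem constantCoeff_lamNeg (x : K) : constantCoeff (lamNeg x) = 1 := by
  rw [← coeff_zero_eq_constantCoeff_apply, lamNeg, coeff_rescale, coeff_lamSeries, LambdaOps.lam_zero]
  simp

theorem lamNeg_add (x y : K) : lamNeg (x + y) = lamNeg x * lamNeg y := by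
  rw [lamNeg, lamSeries_add, map_mul]; rfl

theorem adamsSeries_eq (P : PosStructure K) (x : K) :
    adamsSeries P x = C ((P.aug x : ℤ) : K) - X * logD (lamNeg x) := by
  rw [adamsSeries, logD, lamNeg, mul_assoc]

theorem adamsSeries_add (P : PosStructure K) (x y : K) :
    adamsSeries P (x + y) = adamsSeries P x + adamsSeries P y := by
  simp only [adamsSeries_eq, lamNeg_add, logD_mul (constantCoeff_lamNeg x) (constantCoeff_lamNeg y), map_add,
    Int.cast_add]
  ring

/-- ψ^j, additive. -/
noncomputable def adamsHom (P : PosStructure K) (j : ℕ) : K →+ K :=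
  AddMonoidHom.mk' (adams P j) fun x y => by simp [adams, adamsSeries_add]

@[simp] theorem adamsHom_apply (P : PosStructure K) (j : ℕ) (x : K) : adamsHom P j x = adams P j x := rfl

theorem adams_of_isLine (P : PosStructure K) {u : K} (hu : P.IsLine u) (j : ℕ) : adams P j u = u ^ j := by
  have h : logD (lamNeg u) = -(C u * PowerSeries.mk fun n => u ^ n) := by
    refine logD_eq (constantCoeff_lamNeg u) ?_
    have h1 : (PowerSeries.mk fun n => u ^ n) * (1 - C u * X) = 1 := by
      ext n
      rw [mul_sub, mul_one, map_sub, ← mul_assoc, coeff_mk]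
      rcases n with _ | n
      · simp
      · rw [coeff_succ_mul_X, mul_comm _ (C u), coeff_C_mul, coeff_mk, PowerSeries.coeff_one, if_neg (by omega),
          pow_succ']
        ring
    have h2 : lamNeg u = 1 - C u * X := by
      rw [lamNeg, lamSeries_of_line (lam_line_eq_zero P hu)]
      ext n
      rw [coeff_rescale, map_add, map_sub, PowerSeries.coeff_one]
      rcases n with _ | n
      · simp
      · rw [if_neg (by omega), coeff_succ_mul_X, PowerSeries.coeff_C]
        rcases n with _ | n <;> simp
    rw [h2, neg_mul, mul_assoc, h1, mul_one, map_sub, Derivation.leibniz, derivative_C, derivative_X,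
      Derivation.map_one_eq_zero, smul_zero, add_zero, smul_eq_mul, mul_one, zero_sub]
  rw [adams, adamsSeries_eq, h, mul_neg, sub_neg_eq_add, hu.2, Int.cast_one, map_add]
  rcases j with _ | j
  · simp
  · rw [coeff_succ_X_mul, coeff_C_mul, coeff_mk, PowerSeries.coeff_C, if_neg (by omega), zero_add, pow_succ']

theorem adams_map {K' : Type u} [CommRing K'] [LambdaOps K'] {P : PosStructure K} {P' : PosStructure K'}
    {f : K →+* K'} (hf : IsExtension P P' f) (j : ℕ) (x : K) : f (adams P j x) = adams P' j (f x) := by
  have hs : PowerSeries.map f (lamNeg x) = lamNeg (f x) := by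
    ext n; simp [lamNeg, coeff_rescale, coeff_lamSeries, hf.isLambdaHom n x]
  have h : PowerSeries.map f (adamsSeries P x) = adamsSeries P' (f x) := by
    rw [adamsSeries_eq, adamsSeries_eq, map_sub, map_mul, map_C, map_X, map_logD f (constantCoeff_lamNeg x), hs,
      map_intCast, hf.aug_comp]
  rw [adams, adams, ← coeff_map, h]

theorem adams_one (P : PosStructure K) (j : ℕ) : adams P j (1 : K) = 1 := by
  rw [adams_of_isLine P (isLine_one P), one_pow]

theorem adams_multiset_sum_lines (P : PosStructure K) {s : Multiset K} (hs : ∀ u ∈ s, P.IsLine u) (j : ℕ) :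
    adams P j s.sum = (s.map fun u => u ^ j).sum := by
  rw [← adamsHom_apply, map_multiset_sum]
  exact congrArg _ (Multiset.map_congr rfl fun u hu => by simp [adams_of_isLine P (hs u hu)])

theorem adams_mul_lines (P : PosStructure K) {s t : Multiset K} (hs : ∀ u ∈ s, P.IsLine u)
    (ht : ∀ u ∈ t, P.IsLine u) (j : ℕ) : adams P j (s.sum * t.sum) = adams P j s.sum * adams P j t.sum := by
  have hline : ∀ u, P.IsLine u → adams P j (u * t.sum) = u ^ j * adams P j t.sum := by
    intro u hu
    conv_lhs => rw [← Multiset.map_id' t, ← Multiset.sum_map_mul_left]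
    rw [adams_multiset_sum_lines P ?_, adams_multiset_sum_lines P ht,
      Multiset.map_map, ← Multiset.sum_map_mul_left]
    · simp [Function.comp_def, mul_pow]
    · intro v hv
      obtain ⟨w, hw, rfl⟩ := Multiset.mem_map.mp hv
      exact isLine_mul P hu (ht w hw)
  induction s using Multiset.induction with
  | empty => simp [← adamsHom_apply]
  | cons a s ih =>
    have ha := hs a (Multiset.mem_cons_self a s)
    simp only [← adamsHom_apply] at ih hline ⊢
    rw [Multiset.sum_cons, add_mul, map_add, map_add, hline a ha,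
      ih fun u hu => hs u (Multiset.mem_cons_of_mem hu), adamsHom_apply P j a, adams_of_isLine P ha]
    simp only [adamsHom_apply]
    ring

theorem adams_mul {P : PosStructure K} (hK : HasSplitting K P) (j : ℕ) (x y : K) :
    adams P j (x * y) = adams P j x * adams P j y := by
  obtain ⟨a, b, ha, hb, rfl⟩ := P.exists_sub x
  obtain ⟨c, d, hc, hd, rfl⟩ := P.exists_sub y
  obtain ⟨L, f, hf, -, h⟩ := exists_ext_split hK [a, b, c, d] (by simp [ha, hb, hc, hd])
  have key : ∀ p ∈ [a, b, c, d], ∀ q ∈ [a, b, c, d], adams P j (p * q) = adams P j p * adams P j q := by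
    intro p hp q hq
    obtain ⟨s, hs, hsp⟩ := h p hp
    obtain ⟨t, ht, htq⟩ := h q hq
    apply hf.injective
    rw [map_mul, adams_map hf, adams_map hf, adams_map hf, map_mul, ← hsp, ← htq, adams_mul_lines _ hs ht]
  simp only [← adamsHom_apply] at key ⊢
  rw [sub_mul, mul_sub, mul_sub]
  simp only [map_sub]
  rw [key a (by simp) c (by simp), key a (by simp) d (by simp), key b (by simp) c (by simp),
    key b (by simp) d (by simp)]
  ring

/-- ψ^j as a ring endomorphism. -/
noncomputable def adamsRingHom {P : PosStructure K} (hK : HasSplitting K P) (j : ℕ) : K →+* K where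
  toFun := adams P j
  map_one' := adams_one P j
  map_mul' := adams_mul hK j
  map_zero' := map_zero (adamsHom P j)
  map_add' := map_add (adamsHom P j)

theorem adams_adams {P : PosStructure K} (hK : HasSplitting K P) (i j : ℕ) (x : K) :
    adams P i (adams P j x) = adams P (i * j) x := by
  obtain ⟨a, b, ha, hb, rfl⟩ := P.exists_sub x
  obtain ⟨L, f, hf, -, h⟩ := exists_ext_split hK [a, b] (by simp [ha, hb])
  have key : ∀ p ∈ [a, b], adams P i (adams P j p) = adams P (i * j) p := by
    intro p hp
    obtain ⟨s, hs, hsp⟩ := h p hp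
    apply hf.injective
    rw [adams_map hf, adams_map hf, adams_map hf, ← hsp, adams_multiset_sum_lines _ hs, adams_multiset_sum_lines _ hs,
      adams_multiset_sum_lines]
    · rw [Multiset.map_map]
      simp [Function.comp_def, ← pow_mul, mul_comm i j]
    · intro v hv
      obtain ⟨w, hw, rfl⟩ := Multiset.mem_map.mp hv
      exact isLine_pow _ (hs w hw) j
  simp only [← adamsHom_apply] at key ⊢
  simp only [map_sub, key a (by simp), key b (by simp)]

/-! ### multiplicativity through lines: the workhorse for eigenspace arguments -/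

theorem adams_sub_pow_mul_mem_line (P : PosStructure K) {u : K} (hu : P.IsLine u) (j : ℕ) :
    adams P j (u - 1) - (j : K) * (u - 1) ∈ gammaFiltration P 2 := by
  rw [← adamsHom_apply, map_sub, adamsHom_apply, adamsHom_apply, adams_of_isLine P hu, adams_one]
  have h0 : u - 1 ∈ gammaFiltration P 1 := mem_one_of_aug_eq_zero P (by simp [hu.2])
  induction j with
  | zero => simp
  | succ j ih =>
    have hj : u ^ j - 1 ∈ gammaFiltration P 1 := mem_one_of_aug_eq_zero P (by simp [map_pow, hu.2])
    rw [show u ^ (j + 1) - 1 - ((j + 1 : ℕ) : K) * (u - 1) =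
      (u ^ j - 1 - (j : K) * (u - 1)) + (u ^ j - 1) * (u - 1) by push_cast; ring]
    exact add_mem ih (mul_mem_add P hj h0)

end Groth.Agent.LambdaLib
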