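import Groth.Agent.LambdaLib.UniRing
import Mathlib.Algebra.MvPolynomial.Eval
import Mathlib.Data.Fin.Tuple.Basic

/-!
# Pre-λ-rings generated by lines are special
-/

set_option autoImplicit false

universe u v

open Finset LambdaRing MvPolynomial

namespace Groth.Agent.LambdaLib

variable {K : Type u} [CommRing K] [LambdaOps K]

/-- An element of the group generated by lines is an integral polynomial in finitely many lines. -/
theorem exists_poly_of_mem {W : Submonoid K} {x : K} (hx : x ∈ AddSubgroup.closure (W : Set K)) :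
    ∃ (n : ℕ) (w : Fin n → K) (p : MvPolynomial (Fin n) ℤ), (∀ i, w i ∈ W) ∧ aeval w p = x := by
  induction hx using AddSubgroup.closure_induction with
  | mem x hx => exact ⟨1, fun _ => x, X 0, fun _ => hx, by simp⟩
  | zero => exact ⟨0, Fin.elim0, 0, fun i => i.elim0, map_zero _⟩
  | add x y _ _ hx hy =>
    obtain ⟨n, w, p, hw, rfl⟩ := hx
    obtain ⟨m, v, q, hv, rfl⟩ := hy
    refine ⟨n + m, Fin.append w v, rename (Fin.castAdd m) p + rename (Fin.natAdd n) q,
      fun i => Fin.addCases (fun j => by simpa using hw j) (fun j => by simpa using hv j) i, ?_⟩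
    rw [map_add, aeval_rename, aeval_rename]
    congr 2 <;> congr 1 <;> funext i <;> simp
  | neg x _ hx =>
    obtain ⟨n, w, p, hw, rfl⟩ := hx
    exact ⟨n, w, -p, hw, map_neg _ _⟩

variable {n : ℕ}

/-- `λ` of an integral polynomial in lines is computed by universal integral polynomials. -/
theorem exists_lam_poly (W : Submonoid K) (hW : ∀ w ∈ W, ∀ j : ℕ, 2 ≤ j → LambdaOps.lam j w = 0)
    (w : Fin n → K) (hw : ∀ i, w i ∈ W) (p : MvPolynomial (Fin n) ℤ) :
    letI := uniOps (Fin n)
    ∀ k : ℕ, ∃ c : MvPolynomial (Fin n) ℤ, LambdaOps.lam k (aeval w p) = aeval w c ∧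
      LambdaOps.lam k (aeval (fun i => (1 + X i : MvPolynomial (Fin n) ℚ)) p) =
        aeval (fun i => (1 + X i : MvPolynomial (Fin n) ℚ)) c := by
  letI := uniOps (Fin n)
  let φ : MvPolynomial (Fin n) ℤ →+* K := (aeval w).toRingHom
  let ι : MvPolynomial (Fin n) ℤ →+* MvPolynomial (Fin n) ℚ :=
    (aeval fun i => (1 + X i : MvPolynomial (Fin n) ℚ)).toRingHom
  let S : AddSubgroup (MvPolynomial (Fin n) ℤ) :=
    { carrier := {p | ∃ f : (PowerSeries (MvPolynomial (Fin n) ℤ))ˣ,
        PowerSeries.map φ ↑f = lamSeries (φ p) ∧ PowerSeries.map ι ↑f = lamSeries (ι p)}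
      zero_mem' := ⟨1, by simp [lamSeries_zero], by simp [lamSeries_zero]⟩
      add_mem' := fun {a b} => by
        rintro ⟨f, hf1, hf2⟩ ⟨g, hg1, hg2⟩
        exact ⟨f * g, by rw [Units.val_mul, map_mul, hf1, hg1, map_add, lamSeries_add],
          by rw [Units.val_mul, map_mul, hf2, hg2, map_add, lamSeries_add]⟩
      neg_mem' := fun {a} => by
        rintro ⟨f, hf1, hf2⟩
        refine ⟨f⁻¹, ?_, ?_⟩
        · refine ((isUnit_lamSeries (φ a)).mul_right_inj).1 ?_
          rw [← lamSeries_add, map_neg, add_neg_cancel, lamSeries_zero, ← hf1, ← map_mul, Units.mul_inv, map_one]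
        · refine ((isUnit_lamSeries (ι a)).mul_right_inj).1 ?_
          rw [← lamSeries_add, map_neg, add_neg_cancel, lamSeries_zero, ← hf2, ← map_mul, Units.mul_inv, map_one] }
  have hmono : ∀ s : Fin n →₀ ℕ, monomial s (1 : ℤ) ∈ S := fun s => by
    have h1 : φ (monomial s 1) ∈ W := by
      show aeval w (monomial s (1 : ℤ)) ∈ W
      rw [aeval_monomial, map_one, one_mul]
      exact W.prod_mem fun i _ => W.pow_mem (hw i) _
    have h2 : IsULine (ι (monomial s 1)) := by
      show IsULine (aeval (fun i => (1 + X i : MvPolynomial (Fin n) ℚ)) (monomial s (1 : ℤ)))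
      rw [aeval_monomial, map_one, one_mul]
      refine Finset.prod_induction _ IsULine (fun _ _ => isULine_mul) isULine_one fun i _ => ?_
      generalize s i = k
      induction k with
      | zero => exact isULine_one
      | succ k ih => exact isULine_mul ih (isULine_one_add_X i)
    have hu : IsUnit (1 + PowerSeries.C (monomial s (1 : ℤ)) * PowerSeries.X) :=
      PowerSeries.isUnit_iff_constantCoeff.2 (by simp)
    exact ⟨hu.unit, by rw [IsUnit.unit_spec, lamSeries_of_line (hW _ h1)]; simp,
      by rw [IsUnit.unit_spec, lamSeries_of_line (lam_uline h2)]; simp⟩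
  have hp : p ∈ S := by
    induction p using MvPolynomial.induction_on' with
    | monomial s a =>
      rw [show monomial s a = a • monomial s (1 : ℤ) by rw [MvPolynomial.smul_monomial, smul_eq_mul, mul_one]]
      exact S.zsmul_mem (hmono s) a
    | add p q hp hq => exact S.add_mem hp hq
  obtain ⟨f, hf1, hf2⟩ := hp
  intro k
  refine ⟨PowerSeries.coeff k (↑f : PowerSeries (MvPolynomial (Fin n) ℤ)), ?_, ?_⟩
  · show LambdaOps.lam k (φ p) = φ _
    rw [← PowerSeries.coeff_map, hf1, coeff_lamSeries]
  · show LambdaOps.lam k (ι p) = ι _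
    rw [← PowerSeries.coeff_map, hf2, coeff_lamSeries]

theorem aeval_one_add_X_injective (n : ℕ) :
    Function.Injective (aeval (R := ℤ) fun i : Fin n => (1 + X i : MvPolynomial (Fin n) ℚ)) := by
  have h : ∀ p : MvPolynomial (Fin n) ℤ, aeval (fun i : Fin n => (X i - 1 : MvPolynomial (Fin n) ℚ))
      (aeval (R := ℤ) (fun i : Fin n => (1 + X i : MvPolynomial (Fin n) ℚ)) p) = map (Int.castRingHom ℚ) p := fun p => by
    induction p using MvPolynomial.induction_on with
    | C a => simp
    | add p q hp hq => rw [map_add, map_add, hp, hq, map_add]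
    | mul_X p i hp => rw [map_mul, map_mul, hp, aeval_X, map_mul, map_add, map_one, aeval_X, map_X, add_sub_cancel]
  intro p q hpq
  refine map_injective (Int.castRingHom ℚ) Int.cast_injective ?_
  rw [← h, ← h, hpq]

/-- A pre-λ-ring in which two elements lie in the group generated by lines satisfies the λ-identities at them. -/
theorem identities_of_lines (W : Submonoid K) (hW : ∀ w ∈ W, ∀ j : ℕ, 2 ≤ j → LambdaOps.lam j w = 0) {x y : K}
    (hx : x ∈ AddSubgroup.closure (W : Set K)) (hy : y ∈ AddSubgroup.closure (W : Set K)) :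
    (∀ (m : ℕ) (P : MvPolynomial (Fin m ⊕ Fin m) ℤ), IsMulPoly m P → LambdaOps.lam m (x * y) =
      aeval (Sum.elim (fun k : Fin m => LambdaOps.lam ((k : ℕ) + 1) x)
        (fun k : Fin m => LambdaOps.lam ((k : ℕ) + 1) y)) P) ∧
    ∀ (i j : ℕ) (Q : MvPolynomial (Fin (i * j)) ℤ), IsCompPoly i j Q → LambdaOps.lam j (LambdaOps.lam i x) =
      aeval (fun k : Fin (i * j) => LambdaOps.lam ((k : ℕ) + 1) x) Q := by
  obtain ⟨a, w, p₀, hw, rfl⟩ := exists_poly_of_mem hx
  obtain ⟨b, v, q₀, hv, rfl⟩ := exists_poly_of_mem hy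
  let z : Fin (a + b) → K := Fin.append w v
  have hz : ∀ i, z i ∈ W := fun i =>
    Fin.addCases (fun j => by simpa [z] using hw j) (fun j => by simpa [z] using hv j) i
  obtain ⟨p, hp⟩ : ∃ p, aeval w p₀ = aeval z p := ⟨rename (Fin.castAdd b) p₀, by
    simp only [aeval_rename]; congr 2; funext i; simp [z]⟩
  obtain ⟨q, hq⟩ : ∃ q, aeval v q₀ = aeval z q := ⟨rename (Fin.natAdd a) q₀, by
    simp only [aeval_rename]; congr 2; funext i; simp [z]⟩
  rw [hp, hq]
  letI := uniOps (Fin (a + b))
  let ιh : MvPolynomial (Fin (a + b)) ℤ →ₐ[ℤ] MvPolynomial (Fin (a + b)) ℚ :=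
    aeval fun i => (1 + X i : MvPolynomial (Fin (a + b)) ℚ)
  have hinj : Function.Injective ιh := aeval_one_add_X_injective _
  choose cp hcp1 hcp2 using exists_lam_poly W hW z hz p
  choose cq hcq1 hcq2 using exists_lam_poly W hW z hz q
  constructor
  · intro m P hP
    obtain ⟨c, hc1, hc2⟩ := exists_lam_poly W hW z hz (p * q) m
    have hc : c = aeval (Sum.elim (fun k : Fin m => cp ((k : ℕ) + 1)) (fun k : Fin m => cq ((k : ℕ) + 1))) P := by
      refine hinj ?_
      change ιh c = _
      rw [show ιh c = _ from hc2.symm, map_mul, isSpecial_uni.lam_mul m P hP, comp_aeval_apply]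
      refine congrArg (fun g => aeval g P) (funext fun i => ?_)
      rcases i with i | i
      · exact hcp2 _
      · exact hcq2 _
    rw [← map_mul, hc1, hc, comp_aeval_apply]
    refine congrArg (fun g => aeval g P) (funext fun i => ?_)
    rcases i with i | i
    · exact (hcp1 _).symm
    · exact (hcq1 _).symm
  · intro i j Q hQ
    obtain ⟨c, hc1, hc2⟩ := exists_lam_poly W hW z hz (cp i) j
    have hc : c = aeval (fun k : Fin (i * j) => cp ((k : ℕ) + 1)) Q := by
      refine hinj ?_
      change ιh c = _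
      rw [show ιh c = _ from hc2.symm, ← hcp2 i, isSpecial_uni.lam_lam i j Q hQ, comp_aeval_apply]
      exact congrArg (fun g => aeval g Q) (funext fun k => hcp2 _)
    rw [hcp1 i, hc1, hc, comp_aeval_apply]
    exact congrArg (fun g => aeval g Q) (funext fun k => (hcp1 _).symm)

/-- Specialness descends along λ-monomorphisms to pre-λ-rings where elements decompose into lines. -/
theorem isSpecial_of_split (h1 : ∀ j : ℕ, 2 ≤ j → LambdaOps.lam j (1 : K) = 0)
    (h : ∀ x y : K, ∃ (K' : Type v) (_ : CommRing K') (_ : LambdaOps K') (W : Submonoid K') (f : K →+* K'),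
      (∀ w ∈ W, ∀ j : ℕ, 2 ≤ j → LambdaOps.lam j w = 0) ∧ Function.Injective f ∧
      (∀ (i : ℕ) (a : K), f (LambdaOps.lam i a) = LambdaOps.lam i (f a)) ∧
      f x ∈ AddSubgroup.closure (W : Set K') ∧ f y ∈ AddSubgroup.closure (W : Set K')) :
    IsSpecial K where
  lam_one_eq_zero := h1
  lam_mul m P hP x y := by
    obtain ⟨K', _, _, W, f, hW, hf, hlam, hx, hy⟩ := h x y
    refine hf ?_
    rw [hlam, map_mul, (identities_of_lines W hW hx hy).1 m P hP, map_aeval_int]
    refine congrArg (fun g => aeval g P) (funext fun i => ?_)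
    rcases i with i | i <;> simp [hlam]
  lam_lam i j Q hQ x := by
    obtain ⟨K', _, _, W, f, hW, hf, hlam, hx, -⟩ := h x x
    refine hf ?_
    rw [hlam, hlam, (identities_of_lines W hW hx hx).2 i j Q hQ, map_aeval_int]
    exact congrArg (fun g => aeval g Q) (funext fun k => (hlam _ _).symm)

end Groth.Agent.LambdaLib
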