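import Groth.Agent.LambdaLib.Universal

/-!
# Q_{i,j}, and existence of the universal polynomials
-/

universe u

open MvPolynomial Finset LambdaRing

namespace Groth.Agent.LambdaLib

variable {S : Type u} [CommRing S]

theorem compGen_eval {a : ℕ} (x : Fin a → S) (i j : ℕ) :
    aeval x (compGen a i j) = (prodSubs i ((univ : Finset (Fin a)).val.map x)).esymm j := by
  have h := map_esymm' (aeval x : MvPolynomial (Fin a) ℤ →ₐ[ℤ] S).toRingHom
    (((univ : Finset (Fin a)).powersetCard i).val.map fun s => (∏ b ∈ s, X b : MvPolynomial (Fin a) ℤ)) j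
  rw [AlgHom.toRingHom_eq_coe, RingHom.coe_coe] at h
  rw [compGen, h, Multiset.map_map]
  simp only [Function.comp_def, map_prod, RingHom.coe_coe, aeval_X]
  rw [univ_powerset_map]

theorem compGen_isHomogeneous (a i j : ℕ) : (compGen a i j).IsHomogeneous (i * j) := by
  rw [compGen, Finset.esymm_map_val]
  refine IsHomogeneous.sum _ _ _ fun t ht => ?_
  rw [Finset.mem_powersetCard] at ht
  convert IsHomogeneous.prod t _ (fun _ => i) fun s hs => ?_
  · simp [ht.2, mul_comm]
  · have hs' := (Finset.mem_powersetCard.mp (ht.1 hs)).2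
    convert IsHomogeneous.prod s _ (fun _ => 1) fun b _ => isHomogeneous_X ℤ b
    simp [hs']

theorem compGen_isSymmetric (a i j : ℕ) : (compGen a i j).IsSymmetric := by
  intro e
  have h := compGen_eval (fun b => (X (e b) : MvPolynomial (Fin a) ℤ)) i j
  rw [show (univ : Finset (Fin a)).val.map (fun b => (X (e b) : MvPolynomial (Fin a) ℤ)) =
    (univ : Finset (Fin a)).val.map X by
      have he := Finset.map_univ_equiv e
      conv_rhs => rw [← he, Finset.map_val, Multiset.map_map]
      rfl] at h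
  rw [← compGen_eval] at h
  refine Eq.trans ?_ (h.trans (aeval_X_left_apply _))
  exact DFunLike.congr_fun (algHom_ext (g := aeval fun b => (X (e b) : MvPolynomial (Fin a) ℤ)) fun b => by simp) _

theorem exists_isCompPoly (i j : ℕ) : ∃ Q : MvPolynomial (Fin (i * j)) ℤ, IsCompPoly i j Q := by
  have hcard : Fintype.card (Fin (i * j)) = i * j := Fintype.card_fin _
  obtain ⟨⟨Φ, h1, h2⟩⟩ : Nonempty {Φ : MvPolynomial (Fin (i * j)) ℤ //
      aeval (fun k : Fin (i * j) => esymm (Fin (i * j)) ℤ ((k : ℕ) + 1)) Φ = compGen (i * j) i j ∧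
      Φ.IsWeightedHomogeneous (esWeight (i * j)) (i * j)} := by
    have h := exists_esymm_rep_isHomogeneous (compGen_isSymmetric (i * j) i j) (i * j) (compGen_isHomogeneous _ i j)
    generalize Fintype.card (Fin (i * j)) = m at h hcard
    subst hcard
    obtain ⟨Φ, h⟩ := h
    exact ⟨⟨Φ, h⟩⟩
  exact ⟨Φ, h1, h2⟩

theorem compPoly_eval_small {i j : ℕ} {Q : MvPolynomial (Fin (i * j)) ℤ} (hQ : IsCompPoly i j Q) (s : Multiset S)
    (hs : Multiset.card s ≤ i * j) :
    aeval (fun k : Fin (i * j) => s.esymm ((k : ℕ) + 1)) Q = (prodSubs i s).esymm j := by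
  obtain ⟨x, hx⟩ : ∃ x : Fin (i * j) → S, (univ : Finset (Fin (i * j))).val.map x =
      Multiset.replicate (i * j - Multiset.card s) 0 + s := by
    obtain ⟨x, hx⟩ := exists_fin_map (Multiset.replicate (i * j - Multiset.card s) (0 : S) + s)
    have hc : Multiset.card (Multiset.replicate (i * j - Multiset.card s) (0 : S) + s) = i * j := by simp; omega
    generalize Multiset.card (Multiset.replicate (i * j - Multiset.card s) (0 : S) + s) = m at x hx hc
    subst hc
    exact ⟨x, hx⟩
  have h := congrArg (aeval x) hQ.1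
  rw [← AlgHom.comp_apply, comp_aeval, compGen_eval, hx, esymm_prodSubs_zero] at h
  rw [← h]
  refine congrArg (fun g => aeval g Q) (funext fun k => ?_)
  rw [aeval_esymm_eq_multiset_esymm, hx, esymm_replicate_zero_add]

theorem compPoly_universal {i j : ℕ} {Q : MvPolynomial (Fin (i * j)) ℤ} (hQ : IsCompPoly i j Q) (a : ℕ) :
    aeval (fun k : Fin (i * j) => esymm (Fin a) ℤ ((k : ℕ) + 1)) Q = compGen a i j := by
  classical
  have h1 : (aeval (fun k : Fin (i * j) => esymm (Fin a) ℤ ((k : ℕ) + 1)) Q).IsHomogeneous (i * j) := by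
    have hQ2 : IsWeightedHomogeneous (esWeight (i * j)) Q (i * j) := hQ.2
    have h := aeval_esymm_homogeneousComponent (σ := Fin a) Q (i * j)
    rw [hQ2.weightedHomogeneousComponent_same] at h
    rw [← h]
    exact homogeneousComponent_isHomogeneous _ _
  have h2 := compGen_isHomogeneous a i j
  ext s
  by_cases hw : s.degree = i * j
  swap
  · rw [h1.coeff_eq_zero hw, h2.coeff_eq_zero hw]
  have hA : s.support.card ≤ i * j := by
    rw [← hw, Finset.card_eq_sum_ones]
    exact Finset.sum_le_sum fun b hb => Nat.one_le_iff_ne_zero.mpr (Finsupp.mem_support_iff.mp hb)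
  set A := s.support
  rw [← coeff_keep A (aeval _ Q) s le_rfl, ← coeff_keep A (compGen a i j) s le_rfl]
  congr 1
  set x : Fin a → MvPolynomial (Fin a) ℤ := fun b => if b ∈ A then X b else 0
  have hx : (univ : Finset (Fin a)).val.map x = Multiset.replicate Aᶜ.card 0 + A.val.map x := by
    rw [← Finset.union_compl A, ← Finset.disjUnion_eq_union A Aᶜ disjoint_compl_right, Finset.disjUnion_val,
      Multiset.map_add, add_comm]
    congr 1
    rw [Multiset.eq_replicate]
    exact ⟨by simp, fun v hv => by obtain ⟨b, hb, rfl⟩ := Multiset.mem_map.mp hv; simp [x, Finset.mem_compl.mp hb]⟩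
  have hk : keep A = aeval x := by
    unfold keep
    congr 1
    funext b
    simp only [x]
    split_ifs <;> rfl
  rw [hk]
  refine Eq.trans ?_ (compGen_eval x i j).symm
  rw [hx, esymm_prodSubs_zero, ← compPoly_eval_small hQ (A.val.map x) (by simpa using hA),
    ← AlgHom.comp_apply, comp_aeval]
  refine congrArg (fun g => aeval g Q) (funext fun k => ?_)
  rw [aeval_esymm_eq_multiset_esymm, hx, esymm_replicate_zero_add]

theorem compPoly_eval {i j : ℕ} {Q : MvPolynomial (Fin (i * j)) ℤ} (hQ : IsCompPoly i j Q) (s : Multiset S) :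
    aeval (fun k : Fin (i * j) => s.esymm ((k : ℕ) + 1)) Q = (prodSubs i s).esymm j := by
  obtain ⟨x, hx⟩ := exists_fin_map s
  have h := congrArg (aeval x) (compPoly_universal hQ (Multiset.card s))
  rw [← AlgHom.comp_apply, comp_aeval, compGen_eval, hx] at h
  rw [← h]
  refine congrArg (fun g => aeval g Q) (funext fun k => ?_)
  rw [aeval_esymm_eq_multiset_esymm, hx]

theorem exists_isMulPoly (n : ℕ) : ∃ P : MvPolynomial (Fin n ⊕ Fin n) ℤ, IsMulPoly n P := by
  classical
  let A := MvPolynomial (Fin n) ℤ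
  set f : Fin n → Polynomial (MvPolynomial (Fin n) A) := fun b =>
    ∑ k ∈ range (n + 1), Polynomial.C (C (if h : 0 < k ∧ k ≤ n then (X (⟨k - 1, by omega⟩ : Fin n) : A) else 1) * X b ^ k) *
      Polynomial.X ^ k with hf
  set q : MvPolynomial (Fin n) A := (∏ b, f b).coeff n with hq
  have hsym : q.IsSymmetric := by
    intro e
    change (rename e).toRingHom q = q
    rw [hq, ← Polynomial.coeff_map, Polynomial.map_prod]
    congr 1
    refine Fintype.prod_equiv e _ _ fun b => ?_
    simp [hf, Polynomial.map_sum]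
  obtain ⟨Φ', hΦ'⟩ := esymmAlgHom_surjective A (σ := Fin n) (n := n) (Fintype.card_fin n).le ⟨q, hsym⟩
  have hΦ : aeval (fun k : Fin n => esymm (Fin n) A ((k : ℕ) + 1)) Φ' = q := by
    simpa [esymmAlgHom_apply] using congrArg Subtype.val hΦ'
  set P0 : MvPolynomial (Fin n ⊕ Fin n) ℤ :=
    eval₂Hom (rename Sum.inl : A →ₐ[ℤ] MvPolynomial (Fin n ⊕ Fin n) ℤ).toRingHom (fun b => X (Sum.inr b)) Φ'
  set φ : A →ₐ[ℤ] MvPolynomial (Fin n ⊕ Fin n) ℤ := (rename Sum.inl).comp (aeval fun k : Fin n => esymm (Fin n) ℤ ((k : ℕ) + 1))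
  set ev : MvPolynomial (Fin n) A →+* MvPolynomial (Fin n ⊕ Fin n) ℤ :=
    eval₂Hom φ.toRingHom fun b => X (Sum.inr b)
  have hgen : (mulGen n n : MvPolynomial (Fin n ⊕ Fin n) ℤ) = ev q := by
    rw [hq, ← Polynomial.coeff_map, Polynomial.map_prod, mulGen, Finset.esymm_map_val]
    have hfb : ∀ b : Fin n, (f b).map ev =
        ∏ a : Fin n, (1 + Polynomial.C (X (Sum.inl a) * X (Sum.inr b) : MvPolynomial (Fin n ⊕ Fin n) ℤ) * Polynomial.X) := by
      intro b
      rw [Finset.prod_one_add, Finset.sum_powerset, Finset.card_univ, Fintype.card_fin, hf, Polynomial.map_sum]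
      refine Finset.sum_congr rfl fun k hk => ?_
      rw [Finset.mem_range] at hk
      rw [Polynomial.map_mul, Polynomial.map_C, Polynomial.map_pow, Polynomial.map_X]
      rcases k with _ | k
      · simp [ev]
      · rw [dif_pos ⟨Nat.succ_pos k, by omega⟩]
        simp only [ev, map_mul, map_pow, eval₂Hom_C, eval₂Hom_X', φ, AlgHom.toRingHom_eq_coe, RingHom.coe_coe,
          AlgHom.comp_apply, aeval_X, Nat.add_sub_cancel]
        erw [aeval_X]; rw [MvPolynomial.esymm, map_sum, map_sum, Finset.sum_mul, Finset.sum_mul]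
        refine Finset.sum_congr rfl fun t ht => ?_
        rw [Finset.prod_mul_distrib, Finset.prod_const, Finset.prod_mul_distrib, Finset.prod_const,
          (Finset.mem_powersetCard.mp ht).2]
        simp [map_prod]
    rw [Finset.prod_congr rfl fun b _ => hfb b, Finset.prod_comm, ← Finset.prod_product', univ_product_univ,
      Finset.prod_one_add, Polynomial.finsetSum_coeff, Finset.powersetCard_eq_filter, Finset.sum_filter]
    refine Finset.sum_congr rfl fun t _ => ?_
    conv_rhs => rw [Finset.prod_mul_distrib, Finset.prod_const, ← map_prod, Polynomial.coeff_C_mul_X_pow]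
    simp [eq_comm]
  set g := esymmPair ℤ n n
  have hP0 : aeval g P0 = mulGen n n := by
    rw [hgen, ← hΦ]
    have : ((aeval g).toRingHom).comp (eval₂Hom (rename Sum.inl : A →ₐ[ℤ] MvPolynomial (Fin n ⊕ Fin n) ℤ).toRingHom
        (fun b => X (Sum.inr b))) = ev.comp (aeval fun k : Fin n => esymm (Fin n) A ((k : ℕ) + 1)).toRingHom := by
      refine MvPolynomial.ringHom_ext (fun r => ?_) fun k => ?_
      · simp [ev, φ, g, esymmPair]
        rw [bind₁_rename]
        exact DFunLike.congr_fun (algHom_ext (g := (rename Sum.inl).comp (bind₁ fun k : Fin n => esymm (Fin n) ℤ ((k : ℕ) + 1)))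
          fun i => by simp) r
      · simp [ev, g, esymmPair, esymm, map_sum, map_prod]
    exact RingHom.congr_fun this Φ'
  refine ⟨weightedHomogeneousComponent (mulW n n) ((n, n) : ℕ × ℕ) P0, ?_,
    weightedHomogeneousComponent_isWeightedHomogeneous _ _⟩
  change aeval g _ = _
  rw [← aeval_isWeightedHomogeneous_component (mulW n n) (biW n n) g (esymmPair_weighted n n), hP0]
  have h2 : IsWeightedHomogeneous (biW n n) (mulGen n n) ((n, n) : ℕ × ℕ) := by
    rw [mulGen, Finset.esymm_map_val]
    refine IsWeightedHomogeneous.sum _ _ _ fun t ht => ?_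
    have h := IsWeightedHomogeneous.prod t (fun ab : Fin n × Fin n => (X (Sum.inl ab.1) * X (Sum.inr ab.2) : MvPolynomial (Fin n ⊕ Fin n) ℤ))
      (fun _ => ((1, 1) : ℕ × ℕ)) (w := biW n n) fun ab _ => by
        simpa [biW] using (isWeightedHomogeneous_X (R := ℤ) (biW n n) (Sum.inl ab.1)).mul
          (isWeightedHomogeneous_X (R := ℤ) (biW n n) (Sum.inr ab.2))
    simpa [(Finset.mem_powersetCard.mp ht).2] using h
  exact h2.weightedHomogeneousComponent_same

end Groth.Agent.LambdaLib
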