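import Groth.Agent.LambdaLib.Special

/-!
# λ_{-1}(N) divides λ^p (x λ_{-1}(N))
-/

universe u

open Finset LambdaRing

namespace Groth.Agent.LambdaLib

variable {S : Type u} [CommRing S]

/-- product of the series of the even/odd exterior powers -/
noncomputable def parityProd (f : ℕ → PowerSeries S) (m : ℕ) (e : Bool) : PowerSeries S :=
  ∏ i ∈ range m, if i.bodd = e then f i else 1

theorem rootSeries_add (s t : Multiset S) : rootSeries (s + t) = rootSeries s * rootSeries t := by
  simp [rootSeries]

theorem rootSeries_map_mul (a : S) (s : Multiset S) :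
    rootSeries (s.map fun b => a * b) = PowerSeries.rescale a (rootSeries s) := by
  induction s using Multiset.induction with
  | empty => simp [rootSeries]
  | cons b s ih =>
    rw [Multiset.map_cons, rootSeries, Multiset.map_cons, Multiset.prod_cons, ← rootSeries, ih,
      rootSeries, rootSeries, Multiset.map_cons, Multiset.prod_cons, map_mul]
    have hC : PowerSeries.rescale a (PowerSeries.C b) = PowerSeries.C b := by
      ext n
      rw [PowerSeries.coeff_rescale, PowerSeries.coeff_C]
      split_ifs with h <;> simp [h]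
    rw [map_mul (PowerSeries.rescale a), map_add, map_one, map_mul (PowerSeries.rescale a), PowerSeries.rescale_X, hC]
    ring

theorem rootSeries_prodSubs_cons (a : S) (s : Multiset S) (i : ℕ) :
    rootSeries (prodSubs (i + 1) (a ::ₘ s)) =
      rootSeries (prodSubs (i + 1) s) * PowerSeries.rescale a (rootSeries (prodSubs i s)) := by
  rw [← rootSeries_map_mul, ← rootSeries_add]
  congr 1
  rw [prodSubs, prodSubs, prodSubs, Multiset.powersetCard_cons, Multiset.map_add, Multiset.map_map, Multiset.map_map]
  congr 1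
  exact Multiset.map_congr rfl fun t _ => by simp

theorem parityProd_cons (a : S) (s : Multiset S) {m : ℕ} (hm : Multiset.card s < m) (e : Bool) :
    parityProd (fun i => rootSeries (prodSubs i (a ::ₘ s))) (m + 1) e =
      parityProd (fun i => rootSeries (prodSubs i s)) (m + 1) e *
        PowerSeries.rescale a (parityProd (fun i => rootSeries (prodSubs i s)) (m + 1) (!e)) := by
  simp only [parityProd, map_prod]
  rw [Finset.prod_range_succ' (fun i => if i.bodd = e then rootSeries (prodSubs i (a ::ₘ s)) else 1),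
    Finset.prod_range_succ' (fun i => if i.bodd = e then rootSeries (prodSubs i s) else 1),
    Finset.prod_range_succ (fun i => PowerSeries.rescale a (if i.bodd = !e then rootSeries (prodSubs i s) else 1))]
  have hlast : rootSeries (prodSubs m s) = 1 := by
    rw [prodSubs, Multiset.powersetCard_eq_empty _ hm]; simp [rootSeries]
  rw [hlast, ite_self, map_one, mul_one, mul_right_comm (∏ k ∈ range m, _), ← Finset.prod_mul_distrib]
  congr 1
  · refine Finset.prod_congr rfl fun i _ => ?_
    rw [Nat.bodd_succ, rootSeries_prodSubs_cons]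
    cases i.bodd <;> cases e <;> simp
  · simp [prodSubs]

theorem C_dvd_sub_rescale (a : S) (f : PowerSeries S) :
    PowerSeries.C (1 - a) ∣ f - PowerSeries.rescale a f := by
  have h : ∀ n : ℕ, ∃ c, (1 - a ^ n) = (1 - a) * c := fun n => by
    have := sub_dvd_pow_sub_pow (1 : S) a n
    rw [one_pow] at this
    exact this
  choose c hc using h
  refine ⟨PowerSeries.mk fun n => c n * PowerSeries.coeff n f, ?_⟩
  ext n
  rw [map_sub, PowerSeries.coeff_rescale, PowerSeries.coeff_C_mul, PowerSeries.coeff_mk, ← mul_assoc, ← hc]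
  ring

theorem C_prod_dvd_parity_sub (s : Multiset S) {m : ℕ} (hm : Multiset.card s < m) :
    PowerSeries.C ((s.map fun a => 1 - a).prod) ∣
      parityProd (fun i => rootSeries (prodSubs i s)) m false - parityProd (fun i => rootSeries (prodSubs i s)) m true := by
  obtain ⟨m, rfl⟩ : ∃ k, m = k + 1 := ⟨m - 1, by omega⟩
  induction s using Multiset.induction with
  | empty => simp
  | cons a s ih =>
    rw [Multiset.card_cons] at hm
    obtain ⟨g, hg⟩ := ih (by omega)
    rw [parityProd_cons a s (by omega), parityProd_cons a s (by omega), Multiset.map_cons, Multiset.prod_cons, map_mul,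
      Bool.not_false, Bool.not_true]
    set A := parityProd (fun i => rootSeries (prodSubs i s)) (m + 1) false
    set B := parityProd (fun i => rootSeries (prodSubs i s)) (m + 1) true
    set D := (s.map fun a => 1 - a).prod
    have hA : A = B + PowerSeries.C D * g := by rw [← hg]; ring
    have hC : PowerSeries.rescale a (PowerSeries.C D) = PowerSeries.C D := by
      ext n
      rw [PowerSeries.coeff_rescale, PowerSeries.coeff_C]
      split_ifs with h <;> simp [h]
    have : A * PowerSeries.rescale a B - B * PowerSeries.rescale a A =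
        PowerSeries.C D * (g * (PowerSeries.rescale a B - B) + B * (g - PowerSeries.rescale a g)) := by
      rw [hA, map_add, map_mul, hC]; ring
    rw [this, mul_comm (PowerSeries.C (1 - a))]
    refine mul_dvd_mul dvd_rfl (dvd_add (dvd_mul_of_dvd_right ?_ _) (dvd_mul_of_dvd_right (C_dvd_sub_rescale a g) _))
    rw [← neg_sub B, dvd_neg]
    exact C_dvd_sub_rescale a B

open MvPolynomial in
theorem lam_alt_dvd {K : Type u} [CommRing K] [LambdaOps K] (hK : IsSpecial K) (d : ℕ) (N : K)
    (hN : ∀ i : ℕ, d < i → LambdaOps.lam i N = 0) (j : ℕ) (hj : 1 ≤ j) :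
    (∑ i ∈ range (d + 1), (-1 : K) ^ i * LambdaOps.lam i N) ∣
      LambdaOps.lam j (∑ i ∈ range (d + 1), (-1 : K) ^ i * LambdaOps.lam i N) := by
  classical
  choose Q hQ using exists_isCompPoly
  set e : ℕ → MvPolynomial (Fin d) ℤ :=
    fun k => if k = 0 then 1 else if h : k - 1 < d then X (⟨k - 1, h⟩ : Fin d) else 0
  set ser : ℕ → PowerSeries (MvPolynomial (Fin d) ℤ) :=
    fun i => PowerSeries.mk fun n => aeval (fun l : Fin (i * n) => e ((l : ℕ) + 1)) (Q i n)
  set DE : MvPolynomial (Fin d) ℤ := ∑ i ∈ range (d + 1), (-1) ^ i * e i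
  set Δ := parityProd ser (d + 1) false - parityProd ser (d + 1) true
  set ev := aeval (R := ℤ) fun l : Fin d => MvPolynomial.esymm (Fin d) ℤ ((l : ℕ) + 1)
  set s := (univ : Finset (Fin d)).val.map fun a => (X a : MvPolynomial (Fin d) ℤ)
  have he : ∀ k, ev (e k) = s.esymm k := by
    intro k
    rw [← esymm_eq_multiset_esymm]
    rcases k with _ | k
    · simp [e]
    · simp only [e, Nat.succ_ne_zero, if_false, Nat.add_sub_cancel]
      split_ifs with h
      · rw [aeval_X]
      · rw [map_zero, MvPolynomial.esymm, Finset.powersetCard_eq_empty.mpr (by simp; omega), Finset.sum_empty]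
  have hser : ∀ i, PowerSeries.map ev.toRingHom (ser i) = rootSeries (prodSubs i s) := by
    intro i
    ext n : 1
    rw [PowerSeries.coeff_map, PowerSeries.coeff_mk, map_aeval_int, coeff_rootSeries, ← compPoly_eval (hQ i n)]
    simp only [AlgHom.toRingHom_eq_coe, RingHom.coe_coe, he]
    congr!
  have hDE : ev DE = (s.map fun a => 1 - a).prod := by
    rw [map_sum, Multiset.map_map]
    simp only [Function.comp_def]
    rw [show ((univ : Finset (Fin d)).val.map fun a => 1 - (X a : MvPolynomial (Fin d) ℤ)).prod = ∏ a, (1 - X a) from rfl,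
      Finset.prod_congr rfl fun a _ => (show (1 : MvPolynomial (Fin d) ℤ) - X a = 1 + (-1) * X a by ring),
      Finset.prod_one_add, Finset.sum_powerset, Finset.card_univ, Fintype.card_fin]
    refine Finset.sum_congr rfl fun k _ => ?_
    rw [map_mul, map_pow, map_neg, map_one, he, Finset.esymm_map_val, Finset.mul_sum]
    refine Finset.sum_congr rfl fun t ht => ?_
    rw [Finset.prod_mul_distrib, Finset.prod_const, (Finset.mem_powersetCard.mp ht).2]
  have key : ∀ n, DE ∣ PowerSeries.coeff n Δ := by
    intro n
    obtain ⟨g, hg⟩ := C_prod_dvd_parity_sub s (m := d + 1) (by simp [s])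
    have h : ev (PowerSeries.coeff n Δ) = ev DE * PowerSeries.coeff n g := by
      change ev.toRingHom _ = _
      rw [← PowerSeries.coeff_map, map_sub, hDE, ← PowerSeries.coeff_C_mul, ← hg]
      simp only [parityProd, map_prod, apply_ite (PowerSeries.map ev.toRingHom), map_one, hser]
    by_cases hz : ev DE = 0
    · exfalso
      have h1 := congrArg (MvPolynomial.eval fun _ => (0 : ℤ)) hz
      rw [hDE, Multiset.map_map, map_multiset_prod, Multiset.map_map] at h1
      simp at h1
    have hsym : (PowerSeries.coeff n g).IsSymmetric := by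
      intro σ
      have hfix : ∀ p, rename σ (ev p) = ev p := by
        intro p
        rw [← AlgHom.comp_apply, comp_aeval]
        simp only [rename_esymm]
        rfl
      have h2 := congrArg (rename σ) h
      rw [map_mul, hfix, hfix, h] at h2
      exact (mul_left_cancel₀ hz h2).symm
    obtain ⟨Ψ', hΨ'⟩ := esymmAlgHom_surjective ℤ (σ := Fin d) (n := d) (Fintype.card_fin d).le ⟨_, hsym⟩
    have hΨ : ev Ψ' = PowerSeries.coeff n g := by
      simpa [esymmAlgHom_apply, ev] using congrArg Subtype.val hΨ'
    refine ⟨Ψ', aeval_esymm_injective (σ := Fin d) (R := ℤ) (n := d) (Fintype.card_fin d).ge ?_⟩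
    change ev _ = ev _
    rw [map_mul, h, hΨ]
  set ρ := aeval (R := ℤ) fun l : Fin d => LambdaOps.lam ((l : ℕ) + 1) N
  have hρe : ∀ k, ρ (e k) = LambdaOps.lam k N := by
    intro k
    rcases k with _ | k
    · simp [e, LambdaOps.lam_zero]
    · simp only [e, Nat.succ_ne_zero, if_false, Nat.add_sub_cancel]
      split_ifs with h
      · rw [aeval_X]
      · rw [map_zero, hN _ (by omega)]
  have hρser : ∀ i, PowerSeries.map ρ.toRingHom (ser i) = lamSeries (LambdaOps.lam i N) := by
    intro i
    ext n
    rw [PowerSeries.coeff_map, PowerSeries.coeff_mk, map_aeval_int (iT := (inferInstance : Algebra ℤ K)), coeff_lamSeries, hK.lam_lam i n _ (hQ i n)]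
    simp only [AlgHom.toRingHom_eq_coe, RingHom.coe_coe, hρe]
  set D := ∑ i ∈ range (d + 1), (-1 : K) ^ i * LambdaOps.lam i N
  have hρD : ρ DE = D := by simp [DE, D, map_sum, map_mul, hρe]
  have hprod : ∀ b : Bool, PowerSeries.map ρ.toRingHom (parityProd ser (d + 1) b) =
      lamSeries (∑ i ∈ range (d + 1), if i.bodd = b then LambdaOps.lam i N else 0) := by
    intro b
    rw [lamSeries_sum, parityProd, map_prod]
    refine Finset.prod_congr rfl fun i _ => ?_
    split_ifs
    · exact hρser i
    · rw [map_one, lamSeries_zero]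
  have hsplit : D + (∑ i ∈ range (d + 1), if i.bodd = true then LambdaOps.lam i N else 0) =
      ∑ i ∈ range (d + 1), if i.bodd = false then LambdaOps.lam i N else 0 := by
    rw [← Finset.sum_add_distrib]
    refine Finset.sum_congr rfl fun i _ => ?_
    cases hb : i.bodd
    · have he : Even i := by rw [Nat.even_iff]; rw [Nat.mod_two_of_bodd, hb]; rfl
      simp [he.neg_one_pow]
    · have ho : Odd i := by rw [Nat.odd_iff]; rw [Nat.mod_two_of_bodd, hb]; rfl
      simp [ho.neg_one_pow]
  obtain ⟨w, hw⟩ : PowerSeries.C D ∣ PowerSeries.map ρ.toRingHom Δ := by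
    choose c hc using key
    refine ⟨PowerSeries.mk fun n => ρ (c n), ?_⟩
    ext n
    rw [PowerSeries.coeff_map, hc, map_mul, PowerSeries.coeff_C_mul, PowerSeries.coeff_mk, ← hρD]
    rfl
  rw [map_sub, hprod, hprod, ← hsplit, lamSeries_add] at hw
  set B := ∑ i ∈ range (d + 1), if i.bodd = true then LambdaOps.lam i N else 0
  obtain ⟨u, hu⟩ := isUnit_lamSeries B
  have : lamSeries D - 1 = PowerSeries.C D * (w * (↑u⁻¹ : PowerSeries K)) := by
    rw [← mul_assoc, ← hw, sub_mul, mul_assoc, ← hu, Units.mul_inv, mul_one]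
  have h := congrArg (PowerSeries.coeff j) this
  rw [map_sub, coeff_lamSeries, PowerSeries.coeff_one, if_neg (by omega), sub_zero, PowerSeries.coeff_C_mul] at h
  exact ⟨_, h⟩

open MvPolynomial in
theorem alt_dvd_lam_mul {K : Type u} [CommRing K] [LambdaOps K] (hK : IsSpecial K) (d : ℕ) (N : K)
    (hN : ∀ i : ℕ, d < i → LambdaOps.lam i N = 0) (p : ℕ) (hp : 1 ≤ p) (x : K) :
    (∑ i ∈ range (d + 1), (-1 : K) ^ i * LambdaOps.lam i N) ∣
      LambdaOps.lam p (x * ∑ i ∈ range (d + 1), (-1 : K) ^ i * LambdaOps.lam i N) := by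
  obtain ⟨P, hP⟩ := exists_isMulPoly p
  rw [hK.lam_mul p P hP, aeval_def, eval₂_eq]
  refine Finset.dvd_sum fun s hs => dvd_mul_of_dvd_right ?_ _
  have hw : Finsupp.weight (mulW p p) s = ((p, p) : ℕ × ℕ) := hP.2 (MvPolynomial.mem_support_iff.mp hs)
  obtain ⟨l, hl⟩ : ∃ l : Fin p, s (Sum.inr l) ≠ 0 := by
    by_contra! h0
    have h1 := congrArg Prod.snd hw
    rw [Finsupp.weight_apply, Finsupp.sum_fintype _ _ (fun i => by simp), Fintype.sum_sum_type] at h1
    simp [mulW, h0, Prod.snd_sum] at h1
    omega
  refine dvd_trans ?_ (Finset.dvd_prod_of_mem _ (Finsupp.mem_support_iff.mpr hl))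
  exact dvd_pow (lam_alt_dvd hK d N hN _ (by omega)) hl

end Groth.Agent.LambdaLib
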