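import Mathlib
import Groth.Prelude.Def_KRR
import Groth.Agent.LambdaLib.Pos

/-!
# Ample line elements
-/

set_option autoImplicit false

universe u

open Finset LambdaRing

namespace Groth.Agent.LambdaLib

variable {K : Type u} [CommRing K] [LambdaOps K] {P : PosStructure K}

theorem isNilpotent_line_of_natCast_sub_pos {v : K} (hv : P.IsLine v) {m : ℕ} (he : (m : K) - v ∈ P.pos) :
    IsNilpotent (v - 1) := by
  have h0 := P.aug_pos _ he
  rw [map_sub, map_natCast, hv.2] at h0
  refine ⟨m, ?_⟩
  -- λ^i(m - v) in terms of v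
  have hrec : ∀ i, LambdaOps.lam (i + 1) ((m : K) - v) = (m.choose (i + 1) : K) - v * LambdaOps.lam i ((m : K) - v) := by
    intro i
    have h := lamSeries_add ((m : K) - v) v
    rw [sub_add_cancel, lamSeries_of_line (lam_line_eq_zero P hv)] at h
    have h2 := congrArg (PowerSeries.coeff (i + 1)) h
    rw [mul_add, mul_one, map_add, ← mul_assoc, PowerSeries.coeff_succ_mul_X, PowerSeries.coeff_mul_C,
      coeff_lamSeries, coeff_lamSeries, coeff_lamSeries, lam_natCast (lam_one_eq_zero P)] at h2
    linear_combination -h2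
  have hform : ∀ i, LambdaOps.lam i ((m : K) - v) = ∑ j ∈ range (i + 1), (m.choose j : K) * (-v) ^ (i - j) := by
    intro i
    induction i with
    | zero => simp [LambdaOps.lam_zero]
    | succ i ih =>
      rw [hrec, ih, Finset.sum_range_succ _ (i + 1), Nat.sub_self, pow_zero, mul_one, Finset.mul_sum,
        sub_eq_add_neg, add_comm, ← Finset.sum_neg_distrib]
      congr 1
      refine Finset.sum_congr rfl fun j hj => ?_
      rw [Finset.mem_range] at hj
      rw [show i + 1 - j = (i - j) + 1 by omega, pow_succ]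
      ring
  have hm := P.lam_eq_zero _ he m (by rw [map_sub, map_natCast, hv.2]; omega)
  rw [hform] at hm
  have h3 : ((1 : K) + -v) ^ m = 0 := by
    rw [add_pow, ← hm]
    exact Finset.sum_congr rfl fun j _ => by ring
  rw [show v - 1 = (-1) * (1 + -v) by ring, mul_pow, h3, mul_zero]

theorem isNilpotent_line_sub_one_of_ample {u : K} (hu : KRR.IsAmpleElt P u) {w : K} (hw : P.IsLine w) :
    IsNilpotent (w - 1) := by
  have key : ∀ w : K, P.IsLine w → ∃ n₀, ∀ n, n₀ ≤ n → IsNilpotent (u ^ n * w - 1) := fun w hw => by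
    obtain ⟨n₀, hn₀⟩ := hu.2 (-w)
    refine ⟨n₀, fun n hn => ?_⟩
    obtain ⟨e, m, he, hem⟩ := hn₀ n hn
    exact isNilpotent_line_of_natCast_sub_pos (isLine_mul P (isLine_pow P hu.1 n) hw)
      (m := m) (by rwa [show (m : K) - u ^ n * w = e by linear_combination hem])
  obtain ⟨a, ha⟩ := key w hw
  obtain ⟨b, hb⟩ := key 1 (isLine_one P)
  have h := Commute.isNilpotent_sub (Commute.all _ _) (ha _ (le_max_left a b)) (hb _ (le_max_right a b))
  have hunit : IsUnit (u ^ max a b) := (isUnit_of_isLine P hu.1).pow _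
  rw [show u ^ max a b * w - 1 - (u ^ max a b * 1 - 1) = u ^ max a b * (w - 1) by ring] at h
  obtain ⟨k, hk⟩ := h
  rw [mul_pow] at hk
  exact ⟨k, (hunit.pow k).mul_right_eq_zero.mp hk⟩

end Groth.Agent.LambdaLib
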