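import Groth.Agent.LambdaLib.Filtration

/-!
# Eigenspaces of Adams operations on the rationalised γ-filtration
-/

universe u

open Finset LambdaRing TensorProduct

namespace Groth.Agent.LambdaLib

section abstract

variable {k : Type*} [Field k] {V : Type*} [AddCommGroup V] [Module k V]

/-- A filtration on which `Ψ` acts as `c m` in degree `m`, with distinct `c`. -/
structure GrScalar (Ψ : V →ₗ[k] V) (F : ℕ → Submodule k V) (c : ℕ → k) (d : ℕ) : Prop where
  anti : Antitone F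
  zero : F 0 = ⊤
  bot : F (d + 1) = ⊥
  sub : ∀ m v, v ∈ F m → Ψ v - c m • v ∈ F (m + 1)
  inj : Function.Injective c

variable {Ψ : V →ₗ[k] V} {F : ℕ → Submodule k V} {c : ℕ → k} {d : ℕ}

theorem GrScalar.eigen_le (h : GrScalar Ψ F c d) (m : ℕ) : Module.End.eigenspace Ψ (c m) ≤ F m := by
  intro v hv
  rw [Module.End.mem_eigenspace_iff] at hv
  have : ∀ i ≤ m, v ∈ F i := by
    intro i hi
    induction i with
    | zero => rw [h.zero]; trivial
    | succ i ih =>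
      have h2 := h.sub i v (ih (by omega))
      rw [hv, ← sub_smul] at h2
      have hne : c m - c i ≠ 0 := sub_ne_zero.mpr fun he => by have := h.inj he; omega
      simpa [smul_smul, inv_mul_cancel₀ hne] using (F (i + 1)).smul_mem (c m - c i)⁻¹ h2
  exact this m le_rfl

theorem GrScalar.eigen_inf (h : GrScalar Ψ F c d) (m : ℕ) : Module.End.eigenspace Ψ (c m) ⊓ F (m + 1) = ⊥ := by
  rw [eq_bot_iff]
  rintro v ⟨hv, hv'⟩
  rw [SetLike.mem_coe, Module.End.mem_eigenspace_iff] at hv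
  have : ∀ i, v ∈ F (m + 1 + i) := by
    intro i
    induction i with
    | zero => simpa using hv'
    | succ i ih =>
      have h2 := h.sub _ v ih
      rw [hv, ← sub_smul] at h2
      have hne : c m - c (m + 1 + i) ≠ 0 := sub_ne_zero.mpr fun he => by have := h.inj he; omega
      have h3 := (F (m + 1 + i + 1)).smul_mem (c m - c (m + 1 + i))⁻¹ h2
      rwa [smul_smul, inv_mul_cancel₀ hne, one_smul] at h3
  have h2 := h.anti (show d + 1 ≤ m + 1 + d by omega) (this d)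
  rwa [h.bot] at h2

theorem GrScalar.le_eigen_sup (h : GrScalar Ψ F c d) (m : ℕ) :
    F m ≤ Module.End.eigenspace Ψ (c m) ⊔ F (m + 1) := by
  intro v hv
  have key : ∀ i, ∃ w, v - w ∈ F (m + 1) ∧ Ψ w - c m • w ∈ F (m + 1 + i) := by
    intro i
    induction i with
    | zero => exact ⟨v, by simp, h.sub m v hv⟩
    | succ i ih =>
      obtain ⟨w, hw, hr⟩ := ih
      set r := Ψ w - c m • w with hrdef
      have hne : c (m + 1 + i) - c m ≠ 0 := sub_ne_zero.mpr fun he => by have := h.inj he; omega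
      refine ⟨w - (c (m + 1 + i) - c m)⁻¹ • r, ?_, ?_⟩
      · rw [← sub_add]
        exact add_mem hw (Submodule.smul_mem _ _ (h.anti (by omega) hr))
      · have h2 := h.sub _ r hr
        have : Ψ (w - (c (m + 1 + i) - c m)⁻¹ • r) - c m • (w - (c (m + 1 + i) - c m)⁻¹ • r) =
            -((c (m + 1 + i) - c m)⁻¹ • (Ψ r - c (m + 1 + i) • r)) := by
          rw [map_sub, map_smul, eq_neg_iff_add_eq_zero]
          have hr' : Ψ w = r + c m • w := by rw [hrdef, sub_add_cancel]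
          rw [hr']
          match_scalars <;> field_simp <;> ring
        rw [this, ← add_assoc]
        exact neg_mem (Submodule.smul_mem _ _ h2)
  obtain ⟨w, hw, hr⟩ := key d
  have hz := h.anti (show d + 1 ≤ m + 1 + d by omega) hr
  rw [h.bot, Submodule.mem_bot] at hz
  have hwe : w ∈ Module.End.eigenspace Ψ (c m) := by rw [Module.End.mem_eigenspace_iff]; exact sub_eq_zero.mp hz
  rw [← add_sub_cancel w v]
  exact Submodule.add_mem_sup hwe hw

theorem GrScalar.sup_eq (h : GrScalar Ψ F c d) (m : ℕ) :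
    Module.End.eigenspace Ψ (c m) ⊔ F (m + 1) = F m :=
  le_antisymm (sup_le (h.eigen_le m) (h.anti (Nat.le_succ m))) (h.le_eigen_sup m)

theorem GrScalar.iSup_eigen (h : GrScalar Ψ F c d) :
    (⨆ m ∈ range (d + 1), Module.End.eigenspace Ψ (c m)) = ⊤ := by
  have : ∀ i, ∀ m, m + i = d + 1 → F m ≤ ⨆ m ∈ range (d + 1), Module.End.eigenspace Ψ (c m) := by
    intro i
    induction i with
    | zero => intro m hm; rw [show m = d + 1 by omega, h.bot]; exact bot_le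
    | succ i ih =>
      intro m hm
      rw [← h.sup_eq m]
      exact sup_le (le_biSup (fun k => Module.End.eigenspace Ψ (c k)) (Finset.mem_range.mpr (by omega))) (ih (m + 1) (by omega))
  rw [eq_top_iff, ← h.zero]
  exact this (d + 1) 0 (by omega)

end abstract

variable {K : Type u} [CommRing K] [LambdaOps K] {P : PosStructure K}

/-- rationalised filtration -/
noncomputable def ratFil (P : PosStructure K) (n : ℕ) : Submodule ℚ (ℚ ⊗[ℤ] K) :=
  Submodule.span ℚ ((fun x : K => (1 : ℚ) ⊗ₜ[ℤ] x) '' (gammaFiltration P n : Set K))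

theorem grScalar (hK : HasSplitting K P) (d : ℕ) (hd : gammaFiltration P (d + 1) = ⊥) (j : ℕ) (hj : 2 ≤ j)
    (Ψ : ℚ ⊗[ℤ] K →ₗ[ℚ] ℚ ⊗[ℤ] K) (hΨ : ∀ x : K, Ψ (1 ⊗ₜ[ℤ] x) = 1 ⊗ₜ[ℤ] adams P j x) :
    GrScalar Ψ (ratFil P) (fun m => (j : ℚ) ^ m) d where
  anti := fun a b h => Submodule.span_mono (Set.image_mono (gammaFiltration_antitone P h))
  zero := by
    rw [eq_top_iff]
    rintro v -
    induction v using TensorProduct.induction_on with
    | zero => exact zero_mem _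
    | tmul q x =>
      rw [show q ⊗ₜ[ℤ] x = q • ((1 : ℚ) ⊗ₜ[ℤ] x) by rw [TensorProduct.smul_tmul', smul_eq_mul, mul_one]]
      exact Submodule.smul_mem _ _ (Submodule.subset_span ⟨x, by simp [gammaFiltration], rfl⟩)
    | add a b ha hb => exact add_mem ha hb
  bot := by
    rw [eq_bot_iff, ratFil, Submodule.span_le]
    rintro _ ⟨x, hx, rfl⟩
    rw [SetLike.mem_coe, hd, AddSubgroup.mem_bot] at hx
    simp [hx]
  inj := (Nat.cast_injective (R := ℚ)).comp (Nat.pow_right_injective hj) |>.comp (fun a b h => h) |> fun h => by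
    simpa [Function.comp_def] using h
  sub := fun m v hv => by
    induction hv using Submodule.span_induction with
    | mem y hy =>
      obtain ⟨x, hx, rfl⟩ := hy
      rw [hΨ, show ((j : ℚ) ^ m) • ((1 : ℚ) ⊗ₜ[ℤ] x) = (1 : ℚ) ⊗ₜ[ℤ] ((j : K) ^ m * x) by
        rw [← Nat.cast_pow, ← Nat.cast_pow, Nat.cast_smul_eq_nsmul, ← nsmul_eq_mul, TensorProduct.tmul_smul],
        ← TensorProduct.tmul_sub]
      exact Submodule.subset_span ⟨_, adams_sub_pow_mem hK j m hx, rfl⟩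
    | zero => simp
    | add a b _ _ ha hb =>
      rw [map_add, smul_add, add_sub_add_comm]; exact add_mem ha hb
    | smul q a _ ha =>
      rw [map_smul, smul_comm, ← smul_sub]; exact Submodule.smul_mem _ _ ha

theorem eigenspace_le_eigenspace (hK : HasSplitting K P) (d : ℕ) (hd : gammaFiltration P (d + 1) = ⊥)
    (j l : ℕ) (hj : 2 ≤ j) (hl : 2 ≤ l) (Ψj Ψl : ℚ ⊗[ℤ] K →ₗ[ℚ] ℚ ⊗[ℤ] K)
    (hΨj : ∀ x : K, Ψj (1 ⊗ₜ[ℤ] x) = 1 ⊗ₜ[ℤ] adams P j x)
    (hΨl : ∀ x : K, Ψl (1 ⊗ₜ[ℤ] x) = 1 ⊗ₜ[ℤ] adams P l x) (m : ℕ) :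
    Module.End.eigenspace Ψj ((j : ℚ) ^ m) ≤ Module.End.eigenspace Ψl ((l : ℚ) ^ m) := by
  have gj := grScalar hK d hd j hj Ψj hΨj
  have gl := grScalar hK d hd l hl Ψl hΨl
  have hcomm : ∀ v, Ψj (Ψl v) = Ψl (Ψj v) := by
    intro v
    induction v using TensorProduct.induction_on with
    | zero => simp
    | tmul q x =>
      rw [show q ⊗ₜ[ℤ] x = q • ((1 : ℚ) ⊗ₜ[ℤ] x) by rw [TensorProduct.smul_tmul', smul_eq_mul, mul_one]]
      simp only [map_smul, hΨj, hΨl, adams_adams hK, mul_comm j l]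
    | add a b ha hb => simp [map_add, ha, hb]
  intro v hv
  have hmem := gl.sub m v (gj.eigen_le m hv)
  have he : Ψl v - (l : ℚ) ^ m • v ∈ Module.End.eigenspace Ψj ((j : ℚ) ^ m) := by
    rw [Module.End.mem_eigenspace_iff] at hv ⊢
    rw [map_sub, map_smul, hcomm, hv, map_smul, smul_sub, smul_comm ((l : ℚ) ^ m)]
  have hz : Ψl v - (l : ℚ) ^ m • v ∈ (⊥ : Submodule ℚ (ℚ ⊗[ℤ] K)) := gj.eigen_inf m ▸ Submodule.mem_inf.mpr ⟨he, hmem⟩
  rw [Submodule.mem_bot, sub_eq_zero] at hz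
  rwa [Module.End.mem_eigenspace_iff]

open Polynomial in
/-- truncated logarithm of 1 + X -/
noncomputable def logPoly (d : ℕ) : ℚ[X] :=
  ∑ n ∈ range (d + 1), Polynomial.C ((-1 : ℚ) ^ n / ((n : ℚ) + 1)) * X ^ (n + 1)

open Polynomial in
theorem X_pow_dvd_logPoly_comp (d j : ℕ) :
    (X : ℚ[X]) ^ (d + 1) ∣ (logPoly d).comp ((1 + X) ^ j - 1) - (j : ℚ[X]) * logPoly d := by
  set Y : ℚ[X] := (1 + X) ^ j - 1 with hY
  set F := (logPoly d).comp Y - (j : ℚ[X]) * logPoly d with hF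
  have hder : derivative (logPoly d) = ∑ n ∈ range (d + 1), (-(X : ℚ[X])) ^ n := by
    rw [logPoly, derivative_sum]
    refine Finset.sum_congr rfl fun n _ => ?_
    rw [derivative_C_mul_X_pow, show n + 1 - 1 = n by omega, Nat.cast_succ,
      div_mul_cancel₀ _ (by positivity), neg_pow (X : ℚ[X]), map_pow, map_neg, map_one]
  have hgeom : ∀ Z : ℚ[X], (∑ n ∈ range (d + 1), (-Z) ^ n) * (1 + Z) = 1 - (-Z) ^ (d + 1) := fun Z => by
    have h := geom_sum_mul (-Z) (d + 1)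
    linear_combination -h
  have hdY : derivative Y * (1 + X) = (j : ℚ[X]) * (1 + Y) := by
    rw [hY, derivative_sub, derivative_pow, derivative_one, sub_zero, derivative_add, derivative_one, derivative_X]
    rcases j with _ | i
    · simp
    · rw [map_natCast, show i + 1 - 1 = i by omega, pow_succ]; ring
  have hcomp : (∑ n ∈ range (d + 1), (-(X : ℚ[X])) ^ n).comp Y = ∑ n ∈ range (d + 1), (-Y) ^ n := by
    simp [Polynomial.sum_comp]
  have hX : (X : ℚ[X]) ∣ Y := by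
    rw [hY]
    have h := sub_dvd_pow_sub_pow (1 + X : ℚ[X]) 1 j
    rwa [show (1 : ℚ[X]) + X - 1 = X by ring, one_pow] at h
  have hFd : (X : ℚ[X]) ^ (d + 1) ∣ derivative F * (1 + X) := by
    have : derivative F * (1 + X) = (j : ℚ[X]) * ((-X) ^ (d + 1) - (-Y) ^ (d + 1)) := by
      rw [hF, derivative_sub, derivative_comp, derivative_mul, derivative_natCast, hder, hcomp]
      linear_combination (∑ n ∈ range (d + 1), (-Y) ^ n) * hdY + (j : ℚ[X]) * hgeom Y - (j : ℚ[X]) * hgeom X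
    rw [this]
    exact dvd_mul_of_dvd_right (dvd_sub (pow_dvd_pow_of_dvd (dvd_neg.mpr dvd_rfl) _)
      (pow_dvd_pow_of_dvd (dvd_neg.mpr hX) _)) _
  have hFd' : (X : ℚ[X]) ^ (d + 1) ∣ derivative F := by
    have hcop : IsCoprime ((X : ℚ[X]) ^ (d + 1)) (1 + X) := by
      refine IsCoprime.pow_left ⟨-1, 1, by ring⟩
    exact hcop.dvd_of_dvd_mul_right hFd
  rw [X_pow_dvd_iff] at hFd' ⊢
  intro i hi
  rcases i with _ | i
  · rw [hF, coeff_zero_eq_eval_zero, eval_sub, eval_comp, hY]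
    simp [logPoly, eval_finset_sum]
  · have := hFd' i (by omega)
    rw [coeff_derivative] at this
    exact (mul_eq_zero.mp this).resolve_right (by positivity)

theorem logSeries_mem (hK : HasSplitting K P) (d : ℕ) (hd : gammaFiltration P (d + 1) = ⊥) (j : ℕ)
    (Ψ : ℚ ⊗[ℤ] K →ₗ[ℚ] ℚ ⊗[ℤ] K) (hΨ : ∀ x : K, Ψ (1 ⊗ₜ[ℤ] x) = 1 ⊗ₜ[ℤ] adams P j x) {u : K} (hu : P.IsLine u) :
    (∑ n ∈ range (d + 1), ((-1 : ℚ) ^ n / ((n : ℚ) + 1)) ⊗ₜ[ℤ] ((u - 1) ^ (n + 1))) ∈
        Module.End.eigenspace Ψ (j : ℚ) ∧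
      (∑ n ∈ range (d + 1), ((-1 : ℚ) ^ n / ((n : ℚ) + 1)) ⊗ₜ[ℤ] ((u - 1) ^ (n + 1))) - (1 : ℚ) ⊗ₜ[ℤ] (u - 1) ∈
        ratFil P 2 := by
  have h1 : u - 1 ∈ gammaFiltration P 1 := mem_one_of_aug_eq_zero P (by simp [hu.2])
  constructor
  · rw [Module.End.mem_eigenspace_iff]
    have hx : ∀ x : K, (∑ n ∈ range (d + 1), ((-1 : ℚ) ^ n / ((n : ℚ) + 1)) ⊗ₜ[ℤ] (x ^ (n + 1))) =
        Polynomial.aeval ((1 : ℚ) ⊗ₜ[ℤ] x) (logPoly d) := by
      intro x
      rw [logPoly, map_sum]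
      refine Finset.sum_congr rfl fun n _ => ?_
      rw [map_mul, Polynomial.aeval_C, map_pow, Polynomial.aeval_X, Algebra.TensorProduct.tmul_pow, one_pow,
        Algebra.TensorProduct.algebraMap_apply, Algebra.TensorProduct.tmul_mul_tmul, mul_one, one_mul]
      rfl
    have hL : Ψ (∑ n ∈ range (d + 1), ((-1 : ℚ) ^ n / ((n : ℚ) + 1)) ⊗ₜ[ℤ] ((u - 1) ^ (n + 1))) =
        ∑ n ∈ range (d + 1), ((-1 : ℚ) ^ n / ((n : ℚ) + 1)) ⊗ₜ[ℤ] ((u ^ j - 1) ^ (n + 1)) := by
      rw [map_sum]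
      refine Finset.sum_congr rfl fun n _ => ?_
      have hψ : adams P j ((u - 1) ^ (n + 1)) = (u ^ j - 1) ^ (n + 1) := by
        change adamsRingHom hK j ((u - 1) ^ (n + 1)) = _
        rw [map_pow, map_sub, map_one]
        exact congrArg (fun z => (z - 1) ^ (n + 1)) (adams_of_isLine P hu j)
      have hq : ∀ (q : ℚ) (x : K), q ⊗ₜ[ℤ] x = q • ((1 : ℚ) ⊗ₜ[ℤ] x) := fun q x => by
        rw [TensorProduct.smul_tmul', smul_eq_mul, mul_one]
      rw [hq, map_smul, hΨ, hψ, ← hq]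
    rw [hL, hx, hx]
    obtain ⟨G, hG⟩ := X_pow_dvd_logPoly_comp d j
    have hz : ((1 : ℚ) ⊗ₜ[ℤ] (u - 1)) ^ (d + 1) = 0 := by
      have := pow_mem P h1 (d + 1)
      rw [one_mul, hd, AddSubgroup.mem_bot] at this
      rw [Algebra.TensorProduct.tmul_pow, this, TensorProduct.tmul_zero]
    have h := congrArg (Polynomial.aeval ((1 : ℚ) ⊗ₜ[ℤ] (u - 1))) hG
    rw [map_mul, map_pow, Polynomial.aeval_X, hz, zero_mul, map_sub, Polynomial.aeval_comp, map_mul, map_natCast,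
      sub_eq_zero, map_sub, map_pow, map_add, map_one, Polynomial.aeval_X] at h
    have hone : (1 : ℚ ⊗[ℤ] K) = (1 : ℚ) ⊗ₜ[ℤ] (1 : K) := rfl
    rw [hone, ← TensorProduct.tmul_add, add_sub_cancel, Algebra.TensorProduct.tmul_pow, one_pow,
      ← TensorProduct.tmul_sub] at h
    rw [h, Nat.cast_smul_eq_nsmul, nsmul_eq_mul]
  · rw [Finset.sum_range_succ']
    simp only [Nat.cast_zero, pow_zero, zero_add, div_one, pow_one, add_sub_cancel_right]
    refine sum_mem fun n _ => ?_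
    rw [show ((-1 : ℚ) ^ (n + 1) / (((n + 1 : ℕ) : ℚ) + 1)) ⊗ₜ[ℤ] ((u - 1) ^ (n + 1 + 1)) =
      ((-1 : ℚ) ^ (n + 1) / (((n + 1 : ℕ) : ℚ) + 1)) • ((1 : ℚ) ⊗ₜ[ℤ] ((u - 1) ^ (n + 1 + 1))) by
        rw [TensorProduct.smul_tmul', smul_eq_mul, mul_one]]
    refine Submodule.smul_mem _ _ (Submodule.subset_span ⟨_, ?_, rfl⟩)
    exact gammaFiltration_antitone P (by omega) (pow_mem P h1 (n + 1 + 1))

end Groth.Agent.LambdaLib
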