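import Groth.Agent.LambdaLib.Adams
import Groth.Agent.LambdaLib.UniversalComp

/-!
# Universal identities for Adams operations of pre-λ-rings
-/

universe u v

open Finset LambdaRing

namespace Groth.Agent.LambdaLib

section series

variable {R : Type u} [CommRing R]

/-- ψ^k of a series with constant term 1 -/
noncomputable def psiS (f : PowerSeries R) (k : ℕ) : R := (-1) ^ (k - 1) * PowerSeries.coeff (k - 1) (logD f)

theorem coeff_logD (f : PowerSeries R) (m : ℕ) :
    PowerSeries.coeff m (logD f) = (-1) ^ m * psiS f (m + 1) := by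
  rw [psiS, Nat.add_sub_cancel, ← mul_assoc, ← mul_pow, neg_one_mul, neg_neg, one_pow, one_mul]

theorem adamsOp_eq_psiS {K : Type u} [CommRing K] [LambdaOps K] {k : ℕ} (hk : 1 ≤ k) (x : K) :
    adamsOp k x = psiS (lamSeries x) k := by
  obtain ⟨m, rfl⟩ : ∃ m, k = m + 1 := ⟨k - 1, by omega⟩
  rfl

theorem psiS_congr {f g : PowerSeries R} (hf : PowerSeries.constantCoeff f = 1) {k : ℕ} (hk : 1 ≤ k)
    (h : ∀ i ≤ k, PowerSeries.coeff i f = PowerSeries.coeff i g) : psiS f k = psiS g k := by
  obtain ⟨m, rfl⟩ : ∃ m, k = m + 1 := ⟨k - 1, by omega⟩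
  have hg : PowerSeries.constantCoeff g = 1 := by
    rw [← PowerSeries.coeff_zero_eq_constantCoeff_apply, ← h 0 (by omega), PowerSeries.coeff_zero_eq_constantCoeff_apply, hf]
  have h1 : (PowerSeries.X : PowerSeries R) ^ (m + 2) ∣ f - g :=
    PowerSeries.X_pow_dvd_iff.mpr fun i hi => by rw [map_sub, h i (by omega), sub_self]
  have hd : (PowerSeries.X : PowerSeries R) ^ (m + 1) ∣ PowerSeries.derivative R f - PowerSeries.derivative R g :=
    PowerSeries.X_pow_dvd_iff.mpr fun i hi => by
      rw [map_sub, PowerSeries.coeff_derivative, PowerSeries.coeff_derivative, h (i + 1) (by omega), sub_self]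
  have hinv : f.invOfUnit 1 - g.invOfUnit 1 = f.invOfUnit 1 * g.invOfUnit 1 * (g - f) := by
    linear_combination (g.invOfUnit 1) * PowerSeries.invOfUnit_mul f 1 (by simpa using hf) -
      (f.invOfUnit 1) * PowerSeries.invOfUnit_mul g 1 (by simpa using hg)
  have : (PowerSeries.X : PowerSeries R) ^ (m + 1) ∣ logD f - logD g := by
    rw [show logD f - logD g = (PowerSeries.derivative R f - PowerSeries.derivative R g) * f.invOfUnit 1 +
      PowerSeries.derivative R g * (f.invOfUnit 1 - g.invOfUnit 1) by rw [logD, logD]; ring, hinv]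
    refine dvd_add (dvd_mul_of_dvd_left hd _) (dvd_mul_of_dvd_right (dvd_mul_of_dvd_right ?_ _) _)
    rw [← neg_sub, dvd_neg]
    exact (pow_dvd_pow _ (by omega)).trans h1
  have h2 := PowerSeries.X_pow_dvd_iff.mp this m (by omega)
  rw [map_sub, sub_eq_zero] at h2
  simp [psiS, h2]

theorem map_psiS {S : Type v} [CommRing S] (φ : R →+* S) {f : PowerSeries R}
    (hf : PowerSeries.constantCoeff f = 1) (k : ℕ) : φ (psiS f k) = psiS (PowerSeries.map φ f) k := by
  rw [psiS, psiS, map_mul, map_pow, map_neg, map_one, ← PowerSeries.coeff_map, map_logD φ hf]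

/-- ∏ (1 + a t) -/
noncomputable def rootSeries (s : Multiset R) : PowerSeries R :=
  (s.map fun a => 1 + PowerSeries.C a * PowerSeries.X).prod

theorem constantCoeff_rootSeries (s : Multiset R) : PowerSeries.constantCoeff (rootSeries s) = 1 := by
  simp [rootSeries, map_multiset_prod, Multiset.map_map, Function.comp_def]

theorem coeff_rootSeries (s : Multiset R) (i : ℕ) : PowerSeries.coeff i (rootSeries s) = s.esymm i := by
  induction s using Multiset.induction generalizing i with
  | empty => rcases i with _ | i <;> simp [rootSeries, Multiset.esymm, PowerSeries.coeff_one]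
  | cons a s ih =>
    rw [rootSeries, Multiset.map_cons, Multiset.prod_cons, ← rootSeries, add_mul, one_mul, map_add, ih]
    rcases i with _ | i
    · simp [esymm_zero', mul_assoc]
    · rw [esymm_cons_succ, mul_assoc, PowerSeries.coeff_C_mul, mul_comm PowerSeries.X, PowerSeries.coeff_succ_mul_X, ih]

theorem psiS_rootSeries (s : Multiset R) {k : ℕ} (hk : 1 ≤ k) :
    psiS (rootSeries s) k = (s.map fun a => a ^ k).sum := by
  obtain ⟨m, rfl⟩ : ∃ m, k = m + 1 := ⟨k - 1, by omega⟩
  induction s using Multiset.induction with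
  | empty => simp [rootSeries, psiS, logD]
  | cons a s ih =>
    have h1 : logD (1 + PowerSeries.C a * PowerSeries.X) = PowerSeries.C a * PowerSeries.mk fun n => (-a) ^ n := by
      refine logD_eq (by simp) ?_
      have h2 : (PowerSeries.mk fun n => (-a) ^ n) * (1 + PowerSeries.C a * PowerSeries.X) = 1 := by
        ext n
        rw [mul_add, mul_one, map_add, ← mul_assoc]
        rcases n with _ | n
        · simp
        · rw [PowerSeries.coeff_succ_mul_X, mul_comm _ (PowerSeries.C a), PowerSeries.coeff_C_mul, PowerSeries.coeff_mk,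
            PowerSeries.coeff_mk, PowerSeries.coeff_one, if_neg (by omega), pow_succ]
          ring
      rw [mul_assoc, h2, mul_one]
      ext n
      rw [PowerSeries.coeff_derivative, map_add, PowerSeries.coeff_one, if_neg (by omega), zero_add,
        PowerSeries.coeff_succ_mul_X, PowerSeries.coeff_C]
      rcases n with _ | n <;> simp
    rw [Multiset.map_cons, Multiset.sum_cons, ← ih, rootSeries, Multiset.map_cons, Multiset.prod_cons, ← rootSeries,
      psiS, logD_mul (by simp) (constantCoeff_rootSeries s), map_add, mul_add, psiS, h1, PowerSeries.coeff_C_mul,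
      PowerSeries.coeff_mk, Nat.add_sub_cancel, neg_pow a, pow_succ']
    congr 1
    rw [show (-1 : R) ^ m * (a * ((-1) ^ m * a ^ m)) = ((-1) ^ m * (-1) ^ m) * (a * a ^ m) by ring, ← mul_pow]
    simp

end series

section rational

variable {R : Type u} [CommRing R] [Algebra ℚ R]

/-- the solution of f' = c f with f(0) = 1 -/
noncomputable def expInt (c : ℕ → R) : ℕ → R
  | 0 => 1
  | n + 1 => ((n + 1 : ℚ)⁻¹) • ∑ i : Fin (n + 1), expInt c i * c (n - i)

theorem expInt_zero (c : ℕ → R) : expInt c 0 = 1 := by rw [expInt]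

theorem succ_mul_expInt (c : ℕ → R) (n : ℕ) :
    expInt c (n + 1) * ((n : R) + 1) = ∑ i ∈ range (n + 1), expInt c i * c (n - i) := by
  rw [expInt, Algebra.smul_def, show ((n : R) + 1) = algebraMap ℚ R ((n : ℚ) + 1) by rw [map_add, map_natCast, map_one],
    mul_comm, ← mul_assoc, ← map_mul, mul_inv_cancel₀ (by positivity), map_one, one_mul, Fin.sum_univ_eq_sum_range
      (fun i => expInt c i * c (n - i))]

theorem expInt_congr {c c' : ℕ → R} : ∀ n, (∀ m < n, c m = c' m) → expInt c n = expInt c' n
  | 0, _ => by rw [expInt, expInt]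
  | n + 1, h => by
    rw [expInt, expInt]
    congr 1
    exact Finset.sum_congr rfl fun i _ => by rw [expInt_congr i.1 fun m hm => h m (by omega), h _ (by omega)]

theorem map_expInt {S : Type v} [CommRing S] [Algebra ℚ S] (φ : R →+* S) (c : ℕ → R) :
    ∀ n, φ (expInt c n) = expInt (fun m => φ (c m)) n
  | 0 => by rw [expInt, expInt, map_one]
  | n + 1 => by
    rw [expInt, expInt, map_rat_smul φ, map_sum]
    congr 1
    exact Finset.sum_congr rfl fun i _ => by rw [map_mul, map_expInt φ c i.1]

theorem constantCoeff_mk_expInt (c : ℕ → R) : PowerSeries.constantCoeff (PowerSeries.mk (expInt c)) = 1 := by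
  rw [← PowerSeries.coeff_zero_eq_constantCoeff_apply, PowerSeries.coeff_mk, expInt_zero]

theorem logD_mk_expInt (c : ℕ → R) : logD (PowerSeries.mk (expInt c)) = PowerSeries.mk c := by
  refine logD_eq (constantCoeff_mk_expInt c) ?_
  ext n
  rw [PowerSeries.coeff_derivative, PowerSeries.coeff_mk, succ_mul_expInt, mul_comm, PowerSeries.coeff_mul,
    Finset.Nat.sum_antidiagonal_eq_sum_range_succ_mk]
  simp

theorem eq_mk_expInt {f : PowerSeries R} (hf : PowerSeries.constantCoeff f = 1) {c : ℕ → R}
    (h : logD f = PowerSeries.mk c) : f = PowerSeries.mk (expInt c) := by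
  ext n
  rw [PowerSeries.coeff_mk]
  induction n using Nat.strong_induction_on with
  | _ n ih =>
    rcases n with _ | n
    · rw [expInt_zero, PowerSeries.coeff_zero_eq_constantCoeff_apply, hf]
    have h1 : PowerSeries.derivative R f = f * PowerSeries.mk c := by
      rw [← h, logD, mul_comm, mul_assoc, PowerSeries.invOfUnit_mul f 1 (by simpa using hf), mul_one]
    have h2 := congrArg (PowerSeries.coeff n) h1
    rw [PowerSeries.coeff_derivative, PowerSeries.coeff_mul, Finset.Nat.sum_antidiagonal_eq_sum_range_succ_mk] at h2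
    have h3 : PowerSeries.coeff (n + 1) f * ((n : R) + 1) = expInt c (n + 1) * ((n : R) + 1) := by
      rw [h2, succ_mul_expInt]
      refine Finset.sum_congr rfl fun i hi => ?_
      rw [PowerSeries.coeff_mk, ih i (by simpa using hi)]
    have hu : IsUnit ((n : R) + 1) := by
      have : ((n : R) + 1) = algebraMap ℚ R ((n : ℚ) + 1) := by rw [map_add, map_natCast, map_one]
      rw [this]
      exact (isUnit_iff_ne_zero.mpr (show ((n : ℚ) + 1) ≠ 0 by positivity)).map _
    exact hu.mul_right_cancel h3

theorem coeff_eq_expInt {f : PowerSeries R} (hf : PowerSeries.constantCoeff f = 1) (n : ℕ) :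
    PowerSeries.coeff n f = expInt (fun m => (-1) ^ m * psiS f (m + 1)) n := by
  conv_lhs => rw [eq_mk_expInt hf (c := fun m => (-1) ^ m * psiS f (m + 1)) (by ext m; rw [PowerSeries.coeff_mk, coeff_logD])]
  rw [PowerSeries.coeff_mk]

theorem esymm_eq_expInt (s : Multiset R) (n : ℕ) :
    s.esymm n = expInt (fun m => (-1) ^ m * (s.map fun a => a ^ (m + 1)).sum) n := by
  rw [← coeff_rootSeries, coeff_eq_expInt (constantCoeff_rootSeries s)]
  exact expInt_congr n fun m _ => by rw [psiS_rootSeries s (Nat.succ_le_succ (Nat.zero_le m))]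

end rational

section universal

open MvPolynomial

variable {R : Type u} [CommRing R] {S : Type u} [CommRing S]

/-- generic series in the variables -/
noncomputable def genS (R : Type u) [CommRing R] {σ : Type} (k : ℕ) (e : Fin k → σ) : PowerSeries (MvPolynomial σ R) :=
  PowerSeries.mk fun i => if i = 0 then 1 else if h : i - 1 < k then X (e ⟨i - 1, h⟩) else 0

theorem constantCoeff_genS {σ : Type} (k : ℕ) (e : Fin k → σ) : PowerSeries.constantCoeff (genS R k e) = 1 := by
  rw [← PowerSeries.coeff_zero_eq_constantCoeff_apply, genS, PowerSeries.coeff_mk, if_pos rfl]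

theorem map_genS {σ : Type} {k : ℕ} {e : Fin k → σ} (φ : MvPolynomial σ R →+* S) {f : PowerSeries S}
    (hf : PowerSeries.constantCoeff f = 1) (h : ∀ i : Fin k, φ (X (e i)) = PowerSeries.coeff ((i : ℕ) + 1) f)
    {i : ℕ} (hi : i ≤ k) : PowerSeries.coeff i (PowerSeries.map φ (genS R k e)) = PowerSeries.coeff i f := by
  rw [PowerSeries.coeff_map, genS, PowerSeries.coeff_mk]
  rcases i with _ | i
  · simp [hf]
  · rw [if_neg (by omega), dif_pos (show i + 1 - 1 < k by omega), h]
    simp

theorem psiS_map_genS {σ : Type} {k : ℕ} {e : Fin k → σ} (φ : MvPolynomial σ R →+* S) {f : PowerSeries S}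
    (hf : PowerSeries.constantCoeff f = 1) (h : ∀ i : Fin k, φ (X (e i)) = PowerSeries.coeff ((i : ℕ) + 1) f)
    {m : ℕ} (hm : 1 ≤ m) (hmk : m ≤ k) : φ (psiS (genS R k e) m) = psiS f m := by
  rw [map_psiS φ (constantCoeff_genS k e)]
  exact (psiS_congr hf hm fun i hi => (map_genS φ hf h (hi.trans hmk)).symm).symm

/-- value of the variables of P_n on two series -/
noncomputable def pairVal (f g : PowerSeries S) (n : ℕ) : Fin n ⊕ Fin n → S :=
  Sum.elim (fun k : Fin n => PowerSeries.coeff ((k : ℕ) + 1) f) fun k : Fin n => PowerSeries.coeff ((k : ℕ) + 1) g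

theorem mulPoly_roots {n : ℕ} {P : MvPolynomial (Fin n ⊕ Fin n) ℤ} (hP : IsMulPoly n P) (s t : Multiset S) :
    aeval (pairVal (rootSeries s) (rootSeries t) n) P = (prodPairs s t).esymm n := by
  rw [← mulPoly_eval hP s t]
  refine congrArg (fun g => aeval g P) (funext fun i => ?_)
  rcases i with i | i <;> simp [pairVal, coeff_rootSeries]

theorem map_aeval_int {σ : Type} {A : Type*} {T : Type*} [CommRing A] [CommRing T] {iA : Algebra ℤ A} {iT : Algebra ℤ T}
    (φ : A →+* T) (g : σ → A) (P : MvPolynomial σ ℤ) :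
    φ (aeval g P) = aeval (fun i => φ (g i)) P := by
  induction P using MvPolynomial.induction_on with
  | C r => simp
  | add p q hp hq => simp only [map_add, hp, hq]
  | mul_X p i hp => simp only [map_mul, hp, aeval_X]

theorem sum_pow_prodPairs {A : Type*} [CommRing A] (s t : Multiset A) (k : ℕ) :
    ((prodPairs s t).map fun a => a ^ k).sum = (s.map fun a => a ^ k).sum * (t.map fun a => a ^ k).sum := by
  induction s using Multiset.induction with
  | empty => simp [prodPairs]
  | cons a s ih =>
    rw [prodPairs, Multiset.cons_product, Multiset.map_add, Multiset.map_add, Multiset.sum_add, ← prodPairs, ih,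
      Multiset.map_map, Multiset.map_map, Multiset.map_cons, Multiset.sum_cons, add_mul]
    congr 1
    rw [← Multiset.sum_map_mul_left]
    simp [Function.comp_def, mul_pow]

/-- the roots evaluation on pairs -/
theorem aeval_esymmPair_X (R : Type u) [CommRing R] (k : ℕ) :
    (∀ i : Fin k, aeval (R := R) (esymmPair R k k) (X (Sum.inl i)) =
      PowerSeries.coeff ((i : ℕ) + 1) (rootSeries ((univ : Finset (Fin k)).val.map
        fun a => (X (Sum.inl a) : MvPolynomial (Fin k ⊕ Fin k) R)))) ∧
    ∀ i : Fin k, aeval (R := R) (esymmPair R k k) (X (Sum.inr i)) =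
      PowerSeries.coeff ((i : ℕ) + 1) (rootSeries ((univ : Finset (Fin k)).val.map
        fun a => (X (Sum.inr a) : MvPolynomial (Fin k ⊕ Fin k) R))) := by
  constructor <;> intro i <;> rw [aeval_X, coeff_rootSeries, Finset.esymm_map_val] <;>
    simp [esymmPair, MvPolynomial.esymm]

theorem psiS_mul_universal (k : ℕ) (hk : 1 ≤ k) (P : ∀ n : ℕ, MvPolynomial (Fin n ⊕ Fin n) ℤ)
    (hP : ∀ n, IsMulPoly n (P n)) {fx fy fxy : PowerSeries S} (hx : PowerSeries.constantCoeff fx = 1)
    (hy : PowerSeries.constantCoeff fy = 1) (hxy : PowerSeries.constantCoeff fxy = 1)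
    (h : ∀ i ≤ k, PowerSeries.coeff i fxy = aeval (pairVal fx fy i) (P i)) :
    psiS fxy k = psiS fx k * psiS fy k := by
  let U := ULift.{u} ℤ
  set gE : PowerSeries (MvPolynomial (Fin k ⊕ Fin k) U) := genS U k Sum.inl
  set gF : PowerSeries (MvPolynomial (Fin k ⊕ Fin k) U) := genS U k Sum.inr
  set G : PowerSeries (MvPolynomial (Fin k ⊕ Fin k) U) :=
    PowerSeries.mk fun i => if i = 0 then 1 else aeval (pairVal gE gF i) (P i)
  have hG : PowerSeries.constantCoeff G = 1 := by
    rw [← PowerSeries.coeff_zero_eq_constantCoeff_apply, PowerSeries.coeff_mk, if_pos rfl]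
  have key : ∀ {T : Type u} [CommRing T] (φ : MvPolynomial (Fin k ⊕ Fin k) U →+* T) {ax ay axy : PowerSeries T},
      PowerSeries.constantCoeff ax = 1 → PowerSeries.constantCoeff ay = 1 → PowerSeries.constantCoeff axy = 1 →
      (∀ i : Fin k, φ (X (Sum.inl i)) = PowerSeries.coeff ((i : ℕ) + 1) ax) →
      (∀ i : Fin k, φ (X (Sum.inr i)) = PowerSeries.coeff ((i : ℕ) + 1) ay) →
      (∀ i ≤ k, PowerSeries.coeff i axy = aeval (pairVal ax ay i) (P i)) →
      φ (psiS G k - psiS gE k * psiS gF k) = psiS axy k - psiS ax k * psiS ay k := by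
    intro T _ φ ax ay axy hax hay haxy hl hr hi
    rw [map_sub, map_mul, psiS_map_genS φ hax hl hk le_rfl, psiS_map_genS φ hay hr hk le_rfl, map_psiS φ hG]
    congr 1
    refine (psiS_congr haxy hk fun i hik => ?_).symm
    rw [PowerSeries.coeff_map, PowerSeries.coeff_mk]
    rcases i with _ | i
    · simp [haxy]
    rw [if_neg (by omega), hi _ hik, map_aeval_int]
    refine congrArg (fun g => aeval g (P (i + 1))) (funext fun j => ?_)
    rcases j with j | j
    · exact ((map_genS φ hax hl (show (j : ℕ) + 1 ≤ k by omega))).symm.trans (PowerSeries.coeff_map _ _ _)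
    · exact ((map_genS φ hay hr (show (j : ℕ) + 1 ≤ k by omega))).symm.trans (PowerSeries.coeff_map _ _ _)
  have hzero : psiS G k - psiS gE k * psiS gF k = 0 := by
    apply aeval_esymmPair_injective U k k
    rw [map_zero]
    set s := (univ : Finset (Fin k)).val.map fun a => (X (Sum.inl a) : MvPolynomial (Fin k ⊕ Fin k) U)
    set t := (univ : Finset (Fin k)).val.map fun a => (X (Sum.inr a) : MvPolynomial (Fin k ⊕ Fin k) U)
    refine (key (aeval (R := U) (esymmPair U k k)).toRingHom (constantCoeff_rootSeries s)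
      (constantCoeff_rootSeries t) (constantCoeff_rootSeries (prodPairs s t)) (aeval_esymmPair_X U k).1
      (aeval_esymmPair_X U k).2 fun i _ => by rw [coeff_rootSeries, mulPoly_roots (hP i)]).trans ?_
    rw [psiS_rootSeries _ hk, psiS_rootSeries _ hk, psiS_rootSeries _ hk, sum_pow_prodPairs, sub_self]
  have hfinal := key (eval₂Hom (algebraMap ℤ S |>.comp (ULift.ringEquiv.{0, u} : U ≃+* ℤ).toRingHom)
    (Sum.elim (fun i : Fin k => PowerSeries.coeff ((i : ℕ) + 1) fx) fun i : Fin k => PowerSeries.coeff ((i : ℕ) + 1) fy))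
    hx hy hxy (fun i => by simp) (fun i => by simp) h
  rw [hzero, map_zero] at hfinal
  exact sub_eq_zero.mp hfinal.symm

theorem psiS_comp_universal (k k' : ℕ) (hk : 1 ≤ k) (hk' : 1 ≤ k')
    (Q : ∀ i j : ℕ, MvPolynomial (Fin (i * j)) ℤ) (hQ : ∀ i j, IsCompPoly i j (Q i j))
    {f H : PowerSeries S} {G : ℕ → PowerSeries S} (hf : PowerSeries.constantCoeff f = 1)
    (hG0 : ∀ i, PowerSeries.constantCoeff (G i) = 1) (hH0 : PowerSeries.constantCoeff H = 1)
    (hG : ∀ i ≤ k', ∀ j ≤ k, PowerSeries.coeff j (G i) =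
      aeval (fun l : Fin (i * j) => PowerSeries.coeff ((l : ℕ) + 1) f) (Q i j))
    (hH : ∀ i ≤ k', PowerSeries.coeff i H = psiS (G i) k) :
    psiS H k' = psiS f (k * k') := by
  let U := ULift.{u} ℤ
  set N := k' * k
  set g : PowerSeries (MvPolynomial (Fin N) U) := genS U N id
  set GU : ℕ → PowerSeries (MvPolynomial (Fin N) U) := fun i =>
    PowerSeries.mk fun j => if j = 0 then 1 else aeval (fun l : Fin (i * j) => PowerSeries.coeff ((l : ℕ) + 1) g) (Q i j)
  set HU : PowerSeries (MvPolynomial (Fin N) U) := PowerSeries.mk fun i => if i = 0 then 1 else psiS (GU i) k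
  have hGU : ∀ i, PowerSeries.constantCoeff (GU i) = 1 := fun i => by
    rw [← PowerSeries.coeff_zero_eq_constantCoeff_apply, PowerSeries.coeff_mk, if_pos rfl]
  have hHU : PowerSeries.constantCoeff HU = 1 := by
    rw [← PowerSeries.coeff_zero_eq_constantCoeff_apply, PowerSeries.coeff_mk, if_pos rfl]
  have hkk : 1 ≤ k * k' := Nat.one_le_iff_ne_zero.mpr (Nat.mul_ne_zero (by omega) (by omega))
  have key : ∀ {T : Type u} [CommRing T] (φ : MvPolynomial (Fin N) U →+* T) {a b : PowerSeries T} {c : ℕ → PowerSeries T},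
      PowerSeries.constantCoeff a = 1 → (∀ i, PowerSeries.constantCoeff (c i) = 1) → PowerSeries.constantCoeff b = 1 →
      (∀ l : Fin N, φ (X l) = PowerSeries.coeff ((l : ℕ) + 1) a) →
      (∀ i ≤ k', ∀ j ≤ k, PowerSeries.coeff j (c i) =
        aeval (fun l : Fin (i * j) => PowerSeries.coeff ((l : ℕ) + 1) a) (Q i j)) →
      (∀ i ≤ k', PowerSeries.coeff i b = psiS (c i) k) →
      φ (psiS HU k' - psiS g (k * k')) = psiS b k' - psiS a (k * k') := by
    intro T _ φ a b c ha hc hb hl hc' hb'
    rw [map_sub, psiS_map_genS (e := id) φ ha hl hkk (le_of_eq (mul_comm k k')), map_psiS φ hHU]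
    congr 1
    refine (psiS_congr hb hk' fun i hi => ?_).symm
    rw [PowerSeries.coeff_map, PowerSeries.coeff_mk]
    rcases Nat.eq_zero_or_pos i with rfl | hipos
    · simp [hb]
    rw [if_neg hipos.ne', hb' i hi, map_psiS φ (hGU i)]
    refine psiS_congr (hc i) hk fun j hj => ?_
    rw [PowerSeries.coeff_map, PowerSeries.coeff_mk]
    rcases j with _ | j
    · simp [hc i]
    rw [if_neg (by omega), hc' i hi _ hj, map_aeval_int]
    refine congrArg (fun g => aeval g (Q i (j + 1))) (funext fun l => ?_)
    exact ((map_genS φ ha hl (show (l : ℕ) + 1 ≤ N from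
      (Nat.succ_le_of_lt l.2).trans (Nat.mul_le_mul hi hj)))).symm.trans (PowerSeries.coeff_map _ _ _)
  have hzero : psiS HU k' - psiS g (k * k') = 0 := by
    apply aeval_esymm_injective (σ := Fin N) (R := U) (n := N) (by simp)
    rw [map_zero]
    set s := (univ : Finset (Fin N)).val.map fun a => (X a : MvPolynomial (Fin N) U)
    refine (key (aeval (R := U) fun l : Fin N => MvPolynomial.esymm (Fin N) U ((l : ℕ) + 1)).toRingHom
      (a := rootSeries s) (b := rootSeries (s.map fun a => a ^ k)) (c := fun i => rootSeries (prodSubs i s))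
      (constantCoeff_rootSeries s) (fun i => constantCoeff_rootSeries _) (constantCoeff_rootSeries _)
      (fun l => ?_) (fun i _ j _ => ?_) (fun i _ => ?_)).trans ?_
    · rw [AlgHom.toRingHom_eq_coe, RingHom.coe_coe, aeval_X, coeff_rootSeries, esymm_eq_multiset_esymm]
    · rw [coeff_rootSeries, ← compPoly_eval (hQ i j) s]
      exact congrArg (fun g => aeval g (Q i j)) (funext fun l => (coeff_rootSeries _ _).symm)
    · rw [coeff_rootSeries, psiS_rootSeries _ hk, Multiset.esymm, prodSubs, Multiset.powersetCard_map,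
        Multiset.map_map, Multiset.map_map]
      refine congrArg Multiset.sum (Multiset.map_congr rfl fun t _ => ?_)
      simp [Multiset.prod_map_pow]
    rw [psiS_rootSeries _ hk', psiS_rootSeries _ hkk, Multiset.map_map, sub_eq_zero]
    simp [Function.comp_def, pow_mul]
  have hfinal := key (eval₂Hom (algebraMap ℤ S |>.comp (ULift.ringEquiv.{0, u} : U ≃+* ℤ).toRingHom)
    fun l : Fin N => PowerSeries.coeff ((l : ℕ) + 1) f) hf hG0 hH0 (fun l => by simp) hG hH
  rw [hzero, map_zero] at hfinal
  exact sub_eq_zero.mp hfinal.symm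

theorem expInt_mul_universal {S : Type u} [CommRing S] [Algebra ℚ S] {n : ℕ}
    {P : MvPolynomial (Fin n ⊕ Fin n) ℤ} (hP : IsMulPoly n P) {fx fy : PowerSeries S}
    (hx : PowerSeries.constantCoeff fx = 1) (hy : PowerSeries.constantCoeff fy = 1) :
    expInt (fun m => (-1) ^ m * (psiS fx (m + 1) * psiS fy (m + 1))) n = aeval (pairVal fx fy n) P := by
  let U := ULift.{u} ℚ
  letI : Algebra ℚ (MvPolynomial (Fin n ⊕ Fin n) U) := inferInstance
  set gE : PowerSeries (MvPolynomial (Fin n ⊕ Fin n) U) := genS U n Sum.inl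
  set gF : PowerSeries (MvPolynomial (Fin n ⊕ Fin n) U) := genS U n Sum.inr
  have key : ∀ {T : Type u} [CommRing T] [Algebra ℚ T] (φ : MvPolynomial (Fin n ⊕ Fin n) U →+* T) {ax ay : PowerSeries T},
      PowerSeries.constantCoeff ax = 1 → PowerSeries.constantCoeff ay = 1 →
      (∀ i : Fin n, φ (X (Sum.inl i)) = PowerSeries.coeff ((i : ℕ) + 1) ax) →
      (∀ i : Fin n, φ (X (Sum.inr i)) = PowerSeries.coeff ((i : ℕ) + 1) ay) →
      φ (expInt (fun m => (-1) ^ m * (psiS gE (m + 1) * psiS gF (m + 1))) n - aeval (pairVal gE gF n) P) =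
        expInt (fun m => (-1) ^ m * (psiS ax (m + 1) * psiS ay (m + 1))) n - aeval (pairVal ax ay n) P := by
    intro T _ _ φ ax ay hax hay hl hr
    rw [map_sub, map_expInt, map_aeval_int]
    refine congrArg₂ (· - ·) ?_ (congrArg (fun g => aeval g P) (funext fun j => ?_))
    · refine expInt_congr n fun m hm => ?_
      rw [map_mul, map_mul, map_pow, map_neg, map_one, psiS_map_genS φ hax hl (by omega) (by omega),
        psiS_map_genS φ hay hr (by omega) (by omega)]
    · rcases j with j | j
      · exact ((PowerSeries.coeff_map _ _ _).symm.trans (map_genS φ hax hl (show (j : ℕ) + 1 ≤ n by omega)))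
      · exact ((PowerSeries.coeff_map _ _ _).symm.trans (map_genS φ hay hr (show (j : ℕ) + 1 ≤ n by omega)))
  have hzero : expInt (fun m => (-1) ^ m * (psiS gE (m + 1) * psiS gF (m + 1))) n - aeval (pairVal gE gF n) P = 0 := by
    apply aeval_esymmPair_injective U n n
    rw [map_zero]
    set s := (univ : Finset (Fin n)).val.map fun a => (X (Sum.inl a) : MvPolynomial (Fin n ⊕ Fin n) U)
    set t := (univ : Finset (Fin n)).val.map fun a => (X (Sum.inr a) : MvPolynomial (Fin n ⊕ Fin n) U)
    refine (key (aeval (R := U) (esymmPair U n n)).toRingHom (constantCoeff_rootSeries s)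
      (constantCoeff_rootSeries t) (aeval_esymmPair_X U n).1 (aeval_esymmPair_X U n).2).trans ?_
    rw [mulPoly_roots hP, esymm_eq_expInt, sub_eq_zero]
    refine expInt_congr n fun m _ => ?_
    rw [psiS_rootSeries _ (Nat.succ_le_succ (Nat.zero_le m)), psiS_rootSeries _ (Nat.succ_le_succ (Nat.zero_le m))]
    congr 1
    exact (sum_pow_prodPairs s t (m + 1)).symm
  have hfinal := key (eval₂Hom (algebraMap ℚ S |>.comp (ULift.ringEquiv.{0, u} : U ≃+* ℚ).toRingHom)
    (Sum.elim (fun i : Fin n => PowerSeries.coeff ((i : ℕ) + 1) fx) fun i : Fin n => PowerSeries.coeff ((i : ℕ) + 1) fy))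
    hx hy (fun i => by simp) (fun i => by simp)
  rw [hzero, map_zero] at hfinal
  exact sub_eq_zero.mp hfinal.symm

theorem expInt_comp_universal {S : Type u} [CommRing S] [Algebra ℚ S] {i j : ℕ}
    {Q : MvPolynomial (Fin (i * j)) ℤ} (hQ : IsCompPoly i j Q) {f : PowerSeries S}
    (hf : PowerSeries.constantCoeff f = 1) :
    expInt (fun m => (-1) ^ m * expInt (fun l => (-1) ^ l * psiS f ((m + 1) * (l + 1))) i) j =
      aeval (fun l : Fin (i * j) => PowerSeries.coeff ((l : ℕ) + 1) f) Q := by
  let U := ULift.{u} ℚ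
  set g : PowerSeries (MvPolynomial (Fin (i * j)) U) := genS U (i * j) id
  have key : ∀ {T : Type u} [CommRing T] [Algebra ℚ T] (φ : MvPolynomial (Fin (i * j)) U →+* T) {a : PowerSeries T},
      PowerSeries.constantCoeff a = 1 →
      (∀ l : Fin (i * j), φ (X l) = PowerSeries.coeff ((l : ℕ) + 1) a) →
      φ (expInt (fun m => (-1) ^ m * expInt (fun l => (-1) ^ l * psiS g ((m + 1) * (l + 1))) i) j -
          aeval (fun l : Fin (i * j) => PowerSeries.coeff ((l : ℕ) + 1) g) Q) =
        expInt (fun m => (-1) ^ m * expInt (fun l => (-1) ^ l * psiS a ((m + 1) * (l + 1))) i) j -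
          aeval (fun l : Fin (i * j) => PowerSeries.coeff ((l : ℕ) + 1) a) Q := by
    intro T _ _ φ a ha hl
    rw [map_sub, map_expInt, map_aeval_int]
    refine congrArg₂ (· - ·) ?_ (congrArg (fun g => aeval g Q) (funext fun l => ?_))
    · refine expInt_congr j fun m hm => ?_
      rw [map_mul, map_pow, map_neg, map_one, map_expInt]
      congr 1
      refine expInt_congr i fun l hli => ?_
      rw [map_mul, map_pow, map_neg, map_one, psiS_map_genS (e := id) φ ha hl]
      · exact Nat.one_le_iff_ne_zero.mpr (Nat.mul_ne_zero (by omega) (by omega))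
      · rw [mul_comm i j]; exact Nat.mul_le_mul hm hli
    · exact (PowerSeries.coeff_map _ _ _).symm.trans (map_genS φ ha hl (show (l : ℕ) + 1 ≤ i * j from l.2))
  have hzero : expInt (fun m => (-1) ^ m * expInt (fun l => (-1) ^ l * psiS g ((m + 1) * (l + 1))) i) j -
      aeval (fun l : Fin (i * j) => PowerSeries.coeff ((l : ℕ) + 1) g) Q = 0 := by
    apply aeval_esymm_injective (σ := Fin (i * j)) (R := U) (n := i * j) (by simp)
    rw [map_zero]
    set s := (univ : Finset (Fin (i * j))).val.map fun a => (X a : MvPolynomial (Fin (i * j)) U)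
    refine (key (aeval (R := U) fun l : Fin (i * j) => MvPolynomial.esymm (Fin (i * j)) U ((l : ℕ) + 1)).toRingHom
      (constantCoeff_rootSeries s) fun l => ?_).trans ?_
    · rw [AlgHom.toRingHom_eq_coe, RingHom.coe_coe, aeval_X, coeff_rootSeries, esymm_eq_multiset_esymm]
    rw [sub_eq_zero, show (fun l : Fin (i * j) => PowerSeries.coeff ((l : ℕ) + 1) (rootSeries s)) =
      fun l : Fin (i * j) => s.esymm ((l : ℕ) + 1) from funext fun l => coeff_rootSeries _ _, compPoly_eval hQ s,
      esymm_eq_expInt]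
    clear_value s
    refine expInt_congr j fun m _ => ?_
    congr 1
    rw [prodSubs, Multiset.map_map, show (Multiset.map ((fun a => a ^ (m + 1)) ∘ Multiset.prod) (Multiset.powersetCard i s)).sum =
      (s.map fun a => a ^ (m + 1)).esymm i from ?_]
    · rw [esymm_eq_expInt]
      refine expInt_congr i fun l _ => ?_
      rw [psiS_rootSeries _ (Nat.one_le_iff_ne_zero.mpr (Nat.mul_ne_zero (by omega) (by omega))), Multiset.map_map]
      simp [Function.comp_def, pow_mul]
    · rw [Multiset.esymm, Multiset.powersetCard_map, Multiset.map_map]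
      refine congrArg Multiset.sum (Multiset.map_congr rfl fun t _ => ?_)
      simp [Multiset.prod_map_pow]
  have hfinal := key (eval₂Hom (algebraMap ℚ S |>.comp (ULift.ringEquiv.{0, u} : U ≃+* ℚ).toRingHom)
    fun l : Fin (i * j) => PowerSeries.coeff ((l : ℕ) + 1) f) hf (fun l => by simp)
  rw [hzero, map_zero] at hfinal
  exact sub_eq_zero.mp hfinal.symm

end universal

end Groth.Agent.LambdaLib
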