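import Groth.Prelude.Def_KGr
import Groth.Agent.LambdaLib.Psi
import Groth.Agent.LambdaLib.Filtration

/-!
# The graded ring of the γ-filtration and the Chern character
-/

universe u

open Finset LambdaRing
open scoped TensorProduct

namespace Groth.Agent.LambdaLib

variable {K : Type u} [CommRing K] [LambdaOps K] {P : PosStructure K}

theorem mem_rees {n : ℕ} {x : K} (hx : x ∈ gammaFiltration P n) :
    LaurentPolynomial.C x * LaurentPolynomial.T (-(n : ℤ)) ∈ KGr.rees P :=
  Subring.subset_closure (Set.mem_insert_of_mem _ ⟨n, x, hx, rfl⟩)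

/-- Gr ℤ → ℚ Gr -/
noncomputable def reesToGr (P : PosStructure K) : KGr.rees P →+* KGr.Gr P :=
  (Algebra.TensorProduct.includeRight (R := ℤ) (A := ℚ) (B := KGr.GrZ P)).toRingHom.comp
    (Ideal.Quotient.mk (Ideal.span {KGr.tGen P}))

theorem grK_eq {n : ℕ} {x : K} (hx : x ∈ gammaFiltration P n) :
    KGr.grK P (n : ℤ) x = reesToGr P ⟨_, mem_rees hx⟩ := by
  have hex : ∃ N : ℕ, 1 ≤ N ∧ LaurentPolynomial.C ((N : K) * x) * LaurentPolynomial.T (-(n : ℤ)) ∈ KGr.rees P :=
    ⟨1, le_rfl, by rw [Nat.cast_one, one_mul]; exact mem_rees hx⟩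
  rw [KGr.grK, dif_pos hex]
  set N := hex.choose
  have h : (⟨_, hex.choose_spec.2⟩ : KGr.rees P) = N • (⟨_, mem_rees hx⟩ : KGr.rees P) := by
    apply Subtype.ext
    rw [AddSubmonoidClass.coe_nsmul]
    change LaurentPolynomial.C ((N : K) * x) * _ = N • (LaurentPolynomial.C x * _)
    rw [map_mul, map_natCast, nsmul_eq_mul, mul_assoc]
  rw [h, map_nsmul, TensorProduct.tmul_smul, TensorProduct.smul_tmul', nsmul_eq_mul,
    mul_one_div_cancel (Nat.cast_ne_zero.mpr (show N ≠ 0 by have := hex.choose_spec.1; omega))]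
  rfl

theorem grK_add {n : ℕ} {x y : K} (hx : x ∈ gammaFiltration P n) (hy : y ∈ gammaFiltration P n) :
    KGr.grK P (n : ℤ) (x + y) = KGr.grK P (n : ℤ) x + KGr.grK P (n : ℤ) y := by
  rw [grK_eq (add_mem hx hy), grK_eq hx, grK_eq hy, ← RingHom.map_add]
  exact congrArg _ (Subtype.ext (by simp [add_mul]))

theorem grK_zero (n : ℕ) : KGr.grK P (n : ℤ) (0 : K) = 0 := by
  rw [grK_eq (zero_mem _), show (⟨_, mem_rees (zero_mem _)⟩ : KGr.rees P) = 0 from Subtype.ext (by simp), RingHom.map_zero]

theorem grK_mul {a b : ℕ} {x y : K} (hx : x ∈ gammaFiltration P a) (hy : y ∈ gammaFiltration P b) :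
    KGr.grK P ((a + b : ℕ) : ℤ) (x * y) = KGr.grK P (a : ℤ) x * KGr.grK P (b : ℤ) y := by
  rw [grK_eq (mul_mem_add P hx hy), grK_eq hx, grK_eq hy, ← RingHom.map_mul]
  refine congrArg _ (Subtype.ext ?_)
  simp only [MulMemClass.coe_mul, map_mul]
  rw [show -((a + b : ℕ) : ℤ) = -(a : ℤ) + -(b : ℤ) by push_cast; ring, LaurentPolynomial.T_add]
  ring

theorem grK_zero_one : KGr.grK P ((0 : ℕ) : ℤ) (1 : K) = 1 := by
  rw [grK_eq (show (1 : K) ∈ gammaFiltration P 0 by simp [gammaFiltration]),
    show (⟨_, mem_rees (show (1 : K) ∈ gammaFiltration P 0 by simp [gammaFiltration])⟩ : KGr.rees P) = 1 from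
      Subtype.ext (by simp), RingHom.map_one]

theorem grK_eq_zero {n : ℕ} {x : K} (hx : x ∈ gammaFiltration P (n + 1)) : KGr.grK P (n : ℤ) x = 0 := by
  rw [grK_eq (gammaFiltration_antitone P (Nat.le_succ n) hx),
    show (⟨_, mem_rees (gammaFiltration_antitone P (Nat.le_succ n) hx)⟩ : KGr.rees P) =
      KGr.tGen P * ⟨_, mem_rees hx⟩ from Subtype.ext (by
        change _ = LaurentPolynomial.T 1 * (_ * _)
        rw [mul_left_comm, ← LaurentPolynomial.T_add]
        congr 2
        push_cast; ring),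
    RingHom.map_mul, reesToGr, RingHom.comp_apply,
    Ideal.Quotient.eq_zero_iff_mem.mpr (Ideal.mem_span_singleton_self (KGr.tGen P)), map_zero, zero_mul]

/-! ### power sums of the Chern roots -/

/-- γ_t(x - ε x) -/
noncomputable def chSer (P : PosStructure K) (x : K) : PowerSeries K := gammaSeries (x - (P.aug x : K))

/-- the power sums of the roots of x - ε x, with ε x in degree 0 -/
noncomputable def pw (P : PosStructure K) (m : ℕ) (x : K) : K :=
  if m = 0 then (P.aug x : K) else psiS (chSer P x) m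

theorem constantCoeff_chSer (x : K) : PowerSeries.constantCoeff (chSer P x) = 1 := by
  rw [← PowerSeries.coeff_zero_eq_constantCoeff_apply, chSer, coeff_gammaSeries, gamma_zero]

theorem pw_add (m : ℕ) (x y : K) : pw P m (x + y) = pw P m x + pw P m y := by
  unfold pw
  split_ifs with h
  · simp
  · have hs : chSer P (x + y) = chSer P x * chSer P y := by
      rw [chSer, chSer, chSer, ← gammaSeries_add, map_add, Int.cast_add]
      congr 1; ring
    rw [hs, psiS, psiS, psiS, logD_mul (constantCoeff_chSer x) (constantCoeff_chSer y), map_add, mul_add]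

/-- pw as an additive map -/
noncomputable def pwHom (P : PosStructure K) (m : ℕ) : K →+ K := AddMonoidHom.mk' (pw P m) (pw_add m)

@[simp] theorem pwHom_apply (m : ℕ) (x : K) : pwHom P m x = pw P m x := rfl

theorem pw_of_isLine {u : K} (hu : P.IsLine u) (m : ℕ) : pw P m u = (u - 1) ^ m := by
  unfold pw
  split_ifs with h
  · subst h; simp [hu.2]
  · rw [chSer, hu.2, Int.cast_one, gammaSeries_line_sub_one (lam_one_eq_zero P) (lam_line_eq_zero P hu),
      show (1 + PowerSeries.C (u - 1) * PowerSeries.X : PowerSeries K) = rootSeries {u - 1} by simp [rootSeries],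
      psiS_rootSeries _ (Nat.one_le_iff_ne_zero.mpr h)]
    simp

theorem pw_sum_lines {s : Multiset K} (hs : ∀ u ∈ s, P.IsLine u) (m : ℕ) :
    pw P m s.sum = (s.map fun u => (u - 1) ^ m).sum := by
  rw [← pwHom_apply, map_multiset_sum]
  exact congrArg _ (Multiset.map_congr rfl fun u hu => by simp [pw_of_isLine (hs u hu)])

theorem pw_one (m : ℕ) : pw P m (1 : K) = if m = 0 then 1 else 0 := by
  rw [pw_of_isLine (isLine_one P), sub_self]
  split_ifs with h
  · rw [h, pow_zero]
  · rw [zero_pow h]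

theorem pw_map {K' : Type u} [CommRing K'] [LambdaOps K'] {P' : PosStructure K'} {f : K →+* K'}
    (hf : IsExtension P P' f) (m : ℕ) (x : K) : f (pw P m x) = pw P' m (f x) := by
  unfold pw
  split_ifs with h
  · rw [map_intCast, hf.aug_comp]
  · rw [map_psiS f (constantCoeff_chSer x)]
    congr 1
    ext i
    rw [PowerSeries.coeff_map, chSer, chSer, coeff_gammaSeries, coeff_gammaSeries, gamma_map hf.isLambdaHom, map_sub,
      map_intCast, hf.aug_comp]

theorem pw_mul_lines {s t : Multiset K} (hs : ∀ u ∈ s, P.IsLine u) (ht : ∀ u ∈ t, P.IsLine u) (n : ℕ) :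
    pw P n (s.sum * t.sum) = ∑ r ∈ range (n + 1), ∑ i ∈ range (n - r + 1),
      ((n.choose r * (n - r).choose i : ℕ) : K) * (pw P (i + r) s.sum * pw P (n - i) t.sum) := by
  have key : ∀ u v : K, P.IsLine u → P.IsLine v → pw P n (u * v) = ∑ r ∈ range (n + 1), ∑ i ∈ range (n - r + 1),
      ((n.choose r * (n - r).choose i : ℕ) : K) * (pw P (i + r) u * pw P (n - i) v) := by
    intro u v hu hv
    rw [pw_of_isLine (isLine_mul P hu hv), show u * v - 1 = (u - 1) * (v - 1) + ((u - 1) + (v - 1)) by ring, add_pow]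
    refine Finset.sum_congr rfl fun r hr => ?_
    rw [Finset.mem_range] at hr
    rw [add_pow, Finset.mul_sum, Finset.sum_mul]
    refine Finset.sum_congr rfl fun i hi => ?_
    rw [Finset.mem_range] at hi
    rw [pw_of_isLine hu, pw_of_isLine hv, show n - i = (n - r - i) + r by omega, pow_add, pow_add, mul_pow,
      Nat.cast_mul]
    ring
  simp only [← pwHom_apply] at key ⊢
  induction s using Multiset.induction with
  | empty => simp only [Multiset.sum_zero, zero_mul, mul_zero, map_zero, Finset.sum_const_zero]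
  | cons a s ih =>
    have ha := hs a (Multiset.mem_cons_self a s)
    rw [Multiset.sum_cons, add_mul, map_add, ih fun u hu => hs u (Multiset.mem_cons_of_mem hu)]
    clear ih
    have h2 : pwHom P n (a * t.sum) = ∑ r ∈ range (n + 1), ∑ i ∈ range (n - r + 1),
        ((n.choose r * (n - r).choose i : ℕ) : K) * (pwHom P (i + r) a * pwHom P (n - i) t.sum) := by
      induction t using Multiset.induction with
      | empty => simp only [Multiset.sum_zero, mul_zero, map_zero, Finset.sum_const_zero]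
      | cons b t ih =>
        rw [Multiset.sum_cons, mul_add, map_add, key a b ha (ht b (Multiset.mem_cons_self b t)),
          ih fun u hu => ht u (Multiset.mem_cons_of_mem hu), ← Finset.sum_add_distrib]
        refine Finset.sum_congr rfl fun r _ => ?_
        rw [← Finset.sum_add_distrib]
        refine Finset.sum_congr rfl fun i _ => ?_
        rw [map_add]; ring
    rw [h2, ← Finset.sum_add_distrib]
    refine Finset.sum_congr rfl fun r _ => ?_
    rw [← Finset.sum_add_distrib]
    refine Finset.sum_congr rfl fun i _ => ?_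
    rw [map_add]; ring

theorem pw_mul (hK : HasSplitting K P) (n : ℕ) (x y : K) :
    pw P n (x * y) = ∑ r ∈ range (n + 1), ∑ i ∈ range (n - r + 1),
      ((n.choose r * (n - r).choose i : ℕ) : K) * (pw P (i + r) x * pw P (n - i) y) := by
  obtain ⟨a, b, ha, hb, rfl⟩ := P.exists_sub x
  obtain ⟨c, d, hc, hd, rfl⟩ := P.exists_sub y
  obtain ⟨L, f, hf, -, h⟩ := exists_ext_split hK [a, b, c, d] (by simp [ha, hb, hc, hd])
  have key : ∀ p ∈ [a, b, c, d], ∀ q ∈ [a, b, c, d], pw P n (p * q) = ∑ r ∈ range (n + 1), ∑ i ∈ range (n - r + 1),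
      ((n.choose r * (n - r).choose i : ℕ) : K) * (pw P (i + r) p * pw P (n - i) q) := by
    intro p hp q hq
    obtain ⟨s, hs, hsp⟩ := h p hp
    obtain ⟨t, ht, htq⟩ := h q hq
    apply hf.injective
    simp only [map_sum, map_mul, map_natCast, pw_map hf]
    rw [← hsp, ← htq, pw_mul_lines hs ht]
  simp only [← pwHom_apply] at key ⊢
  rw [sub_mul, mul_sub, mul_sub]
  simp only [map_sub]
  rw [key a (by simp) c (by simp), key a (by simp) d (by simp), key b (by simp) c (by simp),
    key b (by simp) d (by simp)]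
  simp only [← Finset.sum_sub_distrib]
  refine Finset.sum_congr rfl fun r _ => Finset.sum_congr rfl fun i _ => ?_
  ring

theorem psiS_map_genS' {R : Type} [CommRing R] {S : Type u} [CommRing S] {σ : Type} {k : ℕ} {e : Fin k → σ}
    (φ : MvPolynomial σ R →+* S) {f : PowerSeries S} (hf : PowerSeries.constantCoeff f = 1)
    (h : ∀ i : Fin k, φ (MvPolynomial.X (e i)) = PowerSeries.coeff ((i : ℕ) + 1) f)
    {m : ℕ} (hm : 1 ≤ m) (hmk : m ≤ k) : φ (psiS (genS R k e) m) = psiS f m := by
  rw [map_psiS φ (constantCoeff_genS k e)]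
  refine (psiS_congr hf hm fun i hi => ?_).symm
  rw [PowerSeries.coeff_map, genS, PowerSeries.coeff_mk]
  rcases i with _ | i
  · simp [hf]
  · rw [if_neg (by omega), dif_pos (show i + 1 - 1 < k by omega), h]
    simp

/-- classes with values in a commutative ring -/
structure GrTarget (P : PosStructure K) (R : Type u) [CommRing R] where
  /-- the class in degree n -/
  cl : ℕ → K → R
  add : ∀ {n : ℕ} {x y : K}, x ∈ gammaFiltration P n → y ∈ gammaFiltration P n → cl n (x + y) = cl n x + cl n y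
  mul : ∀ {a b : ℕ} {x y : K}, x ∈ gammaFiltration P a → y ∈ gammaFiltration P b → cl (a + b) (x * y) = cl a x * cl b y
  one : cl 0 1 = 1
  succ : ∀ {n : ℕ} {x : K}, x ∈ gammaFiltration P (n + 1) → cl n x = 0

/-- the classes in ℚ Gr K -/
noncomputable def grTarget (P : PosStructure K) : GrTarget P (KGr.Gr P) where
  cl n x := KGr.grK P (n : ℤ) x
  add := grK_add
  mul := grK_mul
  one := grK_zero_one
  succ := grK_eq_zero

namespace GrTarget

variable {R : Type u} [CommRing R] (G : GrTarget P R)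

theorem cl_zero (n : ℕ) : G.cl n 0 = 0 := G.succ (zero_mem _)

theorem cl_neg {n : ℕ} {x : K} (hx : x ∈ gammaFiltration P n) : G.cl n (-x) = - G.cl n x := by
  refine eq_neg_of_add_eq_zero_left ?_
  rw [← G.add (neg_mem hx) hx, neg_add_cancel, G.cl_zero]

theorem cl_sum {ι : Type*} {n : ℕ} (s : Finset ι) {x : ι → K} (hx : ∀ i ∈ s, x i ∈ gammaFiltration P n) :
    G.cl n (∑ i ∈ s, x i) = ∑ i ∈ s, G.cl n (x i) := by
  classical
  induction s using Finset.induction with
  | empty => simp [G.cl_zero]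
  | insert a s ha ih =>
    rw [Finset.sum_insert ha, Finset.sum_insert ha,
      G.add (hx a (Finset.mem_insert_self a s)) (sum_mem fun i hi => hx i (Finset.mem_insert_of_mem hi)),
      ih fun i hi => hx i (Finset.mem_insert_of_mem hi)]

/-- `a ∈ F^w` has class `g` in degree `w`. -/
def IsCls (w : ℕ) (a : K) (g : R) : Prop := a ∈ gammaFiltration P w ∧ G.cl w a = g

variable {G}

theorem IsCls.add {w : ℕ} {a b : K} {g h : R} (ha : G.IsCls w a g) (hb : G.IsCls w b h) :
    G.IsCls w (a + b) (g + h) := ⟨add_mem ha.1 hb.1, by rw [G.add ha.1 hb.1, ha.2, hb.2]⟩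

theorem IsCls.zero (w : ℕ) : G.IsCls w (0 : K) 0 := ⟨zero_mem _, G.cl_zero w⟩

theorem IsCls.neg {w : ℕ} {a : K} {g : R} (ha : G.IsCls w a g) : G.IsCls w (-a) (-g) :=
  ⟨neg_mem ha.1, by rw [G.cl_neg ha.1, ha.2]⟩

theorem IsCls.sub {w : ℕ} {a b : K} {g h : R} (ha : G.IsCls w a g) (hb : G.IsCls w b h) :
    G.IsCls w (a - b) (g - h) := by rw [sub_eq_add_neg, sub_eq_add_neg]; exact ha.add hb.neg

theorem IsCls.mul {w v : ℕ} {a b : K} {g h : R} (ha : G.IsCls w a g) (hb : G.IsCls v b h) :
    G.IsCls (w + v) (a * b) (g * h) := ⟨mul_mem_add P ha.1 hb.1, by rw [G.mul ha.1 hb.1, ha.2, hb.2]⟩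

theorem IsCls.of_succ {w v : ℕ} {a : K} (ha : a ∈ gammaFiltration P v) (h : w < v) : G.IsCls w a 0 :=
  ⟨gammaFiltration_antitone P h.le ha, G.succ (gammaFiltration_antitone P h ha)⟩

theorem IsCls.one : G.IsCls 0 (1 : K) 1 := ⟨by simp [gammaFiltration], G.one⟩

theorem IsCls.natCast (n : ℕ) : G.IsCls 0 (n : K) (n : R) := by
  induction n with
  | zero => rw [Nat.cast_zero, Nat.cast_zero]; exact IsCls.zero 0
  | succ n ih => rw [Nat.cast_succ, Nat.cast_succ]; exact ih.add IsCls.one

theorem IsCls.intCast (n : ℤ) : G.IsCls 0 (n : K) (n : R) := by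
  rcases Int.eq_nat_or_neg n with ⟨k, rfl | rfl⟩
  · rw [Int.cast_natCast, Int.cast_natCast]; exact IsCls.natCast k
  · rw [Int.cast_neg, Int.cast_neg, Int.cast_natCast, Int.cast_natCast]; exact (IsCls.natCast k).neg

theorem IsCls.sum {ι : Type*} {w : ℕ} (s : Finset ι) {a : ι → K} {g : ι → R}
    (h : ∀ i ∈ s, G.IsCls w (a i) (g i)) : G.IsCls w (∑ i ∈ s, a i) (∑ i ∈ s, g i) :=
  ⟨sum_mem fun i hi => (h i hi).1, by rw [G.cl_sum s fun i hi => (h i hi).1]; exact Finset.sum_congr rfl fun i hi => (h i hi).2⟩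

theorem IsCls.pow {w : ℕ} {a : K} {g : R} (ha : G.IsCls w a g) : ∀ k : ℕ, G.IsCls (w * k) (a ^ k) (g ^ k)
  | 0 => by rw [pow_zero, pow_zero, mul_zero]; exact IsCls.one
  | k + 1 => by rw [pow_succ, pow_succ, Nat.mul_succ]; exact (IsCls.pow ha k).mul ha

theorem IsCls.prod {ι : Type*} (s : Finset ι) {w : ι → ℕ} {a : ι → K} {g : ι → R}
    (h : ∀ i ∈ s, G.IsCls (w i) (a i) (g i)) : G.IsCls (∑ i ∈ s, w i) (∏ i ∈ s, a i) (∏ i ∈ s, g i) := by
  classical
  induction s using Finset.induction with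
  | empty => rw [Finset.sum_empty, Finset.prod_empty, Finset.prod_empty]; exact IsCls.one
  | insert b s hb ih =>
    rw [Finset.sum_insert hb, Finset.prod_insert hb, Finset.prod_insert hb]
    exact (h b (Finset.mem_insert_self b s)).mul (ih fun i hi => h i (Finset.mem_insert_of_mem hi))

/-! ### classes -/

variable (G)

/-- the Chern classes -/
def chern (i : ℕ) (x : K) : R := G.cl i (gamma i (x - (P.aug x : K)))

variable {G}

theorem isCls_chern (x : K) (i : ℕ) :
    G.IsCls i (gamma i (x - (P.aug x : K))) (G.chern i x) := by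
  exact ⟨gamma_mem P (by simp) le_rfl, rfl⟩

/-- c_t(x) -/
noncomputable def chernSer (G : GrTarget P R) (x : K) : PowerSeries (R) :=
  PowerSeries.mk fun i => G.chern i x

theorem chern_zero (x : K) : G.chern 0 x = 1 := by
  have h := (isCls_chern (G := G) x 0).2
  rw [gamma_zero, G.one] at h
  exact h.symm

theorem constantCoeff_chernSer (x : K) : PowerSeries.constantCoeff (G.chernSer x) = 1 := by
  rw [← PowerSeries.coeff_zero_eq_constantCoeff_apply, chernSer, PowerSeries.coeff_mk, chern_zero]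

theorem logD_rec {R : Type*} [CommRing R] {f : PowerSeries R} (hf : PowerSeries.constantCoeff f = 1) (n : ℕ) :
    PowerSeries.coeff n (logD f) = ((n + 1 : ℕ) : R) * PowerSeries.coeff (n + 1) f -
      ∑ i ∈ range n, PowerSeries.coeff (i + 1) f * PowerSeries.coeff (n - (i + 1)) (logD f) := by
  have h : PowerSeries.derivative R f = f * logD f := by
    rw [logD, mul_left_comm, PowerSeries.mul_invOfUnit f 1 (by simpa using hf), mul_one]
  have h2 := congrArg (PowerSeries.coeff n) h
  rw [PowerSeries.coeff_derivative, PowerSeries.coeff_mul, Finset.Nat.sum_antidiagonal_eq_sum_range_succ_mk,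
    Finset.sum_range_succ', PowerSeries.coeff_zero_eq_constantCoeff_apply, hf, one_mul, Nat.sub_zero] at h2
  rw [Nat.cast_succ, mul_comm _ (PowerSeries.coeff (n + 1) f), h2]
  simp only
  ring

theorem isCls_logD (x : K) (n : ℕ) :
    G.IsCls (n + 1) (PowerSeries.coeff n (logD (chSer P x))) (PowerSeries.coeff n (logD (G.chernSer x))) := by
  induction n using Nat.strong_induction_on with
  | _ n ih =>
    rw [logD_rec (constantCoeff_chSer x), logD_rec (constantCoeff_chernSer x)]
    have hc : ∀ i, G.IsCls i (PowerSeries.coeff i (chSer P x)) (PowerSeries.coeff i (G.chernSer x)) := fun i => by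
      rw [chSer, coeff_gammaSeries, chernSer, PowerSeries.coeff_mk]
      exact isCls_chern x i
    refine IsCls.sub ?_ (IsCls.sum _ fun i hi => ?_)
    · have := (IsCls.natCast (G := G) (n + 1)).mul (hc (n + 1))
      rwa [zero_add] at this
    · rw [Finset.mem_range] at hi
      have := (hc (i + 1)).mul (ih (n - (i + 1)) (by omega))
      rwa [show i + 1 + (n - (i + 1) + 1) = n + 1 by omega] at this

/-- power sums of the Chern roots in the graded ring -/
noncomputable def gpw (G : GrTarget P R) (m : ℕ) (x : K) : R :=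
  if m = 0 then (P.aug x : R) else psiS (G.chernSer x) m

theorem isCls_pw (m : ℕ) (x : K) : G.IsCls m (pw P m x) (G.gpw m x) := by
  unfold pw gpw
  split_ifs with h
  · subst h; exact IsCls.intCast _
  · obtain ⟨n, rfl⟩ : ∃ n, m = n + 1 := ⟨m - 1, by omega⟩
    rw [psiS, psiS, Nat.add_sub_cancel]
    have h2 := (IsCls.intCast (G := G) ((-1) ^ n)).mul (isCls_logD x n)
    rw [Int.cast_pow, Int.cast_pow, Int.cast_neg, Int.cast_neg, Int.cast_one, Int.cast_one, zero_add] at h2
    exact h2

/-! ### the Chern character -/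

open MvPolynomial in
theorem chPoly_eq (d : ℕ) :
    KGr.chPoly d = MvPolynomial.C (d : ℚ) +
      ∑ m ∈ range d, MvPolynomial.C (1 / ((m + 1).factorial : ℚ)) * psiS (genS ℚ d id) (m + 1) := by
  apply aeval_esymm_injective (σ := Fin d) (R := ℚ) (n := d) (by simp)
  have hL : aeval (fun i : Fin d => esymm (Fin d) ℚ ((i : ℕ) + 1)) (KGr.chPoly d) =
      ∑ i : Fin d, Polynomial.aeval (X i : MvPolynomial (Fin d) ℚ) (KGr.expTrunc d) := by
    have h := (esymmAlgEquiv (Fin d) ℚ (Fintype.card_fin d)).apply_symm_apply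
      ⟨∑ i : Fin d, Polynomial.aeval (X i : MvPolynomial (Fin d) ℚ) (KGr.expTrunc d),
        KGr.isSymmetric_sum_aeval d (KGr.expTrunc d)⟩
    have h2 := congrArg Subtype.val h
    refine Eq.trans ?_ h2
    exact (esymmAlgHom_apply (σ := Fin d) (R := ℚ) (n := d) (KGr.chPoly d)).symm
  rw [hL]
  set s := (univ : Finset (Fin d)).val.map fun a => (X a : MvPolynomial (Fin d) ℚ)
  have hR : ∀ m < d, aeval (fun i : Fin d => esymm (Fin d) ℚ ((i : ℕ) + 1)) (psiS (genS ℚ d id) (m + 1)) =
      ∑ i : Fin d, (X i : MvPolynomial (Fin d) ℚ) ^ (m + 1) := by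
    intro m hm
    have := psiS_map_genS' (aeval (R := ℚ) fun i : Fin d => esymm (Fin d) ℚ ((i : ℕ) + 1)).toRingHom
      (constantCoeff_rootSeries s) (e := id) (fun i => by
        simp [coeff_rootSeries, s, esymm_eq_multiset_esymm]) (Nat.succ_le_succ (Nat.zero_le m)) (by omega)
    rw [AlgHom.toRingHom_eq_coe, RingHom.coe_coe, psiS_rootSeries _ (Nat.succ_le_succ (Nat.zero_le m))] at this
    rw [this, Multiset.map_map]
    rfl
  rw [map_add, map_sum, aeval_C]
  simp only [KGr.expTrunc, map_sum, map_mul, Polynomial.aeval_C, map_pow, Polynomial.aeval_X, aeval_C]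
  rw [Finset.sum_comm, Finset.sum_range_succ', add_comm]
  congr 1
  · simp
  · refine Finset.sum_congr rfl fun m hm => ?_
    rw [Finset.mem_range] at hm
    rw [hR m hm, Finset.mul_sum]

variable [Algebra ℚ R]

/-- the Chern character -/
noncomputable def chK (G : GrTarget P R) (d : ℕ) (x : K) : R :=
  algebraMap ℚ R ((P.aug x : ℚ) - d) + MvPolynomial.aeval (fun i : Fin d => G.chern (i.1 + 1) x) (KGr.chPoly d)

theorem chK_eq (d : ℕ) (x : K) :
    G.chK d x = ∑ m ∈ range (d + 1), algebraMap ℚ (R) (1 / (m.factorial : ℚ)) * G.gpw m x := by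
  rw [GrTarget.chK, chPoly_eq, map_add, map_sum, MvPolynomial.aeval_C, ← add_assoc, ← map_add, sub_add_cancel,
    Finset.sum_range_succ', add_comm]
  congr 1
  · refine Finset.sum_congr rfl fun m hm => ?_
    rw [Finset.mem_range] at hm
    rw [map_mul, MvPolynomial.aeval_C, gpw, if_neg (by omega)]
    congr 1
    refine Eq.trans ?_ (psiS_map_genS' (S := R) (MvPolynomial.aeval (R := ℚ) fun i : Fin d => G.chern (i.1 + 1) x).toRingHom
      (constantCoeff_chernSer x) (k := d) (e := id) (m := m + 1) (fun i => ?_) (Nat.succ_le_succ (Nat.zero_le m)) (by omega))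
    · rw [AlgHom.toRingHom_eq_coe, RingHom.coe_coe]
    · rw [AlgHom.toRingHom_eq_coe, RingHom.coe_coe, MvPolynomial.aeval_X, chernSer, PowerSeries.coeff_mk, id_eq]
  · rw [gpw, if_pos rfl, Nat.factorial_zero, Nat.cast_one, div_one, map_one, one_mul, map_intCast]

theorem gpw_mul (hK : HasSplitting K P) (n : ℕ) (x y : K) :
    G.gpw n (x * y) = ∑ i ∈ range (n + 1), (n.choose i : R) * (G.gpw i x * G.gpw (n - i) y) := by
  rw [← (isCls_pw n (x * y)).2, pw_mul hK, Finset.sum_range_succ']
  have hhi : G.IsCls n (∑ r ∈ range n, ∑ i ∈ range (n - (r + 1) + 1),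
      ((n.choose (r + 1) * (n - (r + 1)).choose i : ℕ) : K) * (pw P (i + (r + 1)) x * pw P (n - i) y)) 0 := by
    refine IsCls.of_succ (v := n + 1) (sum_mem fun r hr => sum_mem fun i hi => mul_mem_left P _ ?_) (Nat.lt_succ_self n)
    rw [Finset.mem_range] at hr hi
    exact gammaFiltration_antitone P (by omega) (mul_mem_add P (isCls_pw (G := G) (i + (r + 1)) x).1 (isCls_pw (G := G) (n - i) y).1)
  have hlo : G.IsCls n (∑ i ∈ range (n + 1), (n.choose i : K) * (pw P i x * pw P (n - i) y))
      (∑ i ∈ range (n + 1), (n.choose i : R) * (G.gpw i x * G.gpw (n - i) y)) := by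
    refine IsCls.sum _ fun i hi => ?_
    rw [Finset.mem_range] at hi
    have := (IsCls.natCast (G := G) (n.choose i)).mul ((isCls_pw i x).mul (isCls_pw (n - i) y))
    rwa [zero_add, Nat.add_sub_cancel' (by omega)] at this
  have h0 : (∑ i ∈ range (n - 0 + 1), ((n.choose 0 * (n - 0).choose i : ℕ) : K) * (pw P (i + 0) x * pw P (n - i) y)) =
      ∑ i ∈ range (n + 1), (n.choose i : K) * (pw P i x * pw P (n - i) y) := by simp
  rw [h0, (hhi.add hlo).2, zero_add]

theorem gpw_mul_gpw_eq_zero {d i j : ℕ} (hd : gammaFiltration P (d + 1) = ⊥) (hij : d < i + j) (x y : K) :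
    G.gpw i x * G.gpw j y = 0 := by
  have h := (isCls_pw (G := G) i x).mul (isCls_pw j y)
  have h0 : pw P i x * pw P j y = 0 := by
    have := gammaFiltration_antitone P (show d + 1 ≤ i + j by omega) h.1
    rwa [hd, AddSubgroup.mem_bot] at this
  rw [← h.2, h0, G.cl_zero]

theorem chK_one (d : ℕ) : G.chK d (1 : K) = 1 := by
  rw [chK_eq, Finset.sum_range_succ']
  have hm : ∀ m ∈ range d, algebraMap ℚ (R) (1 / ((m + 1).factorial : ℚ)) * G.gpw (m + 1) (1 : K) = 0 := fun m _ => by
    rw [← (isCls_pw (m + 1) (1 : K)).2, pw_one, if_neg (by omega), G.cl_zero, mul_zero]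
  rw [Finset.sum_eq_zero hm, zero_add, gpw, if_pos rfl, map_one, Int.cast_one, mul_one, Nat.factorial_zero, Nat.cast_one,
    div_one, map_one]

theorem chK_mul (hK : HasSplitting K P) {d : ℕ} (hd : gammaFiltration P (d + 1) = ⊥) (x y : K) :
    G.chK d (x * y) = G.chK d x * G.chK d y := by
  simp only [chK_eq, gpw_mul hK, Finset.mul_sum, Finset.sum_mul]
  set g : ℕ → ℕ → R := fun i j =>
    algebraMap ℚ (R) (1 / (i.factorial : ℚ)) * G.gpw i x * (algebraMap ℚ (R) (1 / (j.factorial : ℚ)) * G.gpw j y)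
  have hL : ∀ m, ∀ i ∈ range (m + 1), algebraMap ℚ (R) (1 / (m.factorial : ℚ)) *
      ((m.choose i : R) * (G.gpw i x * G.gpw (m - i) y)) = g i (m - i) := by
    intro m i hi
    rw [Finset.mem_range] at hi
    simp only [g]
    have hc : (1 / (m.factorial : ℚ)) * (m.choose i : ℚ) = (1 / (i.factorial : ℚ)) * (1 / ((m - i).factorial : ℚ)) := by
      rw [Nat.cast_choose ℚ (show i ≤ m by omega)]
      field_simp
    rw [← mul_assoc, ← map_natCast (algebraMap ℚ (R)), ← map_mul, hc, map_mul]
    ring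
  rw [Finset.sum_congr rfl fun m _ => Finset.sum_congr rfl (hL m), Finset.sum_range_diag_flip (d + 1) g,
    Finset.sum_comm]
  refine (Finset.sum_congr rfl fun m hm => ?_)
  rw [Finset.mem_range] at hm
  refine Finset.sum_subset (Finset.range_mono (by omega)) fun k hk hk' => ?_
  rw [Finset.mem_range] at hk hk'
  simp only [g]
  rw [mul_mul_mul_comm]
  rw [gpw_mul_gpw_eq_zero hd (by omega), mul_zero]

end GrTarget

theorem kgr_chern_eq (P : PosStructure K) (i : ℕ) (x : K) : KGr.chern P i x = (grTarget P).chern i x := rfl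

theorem kgr_chK_eq (P : PosStructure K) (d : ℕ) (x : K) : KGr.chK P d x = (grTarget P).chK d x := rfl

end Groth.Agent.LambdaLib
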