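import Mathlib
import Groth.Agent.LambdaLib.KGrBasic
import Groth.Agent.LambdaLib.Eigen

/-!
# The Chern character ℚ ⊗ K → ℚ Gr K is bijective
-/

universe u

open Finset LambdaRing
open scoped TensorProduct

namespace Groth.Agent.LambdaLib

variable {K : Type u} [CommRing K] [LambdaOps K] {P : PosStructure K}

/-- the power sums are the iterated differences of the Adams operations -/
theorem pw_eq_sum_adams (hK : HasSplitting K P) (m : ℕ) (x : K) :
    pw P m x = ∑ i ∈ range (m + 1), ((-1 : ℤ) ^ (m - i) * m.choose i) • adams P i x := by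
  set D : K →+ K := pwHom P m - ∑ i ∈ range (m + 1), ((-1 : ℤ) ^ (m - i) * m.choose i) • adamsHom P i with hD
  have happ : ∀ z, D z = pw P m z - ∑ i ∈ range (m + 1), ((-1 : ℤ) ^ (m - i) * m.choose i) • adams P i z := by
    intro z
    simp [hD]
  suffices h : D x = 0 by rwa [happ, sub_eq_zero] at h
  obtain ⟨a, b, ha, hb, rfl⟩ := P.exists_sub x
  have key : ∀ e ∈ P.pos, D e = 0 := by
    intro e he
    obtain ⟨L, f, hf, -, h⟩ := exists_ext_split hK [e] (by simpa using he)
    obtain ⟨s, hs, hse⟩ := h e List.mem_cons_self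
    apply hf.injective
    have hline : ∀ u ∈ s, ((u - 1) ^ m : L.carrier) =
        ∑ i ∈ range (m + 1), ((-1 : ℤ) ^ (m - i) * m.choose i) • u ^ i := fun u _ => by
      rw [sub_eq_add_neg, add_pow]
      refine Finset.sum_congr rfl fun i _ => ?_
      rw [zsmul_eq_mul]
      push_cast
      ring
    rw [happ, map_sub, map_sum, pw_map hf, map_zero, ← hse, pw_sum_lines hs, sub_eq_zero,
      Multiset.map_congr rfl hline, Multiset.sum_map_sum]
    refine Finset.sum_congr rfl fun i _ => ?_
    rw [map_zsmul, adams_map hf, ← hse, adams_multiset_sum_lines _ hs, Multiset.smul_sum, Multiset.map_map]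
    rfl
  rw [map_sub, key a ha, key b hb, sub_zero]

theorem sum_choose_pow_eq_factorial (n : ℕ) :
    ∑ i ∈ range (n + 1), ((-1 : ℤ) ^ (n - i) * n.choose i) * (i : ℤ) ^ n = n.factorial := by
  have h := fwdDiff_iter_eq_sum_shift (1 : ℤ) (fun r : ℤ => r ^ n) n 0
  rw [fwdDiff_iter_eq_factorial] at h
  simpa using h.symm

theorem pw_sub_factorial_mem (hK : HasSplitting K P) {n : ℕ} {y : K} (hy : y ∈ gammaFiltration P n) :
    pw P n y - (n.factorial : K) * y ∈ gammaFiltration P (n + 1) := by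
  have hfac : (n.factorial : K) * y =
      ∑ i ∈ range (n + 1), ((-1 : ℤ) ^ (n - i) * n.choose i) • ((i : K) ^ n * y) := by
    have h := congrArg (fun z : ℤ => (z : K) * y) (sum_choose_pow_eq_factorial n)
    simp only [Int.cast_natCast, Int.cast_sum, Int.cast_mul, Int.cast_pow, Finset.sum_mul] at h
    rw [← h]
    refine Finset.sum_congr rfl fun i _ => ?_
    rw [zsmul_eq_mul]
    push_cast
    ring
  rw [pw_eq_sum_adams hK, hfac, ← Finset.sum_sub_distrib]
  refine sum_mem fun i _ => ?_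
  rw [← smul_sub]
  exact zsmul_mem (adams_sub_pow_mem hK i n hy) _

theorem pw_mem_of_mem (hK : HasSplitting K P) (m : ℕ) {n : ℕ} {y : K} (hy : y ∈ gammaFiltration P n) :
    pw P m y ∈ gammaFiltration P n := by
  rw [pw_eq_sum_adams hK]
  exact sum_mem fun i _ => zsmul_mem (adams_mem_gammaFiltration hK i n hy) _

namespace GrTarget

variable {R : Type u} [CommRing R] {G : GrTarget P R}

theorem gpw_add (m : ℕ) (x y : K) : G.gpw m (x + y) = G.gpw m x + G.gpw m y := by
  have h := (isCls_pw (G := G) m x).add (isCls_pw m y)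
  rw [← pw_add] at h
  rw [← (isCls_pw (G := G) m (x + y)).2, h.2]

theorem chK_add [Algebra ℚ R] (d : ℕ) (x y : K) : G.chK d (x + y) = G.chK d x + G.chK d y := by
  simp only [chK_eq, gpw_add, mul_add, Finset.sum_add_distrib]

theorem gpw_eq_zero (hK : HasSplitting K P) {m n : ℕ} (h : m < n) {y : K} (hy : y ∈ gammaFiltration P n) :
    G.gpw m y = 0 := by
  rw [← (isCls_pw (G := G) m y).2]
  exact G.succ (gammaFiltration_antitone P h (pw_mem_of_mem hK m hy))

theorem gpw_eq_factorial_mul (hK : HasSplitting K P) {n : ℕ} {y : K} (hy : y ∈ gammaFiltration P n) :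
    G.gpw n y = (n.factorial : R) * G.cl n y := by
  rw [← (isCls_pw (G := G) n y).2]
  have h := ((IsCls.natCast (G := G) n.factorial).mul (show G.IsCls n y (G.cl n y) from ⟨hy, rfl⟩))
  rw [Nat.zero_add] at h
  have h2 := h.add (IsCls.of_succ (G := G) (pw_sub_factorial_mem hK hy) (Nat.lt_succ_self n))
  rw [add_zero, add_sub_cancel] at h2
  exact h2.2

end GrTarget

/-! ### coefficients of the Rees ring -/

theorem coeff_mem_of_mem_rees {p : LaurentPolynomial K} (hp : p ∈ KGr.rees P) (a : ℤ) :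
    p.coeff a ∈ gammaFiltration P (-a).toNat := by
  classical
  have htop : ∀ z : K, z ∈ gammaFiltration P 0 := fun z => by simp [gammaFiltration]
  induction hp using Subring.closure_induction generalizing a with
  | mem q hq =>
    rcases hq with rfl | ⟨n, x, hx, rfl⟩
    · rw [LaurentPolynomial.T, AddMonoidAlgebra.coeff_single, Finsupp.single_apply]
      split_ifs with h
      · subst h
        simpa using htop 1
      · exact zero_mem _
    · rw [← LaurentPolynomial.single_eq_C_mul_T, AddMonoidAlgebra.coeff_single, Finsupp.single_apply]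
      split_ifs with h
      · subst h
        simpa using hx
      · exact zero_mem _
  | zero => simp
  | one =>
    rw [AddMonoidAlgebra.one_def, AddMonoidAlgebra.coeff_single, Finsupp.single_apply]
    split_ifs with h
    · subst h
      simpa using htop 1
    · exact zero_mem _
  | add q r _ _ hq hr => simpa using add_mem (hq a) (hr a)
  | neg q _ hq => simpa using neg_mem (hq a)
  | mul q r _ _ hq hr =>
    rw [AddMonoidAlgebra.coeff_mul]
    refine sum_mem fun b _ => sum_mem fun c _ => ?_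
    dsimp only
    split_ifs with h
    · exact gammaFiltration_antitone P (by omega) (mul_mem_add P (hq b) (hr c))
    · exact zero_mem _

/-- rational coefficient in degree n, modulo F^{n+1} -/
noncomputable def coeffHom (P : PosStructure K) (n : ℕ) :
    KGr.rees P →ₗ[ℤ] (ℚ ⊗[ℤ] K) ⧸ ratFil P (n + 1) :=
  AddMonoidHom.toIntLinearMap
    { toFun := fun p => (ratFil P (n + 1)).mkQ ((1 : ℚ) ⊗ₜ[ℤ] (p : LaurentPolynomial K).coeff (-(n : ℤ)))
      map_zero' := by simp
      map_add' := fun p q => by simp [TensorProduct.tmul_add] }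

theorem coeffHom_apply (n : ℕ) (p : KGr.rees P) : coeffHom P n p =
    (ratFil P (n + 1)).mkQ ((1 : ℚ) ⊗ₜ[ℤ] (p : LaurentPolynomial K).coeff (-(n : ℤ))) := rfl

theorem span_tGen_le_ker (n : ℕ) :
    (Ideal.span {KGr.tGen P}).toAddSubgroup ≤ (coeffHom P n).toAddMonoidHom.ker := by
  classical
  intro p hp
  obtain ⟨q, rfl⟩ := Ideal.mem_span_singleton'.mp hp
  rw [AddMonoidHom.mem_ker]
  change coeffHom P n _ = 0
  rw [coeffHom_apply, Submodule.mkQ_apply, Submodule.Quotient.mk_eq_zero]
  refine Submodule.subset_span ⟨_, ?_, rfl⟩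
  have h : ((q * KGr.tGen P : KGr.rees P) : LaurentPolynomial K).coeff (-(n : ℤ)) =
      (q : LaurentPolynomial K).coeff (-((n + 1 : ℕ) : ℤ)) := by
    change ((q : LaurentPolynomial K) * LaurentPolynomial.T 1).coeff _ = _
    rw [LaurentPolynomial.T, AddMonoidAlgebra.coeff_mul_single_eq_coeff_mul (-((n + 1 : ℕ) : ℤ))
      (fun m _ => ⟨fun e => by push_cast; omega, fun e => by subst e; push_cast; ring⟩), mul_one]
  rw [SetLike.mem_coe, h]
  simpa using coeff_mem_of_mem_rees q.2 (-((n + 1 : ℕ) : ℤ))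

/-- the degree n coefficient on Gr K -/
noncomputable def grZComp (P : PosStructure K) (n : ℕ) : KGr.GrZ P →+ (ℚ ⊗[ℤ] K) ⧸ ratFil P (n + 1) :=
  QuotientAddGroup.lift (Ideal.span {KGr.tGen P}).toAddSubgroup (coeffHom P n).toAddMonoidHom (span_tGen_le_ker n)

theorem grZComp_mk (n : ℕ) (p : KGr.rees P) :
    grZComp P n (Ideal.Quotient.mk (Ideal.span {KGr.tGen P}) p) = coeffHom P n p := rfl

/-- ℚ Gr K → ℚ ⊗ F^n / F^{n+1}, realised in ℚ ⊗ K -/
noncomputable def grComp (P : PosStructure K) (n : ℕ) : KGr.Gr P →ₗ[ℚ] (ℚ ⊗[ℤ] K) ⧸ ratFil P (n + 1) :=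
  LinearMap.liftBaseChange ℚ (grZComp P n).toIntLinearMap

theorem grComp_grK (n m : ℕ) {z : K} (hz : z ∈ gammaFiltration P m) :
    grComp P n (KGr.grK P (m : ℤ) z) = (ratFil P (n + 1)).mkQ ((1 : ℚ) ⊗ₜ[ℤ] if m = n then z else 0) := by
  classical
  rw [grK_eq hz]
  change grComp P n ((1 : ℚ) ⊗ₜ[ℤ] Ideal.Quotient.mk _ (⟨_, mem_rees hz⟩ : KGr.rees P)) = _
  rw [grComp, LinearMap.liftBaseChange_tmul, one_smul, AddMonoidHom.coe_toIntLinearMap, grZComp_mk]
  rw [coeffHom_apply]
  congr 2
  change (LaurentPolynomial.C z * LaurentPolynomial.T (-(m : ℤ))).coeff _ = _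
  rw [← LaurentPolynomial.single_eq_C_mul_T, AddMonoidAlgebra.coeff_single, Finsupp.single_apply]
  exact if_congr (by omega) rfl rfl

/-- the ℚ-linear extension of the Chern character -/
noncomputable def chLin (P : PosStructure K) (d : ℕ) : ℚ ⊗[ℤ] K →ₗ[ℚ] KGr.Gr P :=
  LinearMap.liftBaseChange ℚ
    (AddMonoidHom.mk' ((grTarget P).chK d) (GrTarget.chK_add d)).toIntLinearMap

theorem chLin_tmul (d : ℕ) (q : ℚ) (x : K) : chLin P d (q ⊗ₜ[ℤ] x) = q • KGr.chK P d x := by
  rw [chLin, LinearMap.liftBaseChange_tmul]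
  rfl

theorem grComp_chK (hK : HasSplitting K P) {d n : ℕ} (hn : n ≤ d) {y : K} (hy : y ∈ gammaFiltration P n) :
    grComp P n (KGr.chK P d y) = (ratFil P (n + 1)).mkQ ((1 : ℚ) ⊗ₜ[ℤ] y) := by
  rw [kgr_chK_eq, GrTarget.chK_eq, map_sum, Finset.sum_eq_single n]
  · rw [← Algebra.smul_def, map_smul, GrTarget.gpw_eq_factorial_mul hK hy, ← nsmul_eq_mul, map_nsmul,
      ← Nat.cast_smul_eq_nsmul ℚ, smul_smul, one_div_mul_cancel (Nat.cast_ne_zero.mpr n.factorial_ne_zero), one_smul]
    change grComp P n (KGr.grK P (n : ℤ) y) = _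
    rw [grComp_grK n n hy, if_pos rfl]
  · intro m _ hm
    have h := GrTarget.isCls_pw (G := grTarget P) m y
    rw [← Algebra.smul_def, map_smul, ← h.2]
    change _ • grComp P n (KGr.grK P (m : ℤ) (pw P m y)) = 0
    rw [grComp_grK n m h.1, if_neg hm, TensorProduct.tmul_zero, map_zero, smul_zero]
  · intro h
    exact absurd (Finset.mem_range.mpr (by omega)) h

theorem chLin_injective (hK : HasSplitting K P) (d : ℕ) (hd : gammaFiltration P (d + 1) = ⊥) :
    Function.Injective (chLin P d) := by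
  rw [← LinearMap.ker_eq_bot, eq_bot_iff]
  intro v hv
  rw [LinearMap.mem_ker] at hv
  have hstep : ∀ n ≤ d + 1, v ∈ ratFil P n := by
    intro n
    induction n with
    | zero =>
      intro _
      clear hv
      induction v using TensorProduct.induction_on with
      | zero => exact zero_mem _
      | tmul q x =>
        rw [show q ⊗ₜ[ℤ] x = q • ((1 : ℚ) ⊗ₜ[ℤ] x) by rw [TensorProduct.smul_tmul', smul_eq_mul, mul_one]]
        exact Submodule.smul_mem _ _ (Submodule.subset_span ⟨x, by simp [gammaFiltration], rfl⟩)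
      | add a b ha hb => exact add_mem ha hb
    | succ n ih =>
      intro hn
      have heq : Set.EqOn ((grComp P n).comp (chLin P d)) (ratFil P (n + 1)).mkQ
          ((fun x : K => (1 : ℚ) ⊗ₜ[ℤ] x) '' (gammaFiltration P n : Set K)) := by
        rintro _ ⟨y, hy, rfl⟩
        rw [LinearMap.comp_apply, chLin_tmul, one_smul, grComp_chK hK (by omega) hy]
      have h := LinearMap.eqOn_span' heq (ih (by omega))
      rw [LinearMap.comp_apply, hv, map_zero, eq_comm, Submodule.mkQ_apply, Submodule.Quotient.mk_eq_zero] at h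
      exact h
  have hbot : ratFil P (d + 1) = ⊥ := by
    rw [eq_bot_iff, ratFil, Submodule.span_le]
    rintro _ ⟨x, hx, rfl⟩
    rw [SetLike.mem_coe, hd, AddSubgroup.mem_bot] at hx
    simp [hx]
  exact hbot ▸ hstep (d + 1) le_rfl

theorem grK_mem_range (hK : HasSplitting K P) (d : ℕ) (hd : gammaFiltration P (d + 1) = ⊥) :
    ∀ k n : ℕ, d < n + k → ∀ x ∈ gammaFiltration P n, KGr.grK P (n : ℤ) x ∈ LinearMap.range (chLin P d) := by
  intro k
  induction k with
  | zero =>
    intro n hn x hx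
    have h0 := gammaFiltration_antitone P (show d + 1 ≤ n by omega) hx
    rw [hd, AddSubgroup.mem_bot] at h0
    rw [h0, grK_zero]
    exact zero_mem _
  | succ k ih =>
    intro n hn x hx
    rcases lt_or_ge d n with hdn | hdn
    · exact ih n (by omega) x hx
    set G := grTarget P
    have hch : G.chK d x ∈ LinearMap.range (chLin P d) :=
      ⟨(1 : ℚ) ⊗ₜ[ℤ] x, by rw [chLin_tmul, one_smul, kgr_chK_eq]⟩
    rw [GrTarget.chK_eq, ← Finset.add_sum_erase _ _ (Finset.mem_range.mpr (show n < d + 1 by omega))] at hch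
    have hrest : ∑ m ∈ (range (d + 1)).erase n, algebraMap ℚ (KGr.Gr P) (1 / (m.factorial : ℚ)) * G.gpw m x ∈
        LinearMap.range (chLin P d) := by
      refine sum_mem fun m hm => ?_
      rw [← Algebra.smul_def]
      refine Submodule.smul_mem _ _ ?_
      rcases lt_or_gt_of_ne (Finset.ne_of_mem_erase hm) with h | h
      · rw [GrTarget.gpw_eq_zero hK h hx]
        exact zero_mem _
      · have hc := GrTarget.isCls_pw (G := G) m x
        rw [← hc.2]
        exact ih m (by omega) _ hc.1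
    have hn' := (LinearMap.range (chLin P d)).sub_mem hch hrest
    rwa [add_sub_cancel_right, ← Algebra.smul_def, GrTarget.gpw_eq_factorial_mul hK hx, ← nsmul_eq_mul,
      ← Nat.cast_smul_eq_nsmul ℚ, smul_smul, one_div_mul_cancel (Nat.cast_ne_zero.mpr n.factorial_ne_zero),
      one_smul] at hn'

theorem chLin_range_mul (hK : HasSplitting K P) (d : ℕ) (hd : gammaFiltration P (d + 1) = ⊥) {a b : KGr.Gr P}
    (ha : a ∈ LinearMap.range (chLin P d)) (hb : b ∈ LinearMap.range (chLin P d)) :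
    a * b ∈ LinearMap.range (chLin P d) := by
  obtain ⟨v, rfl⟩ := ha
  obtain ⟨w, rfl⟩ := hb
  induction v using TensorProduct.induction_on with
  | zero => simp
  | add p q hp hq => rw [map_add, add_mul]; exact add_mem hp hq
  | tmul q x =>
    induction w using TensorProduct.induction_on with
    | zero => simp
    | add p r hp hr => rw [map_add, mul_add]; exact add_mem hp hr
    | tmul r y =>
      refine ⟨(q * r) ⊗ₜ[ℤ] (x * y), ?_⟩
      rw [chLin_tmul, chLin_tmul, chLin_tmul, smul_mul_smul_comm]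
      simp only [kgr_chK_eq, GrTarget.chK_mul hK hd]

theorem reesToGr_mem (W : Submodule ℚ (KGr.Gr P)) (hone : (1 : KGr.Gr P) ∈ W)
    (hgrK : ∀ n : ℕ, ∀ x ∈ gammaFiltration P n, KGr.grK P (n : ℤ) x ∈ W)
    (hmul : ∀ a ∈ W, ∀ b ∈ W, a * b ∈ W) (p : KGr.rees P) : reesToGr P p ∈ W := by
  obtain ⟨p, hp⟩ := p
  induction hp using Subring.closure_induction with
  | mem q hq =>
    rcases hq with rfl | ⟨n, x, hx, rfl⟩
    · have h : reesToGr P (KGr.tGen P) = 0 := by
        rw [reesToGr, RingHom.comp_apply,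
          Ideal.Quotient.eq_zero_iff_mem.mpr (Ideal.mem_span_singleton_self (KGr.tGen P)), map_zero]
      exact (show reesToGr P (KGr.tGen P) ∈ W from h ▸ W.zero_mem)
    · exact (grK_eq hx ▸ hgrK n x hx :)
  | zero => exact ((RingHom.map_zero (reesToGr P)).symm ▸ W.zero_mem :)
  | one => exact ((RingHom.map_one (reesToGr P)).symm ▸ hone :)
  | add q r hq hr iq ir => exact ((RingHom.map_add (reesToGr P) ⟨q, hq⟩ ⟨r, hr⟩).symm ▸ W.add_mem iq ir :)
  | neg q hq iq => exact ((RingHom.map_neg (reesToGr P) ⟨q, hq⟩).symm ▸ W.neg_mem iq :)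
  | mul q r hq hr iq ir => exact ((RingHom.map_mul (reesToGr P) ⟨q, hq⟩ ⟨r, hr⟩).symm ▸ hmul _ iq _ ir :)

theorem chLin_surjective (hK : HasSplitting K P) (d : ℕ) (hd : gammaFiltration P (d + 1) = ⊥) :
    Function.Surjective (chLin P d) := by
  have hone : (1 : KGr.Gr P) ∈ LinearMap.range (chLin P d) :=
    ⟨(1 : ℚ) ⊗ₜ[ℤ] (1 : K), by rw [chLin_tmul, one_smul, kgr_chK_eq, GrTarget.chK_one]⟩
  have hgrK : ∀ n : ℕ, ∀ x ∈ gammaFiltration P n, KGr.grK P (n : ℤ) x ∈ LinearMap.range (chLin P d) :=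
    fun n x hx => grK_mem_range hK d hd (d + 1) n (by omega) x hx
  have hmul : ∀ a ∈ LinearMap.range (chLin P d), ∀ b ∈ LinearMap.range (chLin P d),
      a * b ∈ LinearMap.range (chLin P d) := fun a ha b hb => chLin_range_mul hK d hd ha hb
  have hrees := reesToGr_mem (LinearMap.range (chLin P d)) hone hgrK hmul
  rw [← LinearMap.range_eq_top, eq_top_iff]
  rintro v -
  induction v using TensorProduct.induction_on with
  | zero => exact zero_mem _
  | add a b ha hb => exact add_mem ha hb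
  | tmul q z =>
    obtain ⟨p, rfl⟩ := Ideal.Quotient.mk_surjective z
    rw [show q ⊗ₜ[ℤ] Ideal.Quotient.mk (Ideal.span {KGr.tGen P}) p = q • reesToGr P p from
      (by rw [← mul_one q, ← smul_eq_mul, ← TensorProduct.smul_tmul', smul_eq_mul, mul_one]; rfl)]
    exact Submodule.smul_mem _ q (hrees p)

theorem chernChar_bijective (hK : HasSplitting K P) (d : ℕ) (hd : gammaFiltration P (d + 1) = ⊥) :
    ∃ Φ : ℚ ⊗[ℤ] K →ₗ[ℚ] KGr.Gr P, (∀ x : K, Φ ((1 : ℚ) ⊗ₜ[ℤ] x) = KGr.chK P d x) ∧ Function.Bijective Φ :=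
  ⟨chLin P d, fun x => by rw [chLin_tmul, one_smul], chLin_injective hK d hd, chLin_surjective hK d hd⟩

end Groth.Agent.LambdaLib
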