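import Groth.Agent.LambdaLib.Symm

/-!
# Elementary symmetric functions of multisets, padding by zeros, injectivity
-/

universe u v w

open MvPolynomial Finset

namespace Groth.Agent.LambdaLib

variable {S : Type u} [CommRing S]

theorem esymm_cons_succ (a : S) (s : Multiset S) (k : ℕ) :
    (a ::ₘ s).esymm (k + 1) = s.esymm (k + 1) + a * s.esymm k := by
  simp [Multiset.esymm, Multiset.powersetCard_cons, Multiset.map_map, Function.comp_def, Multiset.sum_map_mul_left]

theorem esymm_zero' (s : Multiset S) : s.esymm 0 = 1 := by
  simp [Multiset.esymm]

theorem esymm_replicate_zero_add (m : ℕ) (s : Multiset S) (k : ℕ) :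
    (Multiset.replicate m (0 : S) + s).esymm k = s.esymm k := by
  induction m generalizing k with
  | zero => simp
  | succ m ih =>
    rw [Multiset.replicate_succ, Multiset.cons_add]
    rcases k with _ | k
    · simp [esymm_zero']
    · rw [esymm_cons_succ, ih]; simp

theorem map_esymm' {T : Type v} [CommRing T] (f : S →+* T) (s : Multiset S) (k : ℕ) :
    f (s.esymm k) = (s.map f).esymm k := by
  simp only [Multiset.esymm, map_multiset_sum, Multiset.powersetCard_map, Multiset.map_map, Function.comp_def,
    map_multiset_prod]

/-- the products `a b` -/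
def prodPairs (s t : Multiset S) : Multiset S := (s ×ˢ t).map fun p => p.1 * p.2

/-- the products over i-element sub-multisets -/
def prodSubs (i : ℕ) (s : Multiset S) : Multiset S := (s.powersetCard i).map Multiset.prod

theorem map_prodPairs {T : Type v} [CommRing T] (f : S →+* T) (s t : Multiset S) :
    (prodPairs s t).map f = prodPairs (s.map f) (t.map f) := by
  induction s using Multiset.induction with
  | empty => simp [prodPairs]
  | cons a s ih =>
    simp only [prodPairs, Multiset.cons_product, Multiset.map_add, Multiset.map_cons, Multiset.map_map,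
      Function.comp_def, map_mul] at ih ⊢
    rw [ih]

theorem map_prodSubs {T : Type v} [CommRing T] (f : S →+* T) (i : ℕ) (s : Multiset S) :
    (prodSubs i s).map f = prodSubs i (s.map f) := by
  simp [prodSubs, Multiset.powersetCard_map, Multiset.map_map, Function.comp_def, map_multiset_prod]

theorem exists_prodPairs_zero (m : ℕ) (s t : Multiset S) :
    ∃ l, prodPairs (Multiset.replicate m 0 + s) t = Multiset.replicate l 0 + prodPairs s t := by
  induction m with
  | zero => exact ⟨0, by simp⟩
  | succ m ih =>
    obtain ⟨l, hl⟩ := ih
    refine ⟨Multiset.card t + l, ?_⟩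
    rw [Multiset.replicate_succ, Multiset.cons_add]
    simp only [prodPairs, Multiset.cons_product, Multiset.map_add, Multiset.map_map, Function.comp_def] at hl ⊢
    rw [hl, Multiset.replicate_add, add_assoc]
    simp [Multiset.map_const']

theorem prodPairs_comm (s t : Multiset S) : prodPairs s t = prodPairs t s := by
  induction s using Multiset.induction with
  | empty => simp [prodPairs]
  | cons a s ih =>
    simp only [prodPairs] at ih ⊢
    rw [Multiset.cons_product, Multiset.product_cons, Multiset.map_add, Multiset.map_add, ih, Multiset.map_map,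
      Multiset.map_map]
    congr 1
    exact Multiset.map_congr rfl fun x _ => mul_comm a x

theorem esymm_prodPairs_zero (m m' : ℕ) (s t : Multiset S) (k : ℕ) :
    (prodPairs (Multiset.replicate m 0 + s) (Multiset.replicate m' 0 + t)).esymm k = (prodPairs s t).esymm k := by
  obtain ⟨l, hl⟩ := exists_prodPairs_zero m s (Multiset.replicate m' 0 + t)
  rw [hl, esymm_replicate_zero_add, prodPairs_comm]
  obtain ⟨l', hl'⟩ := exists_prodPairs_zero m' t s
  rw [hl', esymm_replicate_zero_add, prodPairs_comm]

theorem esymm_prodSubs_zero (m i : ℕ) (s : Multiset S) (k : ℕ) :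
    (prodSubs i (Multiset.replicate m 0 + s)).esymm k = (prodSubs i s).esymm k := by
  induction m with
  | zero => simp
  | succ m ih =>
    rw [Multiset.replicate_succ, Multiset.cons_add]
    rcases i with _ | i
    · simp [prodSubs]
    · rw [prodSubs, Multiset.powersetCard_cons, Multiset.map_add, Multiset.map_map, add_comm]
      have : (Multiset.powersetCard i (Multiset.replicate m (0 : S) + s)).map (Multiset.prod ∘ Multiset.cons 0) =
          Multiset.replicate (Multiset.card (Multiset.powersetCard i (Multiset.replicate m (0 : S) + s))) 0 := by
        simp [Function.comp_def, Multiset.map_const']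
      rw [this, esymm_replicate_zero_add]
      exact ih

theorem exists_fin_map (s : Multiset S) :
    ∃ x : Fin (Multiset.card s) → S, (univ : Finset (Fin (Multiset.card s))).val.map x = s := by
  induction s using Quotient.inductionOn with
  | _ l =>
    refine ⟨fun i => l[i.1]'(by simpa using i.2), ?_⟩
    change (univ : Finset (Fin l.length)).val.map (fun i => l[i.1]) = (l : Multiset S)
    simp [Fin.univ_def]

theorem aeval_isWeightedHomogeneous_component {σ : Type v} {τ : Type w} {R : Type*} [CommRing R] {M : Type*}
    [AddCommMonoid M] (W : σ → M) (W' : τ → M) (g : σ → MvPolynomial τ R)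
    (hg : ∀ i, IsWeightedHomogeneous W' (g i) (W i)) (Φ : MvPolynomial σ R) (m : M) :
    weightedHomogeneousComponent W' m (aeval g Φ) = aeval g (weightedHomogeneousComponent W m Φ) := by
  classical
  induction Φ using MvPolynomial.induction_on' with
  | monomial d c =>
    have hw := isWeightedHomogeneous_monomial W d c (m := Finsupp.weight W d) rfl
    have hh : IsWeightedHomogeneous W' (aeval g (monomial d c)) (Finsupp.weight W d) := by
      rw [aeval_monomial, Finsupp.weight_apply, Finsupp.sum, Finsupp.prod, ← zero_add (∑ i ∈ d.support, _),
        MvPolynomial.algebraMap_eq]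
      exact (isWeightedHomogeneous_C W' c).mul (IsWeightedHomogeneous.prod _ _ _ fun k _ => (hg k).pow _)
    rw [weightedHomogeneousComponent_of_mem hh, weightedHomogeneousComponent_of_mem hw]
    split_ifs <;> simp
  | add p q hp hq => rw [map_add, map_add, hp, hq, map_add, map_add]

open Classical in
/-- set the variables outside A to zero -/
noncomputable def keep {σ : Type v} {R : Type*} [CommRing R] (A : Finset σ) :
    MvPolynomial σ R →ₐ[R] MvPolynomial σ R :=
  aeval fun i => if i ∈ A then X i else 0

theorem coeff_keep {σ : Type v} {R : Type*} [CommRing R] (A : Finset σ) (p : MvPolynomial σ R) (s : σ →₀ ℕ)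
    (hs : s.support ⊆ A) : coeff s (keep A p) = coeff s p := by
  classical
  induction p using MvPolynomial.induction_on' with
  | monomial d c =>
    rw [keep, aeval_monomial, Finsupp.prod, MvPolynomial.algebraMap_eq]
    by_cases hd : d.support ⊆ A
    · rw [Finset.prod_congr rfl fun i hi => by rw [if_pos (hd hi)]]
      rw [MvPolynomial.monomial_eq, Finsupp.prod]
    · obtain ⟨i, hi, hiA⟩ := Finset.not_subset.mp hd
      rw [Finset.prod_eq_zero hi (by rw [if_neg hiA, zero_pow (Finsupp.mem_support_iff.mp hi)]), mul_zero, coeff_zero,
        coeff_monomial, if_neg]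
      rintro rfl
      exact hiA (hs hi)
  | add p q hp hq => rw [map_add, coeff_add, coeff_add, hp, hq]

/-- the pair of families of elementary symmetric polynomials -/
noncomputable def esymmPair (R : Type*) [CommRing R] (a b : ℕ) : Fin a ⊕ Fin b → MvPolynomial (Fin a ⊕ Fin b) R :=
  Sum.elim (fun k : Fin a => rename Sum.inl (esymm (Fin a) R ((k : ℕ) + 1)))
    (fun k : Fin b => rename Sum.inr (esymm (Fin b) R ((k : ℕ) + 1)))

theorem aeval_esymmPair_injective (R : Type*) [CommRing R] (a b : ℕ) :
    Function.Injective (aeval (R := R) (esymmPair R a b)) := by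
  set φ := aeval (R := R) fun k : Fin b => esymm (Fin b) R ((k : ℕ) + 1)
  set E := sumAlgEquiv R (Fin a) (Fin b)
  have hl : ∀ p : MvPolynomial (Fin a) R, E (rename Sum.inl p) = MvPolynomial.map C p := by
    intro p
    induction p using MvPolynomial.induction_on with
    | C r => simp [E]
    | add p q hp hq => simp [hp, hq]
    | mul_X p i hp => simp [hp, E]
  have hr : ∀ p : MvPolynomial (Fin b) R, E (rename Sum.inr p) = C p := by
    intro p
    induction p using MvPolynomial.induction_on with
    | C r => simp [E]
    | add p q hp hq => simp [hp, hq]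
    | mul_X p i hp => simp [hp, E]
  have key : ∀ p, E (aeval (esymmPair R a b) p) =
      aeval (fun k : Fin a => esymm (Fin a) (MvPolynomial (Fin b) R) ((k : ℕ) + 1)) (MvPolynomial.map φ.toRingHom (E p)) := by
    intro p
    induction p using MvPolynomial.induction_on with
    | C r => simp [E]
    | add p q hp hq => simp only [map_add, hp, hq]
    | mul_X p i hp =>
      simp only [map_mul, hp, aeval_X]
      congr 1
      rcases i with i | i
      · simp [esymmPair, E, hl, map_esymm]
      · simp [esymmPair, E, hr, φ]
  intro p q h
  have h' := congrArg E h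
  rw [key, key] at h'
  exact E.injective (map_injective φ.toRingHom (aeval_esymm_injective (by simp))
    (aeval_esymm_injective (by simp) h'))

theorem aeval_esymm_rename {σ : Type v} {τ : Type w} [Fintype σ] {R : Type*} [CommRing R] [Algebra R S] (x : τ → S)
    (f : σ → τ) (k : ℕ) :
    aeval x (rename f (esymm σ R k)) = ((univ : Finset σ).val.map (x ∘ f)).esymm k := by
  rw [aeval_rename, aeval_esymm_eq_multiset_esymm]

theorem univ_prod_map {σ : Type v} {τ : Type w} [Fintype σ] [Fintype τ] (x : σ → S) (y : τ → S) :
    ((univ : Finset (σ × τ)).val.map fun ab => x ab.1 * y ab.2) =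
      prodPairs ((univ : Finset σ).val.map x) ((univ : Finset τ).val.map y) := by
  rw [prodPairs, ← univ_product_univ, Finset.product_val]
  generalize (univ : Finset σ).val = s
  induction s using Multiset.induction with
  | empty => simp
  | cons a s ih =>
    rw [Multiset.cons_product, Multiset.map_add, ih, Multiset.map_cons, Multiset.cons_product, Multiset.map_add]
    congr 1
    simp [Multiset.map_map]

theorem univ_powerset_map {σ : Type v} [Fintype σ] (x : σ → S) (i : ℕ) :
    (((univ : Finset σ).powersetCard i).val.map fun t => ∏ a ∈ t, x a) =
      prodSubs i ((univ : Finset σ).val.map x) := by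
  rw [prodSubs, Multiset.powersetCard_map, Multiset.map_map, ← Finset.map_val_val_powersetCard, Multiset.map_map]
  rfl

end Groth.Agent.LambdaLib
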