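import Groth.Prelude.Def_LambdaSp
import Groth.Agent.LambdaLib.Basic

/-!
# The γ-filtration by ideals: reduction to additive generators
-/

universe u v

open Finset LambdaRing

namespace Groth.Agent.LambdaLib

variable {A : Type v} [CommRing A] [LambdaOps A]

theorem gammaFil_prod_mem {B : Type u} [CommRing B] (ε : A →+* B) {n : ℕ} (l : List (ℕ × A))
    (hl : ∀ p ∈ l, ε p.2 = 0) (hn : n ≤ (l.map Prod.fst).sum) :
    (l.map fun p => gamma p.1 p.2).prod ∈ gammaFil ε n := Ideal.subset_span ⟨l, hl, hn, rfl⟩

theorem gammaFil_eq_span_generators {K : Type u} [CommRing K] [Algebra K A] (ε : A →ₐ[K] K) (S : Set A)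
    (hS : AddSubgroup.closure S = ⊤) (n : ℕ) :
    (gammaFil (ε : A →+* K) n).restrictScalars K =
      Submodule.span K {y : A | ∃ l : List (ℕ × A), (∀ p ∈ l, p.2 ∈ S) ∧ n ≤ (l.map Prod.fst).sum ∧
        y = (l.map fun p => gamma p.1 (p.2 - algebraMap K A (ε p.2))).prod} := by
  set M : ℕ → Submodule K A := fun m => Submodule.span K {y : A | ∃ l : List (ℕ × A), (∀ p ∈ l, p.2 ∈ S) ∧
      m ≤ (l.map Prod.fst).sum ∧ y = (l.map fun p => gamma p.1 (p.2 - algebraMap K A (ε p.2))).prod}
  change _ = M n
  have hmul : ∀ (a b : ℕ) (x y : A), x ∈ M a → y ∈ M b → x * y ∈ M (a + b) := by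
    intro a b x y hx hy
    induction hx using Submodule.span_induction with
    | mem x hx =>
      obtain ⟨l, h1, h2, rfl⟩ := hx
      induction hy using Submodule.span_induction with
      | mem y hy =>
        obtain ⟨l', h1', h2', rfl⟩ := hy
        rw [← List.prod_append, ← List.map_append]
        exact Submodule.subset_span ⟨l ++ l', fun p hp => (List.mem_append.mp hp).elim (h1 p) (h1' p),
          by rw [List.map_append, List.sum_append]; omega, rfl⟩
      | zero => simp
      | add y z _ _ hy hz => rw [mul_add]; exact add_mem hy hz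
      | smul c y _ hy => rw [mul_smul_comm]; exact Submodule.smul_mem _ _ hy
    | zero => simp
    | add x z _ _ hx hz => rw [add_mul]; exact add_mem hx hz
    | smul c x _ hx => rw [smul_mul_assoc]; exact Submodule.smul_mem _ _ hx
  have hanti : ∀ {a b : ℕ}, a ≤ b → M b ≤ M a := fun h => Submodule.span_mono
    fun y ⟨l, h1, h2, h3⟩ => ⟨l, h1, h.trans h2, h3⟩
  have hone : (1 : A) ∈ M 0 := Submodule.subset_span ⟨[], by simp, by simp, by simp⟩
  have hgamma : ∀ x : A, ∀ i : ℕ, gamma i (x - algebraMap K A (ε x)) ∈ M i := by
    intro x
    have hx : x ∈ AddSubgroup.closure S := by rw [hS]; trivial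
    induction hx using AddSubgroup.closure_induction with
    | mem x hx => exact fun i => Submodule.subset_span ⟨[(i, x)], by simpa using hx, by simp, by simp⟩
    | zero =>
      intro i
      rcases i with _ | i
      · rw [gamma_zero]; exact hone
      · simp [gamma_apply_zero]
    | add x y _ _ hx hy =>
      intro i
      rw [map_add, map_add, add_sub_add_comm, gamma_add]
      refine sum_mem fun k hk => ?_
      have := hmul k (i - k) _ _ (hx k) (hy (i - k))
      rwa [Nat.add_sub_cancel' (by simpa [Nat.lt_succ_iff] using hk)] at this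
    | neg x _ hx =>
      intro i
      induction i using Nat.strong_induction_on with
      | _ i ih =>
        rcases i with _ | i
        · rw [gamma_zero]; exact hone
        have h := gamma_add (i + 1) (-x - algebraMap K A (ε (-x))) (x - algebraMap K A (ε x))
        rw [show (-x - algebraMap K A (ε (-x))) + (x - algebraMap K A (ε x)) = 0 by rw [map_neg, map_neg]; ring,
          gamma_apply_zero _ (by omega), Finset.sum_range_succ, Nat.sub_self, gamma_zero, mul_one, eq_comm,
          add_eq_zero_iff_neg_eq] at h
        rw [← h]
        refine neg_mem (sum_mem fun k hk => ?_)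
        rw [Finset.mem_range] at hk
        have := hmul k (i + 1 - k) _ _ (ih k hk) (hx (i + 1 - k))
        rwa [Nat.add_sub_cancel' hk.le] at this
  apply le_antisymm
  · intro y hy
    rw [Submodule.restrictScalars_mem] at hy
    induction hy using Submodule.span_induction with
    | mem y hy =>
      obtain ⟨l, h1, h2, rfl⟩ := hy
      refine hanti h2 ?_
      clear h2
      induction l with
      | nil => exact hone
      | cons p l ih =>
        simp only [List.map_cons, List.prod_cons, List.sum_cons]
        refine hmul _ _ _ _ ?_ (ih fun q hq => h1 q (List.mem_cons_of_mem p hq))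
        have hp : ε p.2 = 0 := h1 p List.mem_cons_self
        simpa [hp] using hgamma p.2 p.1
    | zero => exact zero_mem _
    | add x z _ _ hx hz => exact add_mem hx hz
    | smul a x _ hx =>
      rw [smul_eq_mul, show a * x = (a - algebraMap K A (ε a)) * x + ε a • x by rw [Algebra.smul_def]; ring]
      refine add_mem ?_ (Submodule.smul_mem _ _ hx)
      have := hmul 1 n _ _ (by simpa using hgamma a 1) hx
      exact hanti (by omega) this
  · refine Submodule.span_le.mpr ?_
    rintro y ⟨l, h1, h2, rfl⟩
    refine Ideal.subset_span ⟨l.map fun p => (p.1, p.2 - algebraMap K A (ε p.2)), ?_, by simpa [Function.comp_def] using h2,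
      by simp [Function.comp_def]⟩
    intro q hq
    obtain ⟨p, -, rfl⟩ := List.mem_map.mp hq
    simp

end Groth.Agent.LambdaLib
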