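import Groth.Agent.LambdaLib.GammaUni
import Groth.Agent.LambdaLib.GammaFil

/-!
# γ-filtrations of special λ-rings
-/

universe u v

open Finset LambdaRing MvPolynomial
open scoped TensorProduct

namespace Groth.Agent.LambdaLib

/-! ### change between λ and γ -/

section vals

variable {S : Type u} [CommRing S] {T : Type v} [CommRing T]

/-- the γ-coefficients from the λ-coefficients -/
def gamOf (f : ℕ → S) (r : ℕ) : S :=
  if r = 0 then 1 else ∑ n ∈ range (r + 1), (Nat.choose (r - 1) (n - 1) : S) * (if n = 0 then 0 else f n)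

/-- the λ-coefficients from the γ-coefficients -/
def lamOf (g : ℕ → S) (l : ℕ) : S :=
  if l = 0 then 1 else ∑ j ∈ range (l + 1), g j * ((-1) ^ (l - j) * (Nat.choose (l - 1) (l - j) : S))

/-- λ^l(y + (j-1)) from λ^•(y) -/
def shiftLam (f : ℕ → S) (j l : ℕ) : S := ∑ a ∈ range (l + 1), f a * (Nat.choose (j - 1) (l - a) : S)

theorem map_gamOf (φ : S →+* T) (f : ℕ → S) (r : ℕ) : φ (gamOf f r) = gamOf (fun i => φ (f i)) r := by
  unfold gamOf
  split_ifs
  · exact map_one φ
  · rw [map_sum]
    exact Finset.sum_congr rfl fun n _ => by split_ifs <;> simp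

theorem gamOf_congr {f f' : ℕ → S} (r : ℕ) (h : ∀ n, 1 ≤ n → n ≤ r → f n = f' n) : gamOf f r = gamOf f' r := by
  unfold gamOf
  split_ifs
  · rfl
  · refine Finset.sum_congr rfl fun n hn => ?_
    rw [Finset.mem_range] at hn
    split_ifs with h0
    · rfl
    · rw [h n (by omega) (by omega)]

theorem map_lamOf (φ : S →+* T) (g : ℕ → S) (l : ℕ) : φ (lamOf g l) = lamOf (fun i => φ (g i)) l := by
  unfold lamOf
  split_ifs
  · exact map_one φ
  · simp [map_sum]

theorem lamOf_congr {g g' : ℕ → S} (l : ℕ) (h : ∀ n, n ≤ l → g n = g' n) : lamOf g l = lamOf g' l := by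
  unfold lamOf
  split_ifs
  · rfl
  · exact Finset.sum_congr rfl fun n hn => by rw [h n (by rw [Finset.mem_range] at hn; omega)]

theorem map_shiftLam (φ : S →+* T) (f : ℕ → S) (j l : ℕ) : φ (shiftLam f j l) = shiftLam (fun i => φ (f i)) j l := by
  simp [shiftLam, map_sum]

theorem shiftLam_congr {f f' : ℕ → S} (j l : ℕ) (h : ∀ n, n ≤ l → f n = f' n) : shiftLam f j l = shiftLam f' j l :=
  Finset.sum_congr rfl fun n hn => by rw [h n (by rw [Finset.mem_range] at hn; omega)]

theorem coeff_one_sub_X_pow (m i : ℕ) :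
    PowerSeries.coeff i ((1 - PowerSeries.X) ^ m : PowerSeries S) = (-1) ^ i * (m.choose i : S) := by
  rw [show ((1 - PowerSeries.X) ^ m : PowerSeries S) = PowerSeries.rescale (-1) ((1 + PowerSeries.X) ^ m) by
    rw [map_pow, map_add, map_one, PowerSeries.rescale_X, map_neg, map_one, neg_one_mul, ← sub_eq_add_neg],
    PowerSeries.coeff_rescale, coeff_one_add_X_pow]

theorem coeff_subst_tq (f : PowerSeries S) (hf : PowerSeries.constantCoeff f = 1) (r : ℕ) :
    PowerSeries.coeff r (PowerSeries.subst (tq S) f) = gamOf (fun n => PowerSeries.coeff n f) r := by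
  rw [PowerSeries.coeff_subst' hasSubst_tq, finsum_eq_sum_of_support_subset _ (s := range (r + 1))]
  swap
  · intro d hd
    simp only [Function.mem_support] at hd
    rw [Finset.coe_range, Set.mem_Iio]
    by_contra hk
    apply hd
    rw [tq, mul_pow, PowerSeries.coeff_X_pow_mul', if_neg (by omega), smul_zero]
  rcases r with _ | r
  · simp [gamOf, hf]
  rw [gamOf, if_neg (by omega)]
  refine Finset.sum_congr rfl fun j hj => ?_
  rw [Finset.mem_range] at hj
  rw [tq, mul_pow, PowerSeries.coeff_X_pow_mul', if_pos (by omega), smul_eq_mul]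
  rcases j with _ | j
  · simp [PowerSeries.coeff_one]
  · rw [PowerSeries.mk_one_pow_eq_mk_choose_add, PowerSeries.coeff_mk, if_neg (by omega), mul_comm]
    congr 3 <;> omega

/-- chosen P_n -/
noncomputable def pPoly (n : ℕ) : MvPolynomial (Fin n ⊕ Fin n) ℤ := (exists_isMulPoly n).choose

/-- chosen Q_{i,j} -/
noncomputable def qPoly (i j : ℕ) : MvPolynomial (Fin (i * j)) ℤ := (exists_isCompPoly i j).choose

theorem isMulPoly_pPoly (n : ℕ) : IsMulPoly n (pPoly n) := (exists_isMulPoly n).choose_spec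

theorem isCompPoly_qPoly (i j : ℕ) : IsCompPoly i j (qPoly i j) := (exists_isCompPoly i j).choose_spec

/-- λ^n(γ^j x) from the γ^•(x) -/
noncomputable def lamGammaVal (g : ℕ → S) (j n : ℕ) : S :=
  aeval (fun k : Fin (j * n) => shiftLam (lamOf g) j ((k : ℕ) + 1)) (qPoly j n)

/-- γ^p(y z) from γ^•(y), γ^•(z) -/
noncomputable def gammaMulVal (g h : ℕ → S) (p : ℕ) : S :=
  gamOf (fun n => aeval (Sum.elim (fun k : Fin n => lamOf g ((k : ℕ) + 1)) fun k : Fin n => lamOf h ((k : ℕ) + 1))
    (pPoly n)) p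

theorem map_lamGammaVal (φ : S →+* T) (g : ℕ → S) (j n : ℕ) :
    φ (lamGammaVal g j n) = lamGammaVal (fun i => φ (g i)) j n := by
  simp only [lamGammaVal, map_aeval_int (iT := (inferInstance : Algebra ℤ T)), map_shiftLam, map_lamOf]

theorem lamGammaVal_congr {g g' : ℕ → S} (j n : ℕ) (h : ∀ i, i ≤ j * n → g i = g' i) :
    lamGammaVal g j n = lamGammaVal g' j n :=
  congrArg (fun v => aeval v (qPoly j n)) (funext fun k => shiftLam_congr j _ fun a ha =>
    lamOf_congr a fun i hi => h i (by have := k.2; omega))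

theorem map_gammaMulVal (φ : S →+* T) (g h : ℕ → S) (p : ℕ) :
    φ (gammaMulVal g h p) = gammaMulVal (fun i => φ (g i)) (fun i => φ (h i)) p := by
  simp only [gammaMulVal, map_gamOf, map_aeval_int (iT := (inferInstance : Algebra ℤ T))]
  refine gamOf_congr p fun n _ _ => congrArg (fun v => aeval v (pPoly n)) (funext fun k => ?_)
  rcases k with k | k <;> simp [map_lamOf]

theorem gammaMulVal_congr {g g' h h' : ℕ → S} (p : ℕ) (hg : ∀ i, i ≤ p → g i = g' i) (hh : ∀ i, i ≤ p → h i = h' i) :
    gammaMulVal g h p = gammaMulVal g' h' p :=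
  gamOf_congr p fun n _ hn => congrArg (fun v => aeval v (pPoly n)) (funext fun k => by
    rcases k with k | k <;>
      · simp only [Sum.elim_inl, Sum.elim_inr]
        refine lamOf_congr _ fun i hi => ?_
        first
          | exact hg i (by have := k.2; omega)
          | exact hh i (by have := k.2; omega))

/-- generic γ-coefficients -/
noncomputable def genG {ι : Type} (N : ℕ) (e : Fin N → ι) (j : ℕ) : MvPolynomial ι ℤ :=
  if j = 0 then 1 else if h : j - 1 < N then X (e ⟨j - 1, h⟩) else 0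

theorem map_genG {ι : Type} {N : ℕ} {e : Fin N → ι} (φ : MvPolynomial ι ℤ →+* S) {g : ℕ → S} (h0 : g 0 = 1)
    (h : ∀ i : Fin N, φ (X (e i)) = g ((i : ℕ) + 1)) {j : ℕ} (hj : j ≤ N) : φ (genG N e j) = g j := by
  rcases j with _ | j
  · simp [genG, h0]
  · rw [genG, if_neg (by omega), dif_pos (show j + 1 - 1 < N by omega), h]
    simp

end vals

variable {A : Type u} [CommRing A] [LambdaOps A]

theorem gamma_eq_gamOf (r : ℕ) (x : A) : gamma r x = gamOf (fun n => LambdaOps.lam n x) r := rfl

theorem lam_eq_lamOf (h1 : ∀ k : ℕ, 2 ≤ k → LambdaOps.lam k (1 : A) = 0) (l : ℕ) (x : A) :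
    LambdaOps.lam l x = lamOf (fun j => gamma j x) l := by
  rcases l with _ | l
  · simp [lamOf, LambdaOps.lam_zero]
  have h := gamma_eq_lam_add_sub_one h1 (l + 1) (x - (l : A))
  rw [show x - (l : A) + ((l + 1 : ℕ) : A) - 1 = x by push_cast; ring] at h
  rw [← h, ← coeff_gammaSeries, gammaSeries_sub_natCast h1, PowerSeries.coeff_mul,
    Finset.Nat.sum_antidiagonal_eq_sum_range_succ_mk, lamOf, if_neg (by omega)]
  exact Finset.sum_congr rfl fun j _ => by rw [coeff_gammaSeries, coeff_one_sub_X_pow]; rfl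

theorem lam_gamma_eq (hA : IsSpecial A) {j : ℕ} (hj : 1 ≤ j) (n : ℕ) (x : A) :
    LambdaOps.lam n (gamma j x) = lamGammaVal (fun i => gamma i x) j n := by
  rw [gamma_eq_lam_add_sub_one hA.lam_one_eq_zero, hA.lam_lam j n _ (isCompPoly_qPoly j n), lamGammaVal]
  refine congrArg (fun v => aeval v (qPoly j n)) (funext fun k => ?_)
  rw [show x + (j : A) - 1 = x + ((j - 1 : ℕ) : A) by rw [Nat.cast_sub hj, Nat.cast_one]; ring, LambdaOps.lam_add,
    shiftLam]
  exact Finset.sum_congr rfl fun a _ => by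
    rw [lam_natCast hA.lam_one_eq_zero, lam_eq_lamOf hA.lam_one_eq_zero a x]

theorem gamma_mul_eq (hA : IsSpecial A) (p : ℕ) (y z : A) :
    gamma p (y * z) = gammaMulVal (fun i => gamma i y) (fun i => gamma i z) p := by
  rw [gamma_eq_gamOf, gammaMulVal]
  refine gamOf_congr p fun n _ _ => ?_
  rw [hA.lam_mul n _ (isMulPoly_pPoly n)]
  refine congrArg (fun v => aeval v (pPoly n)) (funext fun k => ?_)
  rcases k with k | k <;> simp [← lam_eq_lamOf hA.lam_one_eq_zero]

/-! ### transfer -/

theorem esymm_cast {σ : Type} [Fintype σ] (k : ℕ) :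
    MvPolynomial.map (Int.castRingHom ℚ) (esymm σ ℤ k) = esymm σ ℚ k := map_esymm σ ℤ k _

theorem gamma_uni_genG {N : ℕ} {ι σ : Type} {e : Fin N → ι} {g : ι → MvPolynomial σ ℤ} (f : Fin N → σ)
    (hge : ∀ k, g (e k) = rename f (esymm (Fin N) ℤ ((k : ℕ) + 1))) {j : ℕ} (hj : j ≤ N) :
    MvPolynomial.map (Int.castRingHom ℚ) (aeval g (genG N e j)) =
      @gamma _ _ (uniOps σ) j (∑ i, X (f i) : MvPolynomial σ ℚ) := by
  refine map_genG ((MvPolynomial.map (Int.castRingHom ℚ)).comp (aeval g).toRingHom)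
    (g := fun j => @gamma _ _ (uniOps σ) j (∑ i, X (f i) : MvPolynomial σ ℚ)) (@gamma_zero _ _ (uniOps σ) _) ?_ hj
  intro k
  rw [RingHom.comp_apply, AlgHom.toRingHom_eq_coe, RingHom.coe_coe, aeval_X, hge, gamma_sum_X, map_rename, esymm_cast]

theorem bound_one (𝔉 : IdealFil A) {x : A} (hx : x ∈ gammaBound 𝔉) (N d : ℕ) (Φ : MvPolynomial (Fin N) ℤ)
    (hΦ : MvPolynomial.map (Int.castRingHom ℚ) (aeval (fun k : Fin N => esymm (Fin N) ℤ ((k : ℕ) + 1)) Φ) ∈
      idealOfVars (Fin N) ℚ ^ d) :
    aeval (fun k : Fin N => gamma ((k : ℕ) + 1) x) Φ ∈ 𝔉.F d :=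
  𝔉.aeval_mem (w := esWeight N) (fun k => hx _) (weight_ge_of_aeval_mem (W := esWeight N)
    (fun k => esymm_isHomogeneous' ((k : ℕ) + 1)) (aeval_esymm_injective (by simp)) hΦ)

theorem gamma_gamma_bounds (hA : IsSpecial A) (𝔉 : IdealFil A) {x : A} (hx : x ∈ gammaBound 𝔉) {j : ℕ} (hj : 1 ≤ j) :
    Good 𝔉 j (gamma j x) ∧ gamma j x ∈ gammaBound 𝔉 := by
  have key : ∀ (N : ℕ), ∀ i, i ≤ N → aeval (fun k : Fin N => gamma ((k : ℕ) + 1) x) (genG N id i) = gamma i x :=
    fun N i hi => map_genG (aeval fun k : Fin N => gamma ((k : ℕ) + 1) x).toRingHom (g := fun i => gamma i x)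
      (gamma_zero x) (fun k => by simp) hi
  have hu : ∀ {σ : Type} [Fintype σ] (i : ℕ), @gamma _ _ (uniOps σ) i (∑ a, X a : MvPolynomial σ ℚ) = esymm σ ℚ i := by
    intro σ _ i
    have h := gamma_sum_X (σ := σ) id i
    simpa using h
  refine ⟨⟨hx j, fun n hn => ?_⟩, fun r => ?_⟩
  · set N := j * n with hN
    set Φ : MvPolynomial (Fin N) ℤ := lamGammaVal (genG N id) j n - (leadC j n : MvPolynomial (Fin N) ℤ) * genG N id j
    have hjN : j ≤ N := Nat.le_mul_of_pos_right j (by omega)
    have hval : aeval (fun k : Fin N => gamma ((k : ℕ) + 1) x) Φ =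
        LambdaOps.lam n (gamma j x) - (leadC j n : A) * gamma j x := by
      rw [map_sub, map_mul, map_intCast, key N j hjN, lam_gamma_eq hA hj]
      congr 1
      change (aeval fun k : Fin N => gamma ((k : ℕ) + 1) x).toRingHom _ = _
      rw [map_lamGammaVal]
      exact lamGammaVal_congr j n fun i hi => key N i hi
    rw [← hval]
    refine bound_one 𝔉 hx N (j + 1) Φ ?_
    letI := uniOps (Fin N)
    have hgen : ∀ i, i ≤ N → MvPolynomial.map (Int.castRingHom ℚ)
        (aeval (fun k : Fin N => esymm (Fin N) ℤ ((k : ℕ) + 1)) (genG N id i)) =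
        gamma i (∑ a, X a : MvPolynomial (Fin N) ℚ) := fun i hi => by
      simpa using gamma_uni_genG (e := id) (g := fun k : Fin N => esymm (Fin N) ℤ ((k : ℕ) + 1)) id
        (fun k => by simp) hi
    rw [map_sub, map_mul, map_intCast, map_sub, map_mul, map_intCast, hgen j hjN]
    have h2 : MvPolynomial.map (Int.castRingHom ℚ) (aeval (fun k : Fin N => esymm (Fin N) ℤ ((k : ℕ) + 1))
        (lamGammaVal (genG N id) j n)) = LambdaOps.lam n (gamma j (∑ a, X a : MvPolynomial (Fin N) ℚ)) := by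
      rw [lam_gamma_eq isSpecial_uni hj]
      change ((MvPolynomial.map (Int.castRingHom ℚ)).comp (aeval fun k : Fin N => esymm (Fin N) ℤ ((k : ℕ) + 1)).toRingHom) _ = _
      rw [map_lamGammaVal]
      exact lamGammaVal_congr j n fun i hi => hgen i hi
    rw [h2, hu]
    exact (good_esymm hj).lam n hn
  · rcases Nat.eq_zero_or_pos r with rfl | hr
    · exact 𝔉.mem_zero _
    set N := j * r with hN
    set Φ : MvPolynomial (Fin N) ℤ := gamOf (fun n => lamGammaVal (genG N id) j n) r
    have hval : aeval (fun k : Fin N => gamma ((k : ℕ) + 1) x) Φ = gamma r (gamma j x) := by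
      change (aeval fun k : Fin N => gamma ((k : ℕ) + 1) x).toRingHom _ = _
      rw [gamma_eq_gamOf r (gamma j x), map_gamOf]
      refine gamOf_congr r fun n _ hn => ?_
      rw [map_lamGammaVal, lam_gamma_eq hA hj]
      exact lamGammaVal_congr j n fun i hi => key N i (hi.trans (Nat.mul_le_mul_left j hn))
    rw [← hval]
    refine bound_one 𝔉 hx N r Φ ?_
    letI := uniOps (Fin N)
    have hgen : ∀ i, i ≤ N → MvPolynomial.map (Int.castRingHom ℚ)
        (aeval (fun k : Fin N => esymm (Fin N) ℤ ((k : ℕ) + 1)) (genG N id i)) =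
        gamma i (∑ a, X a : MvPolynomial (Fin N) ℚ) := fun i hi => by
      simpa using gamma_uni_genG (e := id) (g := fun k : Fin N => esymm (Fin N) ℤ ((k : ℕ) + 1)) id
        (fun k => by simp) hi
    have h2 : MvPolynomial.map (Int.castRingHom ℚ) (aeval (fun k : Fin N => esymm (Fin N) ℤ ((k : ℕ) + 1)) Φ) =
        gamma r (gamma j (∑ a, X a : MvPolynomial (Fin N) ℚ)) := by
      change ((MvPolynomial.map (Int.castRingHom ℚ)).comp (aeval fun k : Fin N => esymm (Fin N) ℤ ((k : ℕ) + 1)).toRingHom) _ = _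
      rw [gamma_eq_gamOf r (gamma j _), map_gamOf]
      refine gamOf_congr r fun n _ hn => ?_
      rw [map_lamGammaVal, lam_gamma_eq isSpecial_uni hj]
      exact lamGammaVal_congr j n fun i hi => hgen i (hi.trans (Nat.mul_le_mul_left j hn))
    rw [h2, hu, MvPolynomial.esymm]
    refine (lineDiffs_le_gammaBound (σ := Fin N)) (sum_mem fun t ht => ?_) r
    have hne : t.Nonempty := Finset.card_pos.mp (by rw [(Finset.mem_powersetCard.mp ht).2]; omega)
    exact Finset.prod_induction_nonempty _ (· ∈ lineDiffs (Fin N)) (fun a b => mul_mem_lineDiffs) hne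
      fun i _ => X_mem_lineDiffs i

theorem mul_mem_gammaBound (hA : IsSpecial A) (𝔉 : IdealFil A) {y z : A} (hy : y ∈ gammaBound 𝔉)
    (hz : z ∈ gammaBound 𝔉) : y * z ∈ gammaBound 𝔉 := by
  intro p
  set gG : ℕ → MvPolynomial (Fin p ⊕ Fin p) ℤ := genG p Sum.inl
  set gH : ℕ → MvPolynomial (Fin p ⊕ Fin p) ℤ := genG p Sum.inr
  set v : Fin p ⊕ Fin p → A := Sum.elim (fun k : Fin p => gamma ((k : ℕ) + 1) y) fun k : Fin p => gamma ((k : ℕ) + 1) z
  have hval : aeval v (gammaMulVal gG gH p) = gamma p (y * z) := by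
    change (aeval v).toRingHom _ = _
    rw [map_gammaMulVal, gamma_mul_eq hA]
    exact gammaMulVal_congr p (fun i hi => map_genG _ (g := fun i => gamma i y) (gamma_zero y) (fun k => by simp [v]) hi)
      (fun i hi => map_genG _ (g := fun i => gamma i z) (gamma_zero z) (fun k => by simp [v]) hi)
  rw [← hval]
  set W : Fin p ⊕ Fin p → ℕ := Sum.elim (fun k => (k : ℕ) + 1) fun k => (k : ℕ) + 1
  refine 𝔉.aeval_mem (w := W) (by rintro (k | k); exacts [hy _, hz _])
    (weight_ge_of_aeval_mem (W := W) (g := esymmPair ℤ p p) ?_ (aeval_esymmPair_injective ℤ p p) ?_)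
  · rintro (k | k)
    · simpa [esymmPair, W] using esymm_weighted (R := ℤ) (fun _ : Fin p ⊕ Fin p => (1 : ℕ)) 1 Sum.inl (fun _ => rfl) ((k : ℕ) + 1)
    · simpa [esymmPair, W] using esymm_weighted (R := ℤ) (fun _ : Fin p ⊕ Fin p => (1 : ℕ)) 1 Sum.inr (fun _ => rfl) ((k : ℕ) + 1)
  letI := uniOps (Fin p ⊕ Fin p)
  have h2 : MvPolynomial.map (Int.castRingHom ℚ) (aeval (esymmPair ℤ p p) (gammaMulVal gG gH p)) =
      gamma p ((∑ a : Fin p, X (Sum.inl a)) * (∑ a : Fin p, X (Sum.inr a)) : MvPolynomial (Fin p ⊕ Fin p) ℚ) := by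
    change ((MvPolynomial.map (Int.castRingHom ℚ)).comp (aeval (esymmPair ℤ p p)).toRingHom) _ = _
    rw [map_gammaMulVal, gamma_mul_eq isSpecial_uni]
    exact gammaMulVal_congr p (fun i hi => gamma_uni_genG (e := Sum.inl) (g := esymmPair ℤ p p) Sum.inl (fun k => rfl) hi)
      (fun i hi => gamma_uni_genG (e := Sum.inr) (g := esymmPair ℤ p p) Sum.inr (fun k => rfl) hi)
  rw [h2]
  exact lineDiffs_le_gammaBound (mul_mem_lineDiffs (sum_mem fun a _ => X_mem_lineDiffs _) (sum_mem fun a _ => X_mem_lineDiffs _)) p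

/-! ### scalars -/

theorem pow_series_eq_mulPoly {S : Type u} [CommRing S] (n a : ℕ) (f : PowerSeries S)
    (hf : PowerSeries.constantCoeff f = 1) :
    aeval (Sum.elim (fun k : Fin n => (Nat.choose a ((k : ℕ) + 1) : S)) fun k : Fin n => PowerSeries.coeff ((k : ℕ) + 1) f)
      (pPoly n) = PowerSeries.coeff n (f ^ a) := by
  set g : PowerSeries (MvPolynomial (Fin n) ℤ) := genS ℤ n id
  have key : ∀ {T : Type u} [CommRing T] (φ : MvPolynomial (Fin n) ℤ →+* T) {b : PowerSeries T},
      PowerSeries.constantCoeff b = 1 → (∀ i : Fin n, φ (X i) = PowerSeries.coeff ((i : ℕ) + 1) b) →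
      φ (aeval (Sum.elim (fun k : Fin n => (Nat.choose a ((k : ℕ) + 1) : MvPolynomial (Fin n) ℤ))
        fun k : Fin n => X k) (pPoly n) - PowerSeries.coeff n (g ^ a)) =
      aeval (Sum.elim (fun k : Fin n => (Nat.choose a ((k : ℕ) + 1) : T)) fun k : Fin n => PowerSeries.coeff ((k : ℕ) + 1) b)
        (pPoly n) - PowerSeries.coeff n (b ^ a) := by
    intro T _ φ b hb hl
    rw [map_sub, map_aeval_int (iT := (inferInstance : Algebra ℤ T)), ← PowerSeries.coeff_map, map_pow]
    congr 1
    · refine congrArg (fun v => aeval v (pPoly n)) (funext fun k => ?_)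
      rcases k with k | k <;> simp [hl]
    · obtain ⟨w, hw⟩ : (PowerSeries.X : PowerSeries T) ^ (n + 1) ∣ PowerSeries.map φ g - b := by
        refine PowerSeries.X_pow_dvd_iff.mpr fun i hi => ?_
        rw [map_sub, sub_eq_zero, PowerSeries.coeff_map]
        rcases i with _ | i
        · simp [g, genS, hb]
        · simp only [g, genS, PowerSeries.coeff_mk, Nat.succ_ne_zero, if_false, Nat.add_sub_cancel, id_eq]
          rw [dif_pos (show i < n by omega), hl]
      have h3 := (dvd_trans ⟨w, hw⟩ (sub_dvd_pow_sub_pow (PowerSeries.map φ g) b a) :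
        (PowerSeries.X : PowerSeries T) ^ (n + 1) ∣ PowerSeries.map φ g ^ a - b ^ a)
      have h4 := PowerSeries.X_pow_dvd_iff.mp h3 n (by omega)
      rwa [map_sub, sub_eq_zero] at h4
  have hzero : aeval (Sum.elim (fun k : Fin n => (Nat.choose a ((k : ℕ) + 1) : MvPolynomial (Fin n) ℤ))
      fun k : Fin n => X k) (pPoly n) - PowerSeries.coeff n (g ^ a) = 0 := by
    apply aeval_esymm_injective (σ := Fin n) (R := ℤ) (n := n) (by simp)
    rw [map_zero]
    set s := (univ : Finset (Fin n)).val.map fun b => (X b : MvPolynomial (Fin n) ℤ)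
    have hinj : Function.Injective (MvPolynomial.map (σ := Fin n) (ULift.ringEquiv.{0, u} : ULift.{u} ℤ ≃+* ℤ).symm.toRingHom) :=
      map_injective _ (RingEquiv.injective _)
    apply hinj
    rw [map_zero]
    refine (key ((MvPolynomial.map (ULift.ringEquiv.{0, u} : ULift.{u} ℤ ≃+* ℤ).symm.toRingHom).comp
      (aeval fun l : Fin n => MvPolynomial.esymm (Fin n) ℤ ((l : ℕ) + 1)).toRingHom)
      (constantCoeff_rootSeries ((univ : Finset (Fin n)).val.map fun b => (X b : MvPolynomial (Fin n) (ULift.{u} ℤ))))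
      fun i => ?_).trans ?_
    · rw [RingHom.comp_apply, AlgHom.toRingHom_eq_coe, RingHom.coe_coe, aeval_X, coeff_rootSeries, map_esymm,
        esymm_eq_multiset_esymm]
    · set t := (univ : Finset (Fin n)).val.map fun b => (X b : MvPolynomial (Fin n) (ULift.{u} ℤ))
      clear_value t
      have h := mulPoly_eval (isMulPoly_pPoly n) (Multiset.replicate a (1 : MvPolynomial (Fin n) (ULift.{u} ℤ))) t
      simp only [esymm_replicate_one] at h
      simp only [coeff_rootSeries]
      rw [h, sub_eq_zero]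
      have hpow : ∀ a : ℕ, rootSeries t ^ a = rootSeries (prodPairs (Multiset.replicate a 1) t) := by
        intro a
        induction a with
        | zero => simp [rootSeries, prodPairs]
        | succ a ih =>
          rw [pow_succ, ih, Multiset.replicate_succ, prodPairs, prodPairs, Multiset.cons_product, Multiset.map_add,
            rootSeries, rootSeries, rootSeries, Multiset.map_add, Multiset.prod_add, mul_comm]
          congr 1
          simp [Multiset.map_map]
      rw [hpow, coeff_rootSeries]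
  have hfinal := key (eval₂Hom (algebraMap ℤ S) fun i : Fin n => PowerSeries.coeff ((i : ℕ) + 1) f) hf (fun i => by simp)
  rw [hzero, map_zero] at hfinal
  exact sub_eq_zero.mp hfinal.symm

theorem coeff_pow_sum {S : Type*} [CommRing S] (n a : ℕ) (f : PowerSeries S) (hf : PowerSeries.constantCoeff f = 1) :
    PowerSeries.coeff n (f ^ a) = ∑ j ∈ range (n + 1), (Nat.choose a j : S) * PowerSeries.coeff n ((f - 1) ^ j) := by
  conv_lhs => rw [show f = (f - 1) + 1 by ring, add_pow]
  simp only [one_pow, mul_one, map_sum]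
  rw [Finset.sum_congr rfl fun j _ => (by rw [mul_comm, ← map_natCast (PowerSeries.C (R := S)), PowerSeries.coeff_C_mul] :
    PowerSeries.coeff n ((f - 1) ^ j * (Nat.choose a j : PowerSeries S)) = (Nat.choose a j : S) * PowerSeries.coeff n ((f - 1) ^ j))]
  obtain ⟨g, hg⟩ : PowerSeries.X ∣ f - 1 := by rw [PowerSeries.X_dvd_iff]; simp [hf]
  rw [Finset.sum_subset (Finset.range_mono (show a + 1 ≤ max a n + 1 by omega)),
    ← Finset.sum_subset (Finset.range_mono (show n + 1 ≤ max a n + 1 by omega))]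
  · intro j _ hj
    rw [Finset.mem_range] at hj
    rw [hg, mul_pow, PowerSeries.coeff_X_pow_mul', if_neg (by omega), mul_zero]
  · intro j _ hj
    rw [Finset.mem_range] at hj
    rw [Nat.choose_eq_zero_of_lt (by omega), Nat.cast_zero, zero_mul]

theorem pPoly_choose_series_aux {K : Type u} [CommRing K] [BinomialRing K] {L : Type u} [CommRing L] [Algebra ℚ L]
    (ι : K →+* L) (hι : Function.Injective ι) (n : ℕ) (k : K) :
    aeval (Sum.elim (fun i : Fin n => MvPolynomial.C (Ring.choose k ((i : ℕ) + 1)))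
        fun i : Fin n => (X i : MvPolynomial (Fin n) K)) (pPoly n) =
      ∑ j ∈ range (n + 1), MvPolynomial.C (Ring.choose k j) * PowerSeries.coeff n ((genS K n id - 1) ^ j) := by
  letI : Module ℚ≥0 L := Module.compHom L (algebraMap ℚ≥0 ℚ)
  letI : Module ℚ≥0 (Polynomial (MvPolynomial (Fin n) ℚ)) :=
    Module.compHom (Polynomial (MvPolynomial (Fin n) ℚ)) (algebraMap ℚ≥0 ℚ)
  set q : Polynomial (MvPolynomial (Fin n) ℚ) :=
    aeval (Sum.elim (fun i : Fin n => Ring.choose (Polynomial.X : Polynomial (MvPolynomial (Fin n) ℚ)) ((i : ℕ) + 1))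
        fun i : Fin n => Polynomial.C (X i)) (pPoly n) -
      ∑ j ∈ range (n + 1), Ring.choose (Polynomial.X : Polynomial (MvPolynomial (Fin n) ℚ)) j *
        Polynomial.C (PowerSeries.coeff n ((genS ℚ n id - 1) ^ j))
  have hq : q = 0 := by
    letI : Module ℚ≥0 (MvPolynomial (Fin n) ℚ) := Module.compHom (MvPolynomial (Fin n) ℚ) (algebraMap ℚ≥0 ℚ)
    refine Polynomial.eq_zero_of_infinite_isRoot q (Set.Infinite.mono ?_
      (Set.infinite_range_of_injective (Nat.cast_injective (R := MvPolynomial (Fin n) ℚ))))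
    rintro _ ⟨a, rfl⟩
    simp only [Set.mem_ofPred_eq, Polynomial.IsRoot, q, Polynomial.eval_sub, Polynomial.eval_finsetSum, Polynomial.eval_mul,
      Polynomial.eval_C]
    have hch : ∀ j, Polynomial.eval (a : MvPolynomial (Fin n) ℚ)
        (Ring.choose (Polynomial.X : Polynomial (MvPolynomial (Fin n) ℚ)) j) = (Nat.choose a j : MvPolynomial (Fin n) ℚ) := fun j => by
      change Polynomial.evalRingHom _ _ = _
      rw [Ring.map_choose, Polynomial.coe_evalRingHom, Polynomial.eval_X, Ring.choose_natCast]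
    rw [← Polynomial.coe_evalRingHom, map_aeval_int (iT := (inferInstance : Algebra ℤ (MvPolynomial (Fin n) ℚ))), sub_eq_zero]
    simp only [Polynomial.coe_evalRingHom, hch]
    rw [← coeff_pow_sum n a _ (constantCoeff_genS n id), ← pow_series_eq_mulPoly n a _ (constantCoeff_genS n id)]
    refine congrArg (fun v => aeval v (pPoly n)) (funext fun i => ?_)
    rcases i with i | i
    · simp [hch]
    · simp [genS]
  let φ : Polynomial (MvPolynomial (Fin n) ℚ) →+* MvPolynomial (Fin n) L :=
    Polynomial.eval₂RingHom (MvPolynomial.map (algebraMap ℚ L)) (MvPolynomial.C (ι k))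
  apply MvPolynomial.map_injective ι hι
  letI : Module ℚ≥0 (MvPolynomial (Fin n) L) :=
    Module.compHom (MvPolynomial (Fin n) L) (algebraMap ℚ≥0 ℚ)
  have h := congrArg φ hq
  rw [map_zero, map_sub, sub_eq_zero] at h
  rw [map_sum] at h
  rw [map_aeval_int (iT := (inferInstance : Algebra ℤ (MvPolynomial (Fin n) L)))] at h
  have hc : ∀ j, φ (Ring.choose (Polynomial.X : Polynomial (MvPolynomial (Fin n) ℚ)) j) =
      MvPolynomial.C (ι (Ring.choose k j)) := fun j => by
    rw [Ring.map_choose ι, Ring.map_choose (MvPolynomial.C : _ →+* MvPolynomial (Fin n) L), Ring.map_choose φ]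
    simp [φ]
  rw [map_aeval_int (iT := (inferInstance : Algebra ℤ (MvPolynomial (Fin n) L))), map_sum]
  refine Eq.trans ?_ (h.trans ?_)
  · refine congrArg (fun v => aeval v (pPoly n)) (funext fun i => ?_)
    rcases i with i | i
    · simp only [Sum.elim_inl, MvPolynomial.map_C, hc]
    · simp [φ]
  · refine Finset.sum_congr rfl fun j _ => ?_
    rw [map_mul, map_mul, MvPolynomial.map_C, hc]
    congr 1
    rw [show φ (Polynomial.C (PowerSeries.coeff n ((genS ℚ n id - 1) ^ j))) =
      MvPolynomial.map (algebraMap ℚ L) (PowerSeries.coeff n ((genS ℚ n id - 1) ^ j)) by simp [φ],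
      ← PowerSeries.coeff_map, ← PowerSeries.coeff_map]
    simp only [map_pow (PowerSeries.map _), map_sub (PowerSeries.map _), map_one (PowerSeries.map _)]
    refine congrArg (fun f => PowerSeries.coeff n ((f - 1) ^ j)) ?_
    refine PowerSeries.ext fun i => ?_
    simp only [PowerSeries.coeff_map, genS, PowerSeries.coeff_mk]
    split_ifs <;> simp

theorem pPoly_choose_series {K : Type u} [CommRing K] [BinomialRing K] (n : ℕ) (k : K) :
    aeval (Sum.elim (fun i : Fin n => MvPolynomial.C (Ring.choose k ((i : ℕ) + 1)))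
        fun i : Fin n => (X i : MvPolynomial (Fin n) K)) (pPoly n) =
      ∑ j ∈ range (n + 1), MvPolynomial.C (Ring.choose k j) * PowerSeries.coeff n ((genS K n id - 1) ^ j) := by
  haveI : IsAddTorsionFree K := BinomialRing.toIsAddTorsionFree
  exact pPoly_choose_series_aux (L := ℚ ⊗[ℤ] K) (Algebra.TensorProduct.includeRight : K →ₐ[ℤ] ℚ ⊗[ℤ] K).toRingHom
    (Algebra.TensorProduct.includeRight_injective (R := ℤ) (A := ℚ) (B := K) (algebraMap ℤ ℚ).injective_int) n k

variable {K : Type v} [CommRing K] [LambdaOps K] [BinomialRing K] [Algebra K A]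

theorem lam_scalar_mul (hA : IsSpecial A) (hKb : IsBinomial K) (halg : IsLambdaAlg K A) (n : ℕ) (k : K) (z : A) :
    LambdaOps.lam n (algebraMap K A k * z) =
      ∑ j ∈ range (n + 1), algebraMap K A (Ring.choose k j) * PowerSeries.coeff n ((lamSeries z - 1) ^ j) := by
  rw [hA.lam_mul n _ (isMulPoly_pPoly n)]
  have h := congrArg (aeval (R := K) fun i : Fin n => LambdaOps.lam ((i : ℕ) + 1) z) (pPoly_choose_series n k)
  set φ : MvPolynomial (Fin n) K →+* A := (aeval (R := K) fun i : Fin n => LambdaOps.lam ((i : ℕ) + 1) z).toRingHom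
  change φ _ = φ _ at h
  rw [map_aeval_int (iT := (inferInstance : Algebra ℤ A)), map_sum] at h
  refine Eq.trans ?_ (h.trans ?_)
  · refine congrArg (fun v => aeval v (pPoly n)) (funext fun i => ?_)
    rcases i with i | i
    · simp [φ, ← hKb _ _, halg _ _]
    · simp [φ]
  · refine Finset.sum_congr rfl fun j _ => ?_
    rw [map_mul, ← PowerSeries.coeff_map, map_pow, map_sub, map_one]
    congr 1
    · simp [φ]
    obtain ⟨w, hw⟩ : (PowerSeries.X : PowerSeries A) ^ (n + 1) ∣ (PowerSeries.map φ (genS K n id) - 1) - (lamSeries z - 1) := by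
      refine PowerSeries.X_pow_dvd_iff.mpr fun i hi => ?_
      rw [sub_sub_sub_cancel_right, map_sub, sub_eq_zero, coeff_lamSeries, PowerSeries.coeff_map]
      rcases i with _ | i
      · simp [genS, LambdaOps.lam_zero]
      · simp only [genS, PowerSeries.coeff_mk, Nat.succ_ne_zero, if_false, Nat.add_sub_cancel, id_eq]
        rw [dif_pos (show i < n by omega)]
        simp [φ]
    have h4 := PowerSeries.X_pow_dvd_iff.mp (dvd_trans ⟨w, hw⟩ (sub_dvd_pow_sub_pow _ _ j)) n (by omega)
    rwa [map_sub, sub_eq_zero] at h4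

theorem gamma_scalar_mul (hA : IsSpecial A) (hKb : IsBinomial K) (halg : IsLambdaAlg K A) (r : ℕ) (k : K) (z : A) :
    gamma r (algebraMap K A k * z) =
      ∑ j ∈ range (r + 1), algebraMap K A (Ring.choose k j) * PowerSeries.coeff r ((gammaSeries z - 1) ^ j) := by
  set T : PowerSeries A := ∑ j ∈ range (r + 1), PowerSeries.C (algebraMap K A (Ring.choose k j)) * (lamSeries z - 1) ^ j
  have hT0 : PowerSeries.constantCoeff T = 1 := by
    simp [T, map_sum, Finset.sum_range_succ']
  have hT : ∀ n, 1 ≤ n → n ≤ r → LambdaOps.lam n (algebraMap K A k * z) = PowerSeries.coeff n T := by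
    intro n hn hnr
    rw [lam_scalar_mul hA hKb halg, map_sum]
    simp only [PowerSeries.coeff_C_mul]
    refine Finset.sum_subset (Finset.range_mono (by omega)) fun j _ hj => ?_
    rw [Finset.mem_range] at hj
    obtain ⟨g, hg⟩ : PowerSeries.X ∣ lamSeries z - 1 := by rw [PowerSeries.X_dvd_iff]; simp
    rw [hg, mul_pow, PowerSeries.coeff_X_pow_mul', if_neg (by omega), mul_zero]
  rw [gamma_eq_gamOf, gamOf_congr r hT, ← coeff_subst_tq T hT0, ← PowerSeries.coe_substAlgHom hasSubst_tq, map_sum,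
    map_sum]
  refine Finset.sum_congr rfl fun j _ => ?_
  rw [map_mul, map_pow, map_sub, map_one]
  simp only [PowerSeries.coe_substAlgHom hasSubst_tq]
  erw [PowerSeries.subst_C]
  rw [← gammaSeries]
  exact PowerSeries.coeff_C_mul r _ _

theorem coeff_pow_mem {S : Type*} [CommRing S] {I : Ideal S} {f : PowerSeries S} (hf : ∀ i, PowerSeries.coeff i f ∈ I) :
    ∀ (j n : ℕ), PowerSeries.coeff n (f ^ j) ∈ I ^ j
  | 0, n => by simp [Ideal.one_eq_top]
  | j + 1, n => by
    rw [pow_succ, pow_succ, PowerSeries.coeff_mul]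
    exact Ideal.sum_mem _ fun p _ => Ideal.mul_mem_mul (coeff_pow_mem hf j p.1) (hf p.2)

theorem scalar_mem_gammaBound (hA : IsSpecial A) (hKb : IsBinomial K) (halg : IsLambdaAlg K A) (𝔉 : IdealFil A)
    (k : K) {z : A} (hz : z ∈ gammaBound 𝔉) : algebraMap K A k * z ∈ gammaBound 𝔉 := by
  intro r
  rw [gamma_scalar_mul hA hKb halg]
  have h : ∀ j n, PowerSeries.coeff n ((gammaSeries z - 1) ^ j) ∈ 𝔉.F n := by
    intro j
    induction j with
    | zero =>
      intro n
      rcases n with _ | n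
      · exact 𝔉.mem_zero _
      · simp [PowerSeries.coeff_one]
    | succ j ih =>
      intro n
      rw [pow_succ, PowerSeries.coeff_mul]
      refine Ideal.sum_mem _ fun p hp => ?_
      obtain rfl : p.1 + p.2 = n := by simpa using hp
      refine 𝔉.mul (ih _) ?_
      rw [map_sub, coeff_gammaSeries, PowerSeries.coeff_one]
      split_ifs with h0
      · rw [h0]; exact 𝔉.mem_zero _
      · simpa using hz p.2
  exact Ideal.sum_mem _ fun j _ => Ideal.mul_mem_left _ _ (h j r)

theorem Good.scalar (hA : IsSpecial A) (hKb : IsBinomial K) (halg : IsLambdaAlg K A) {𝔉 : IdealFil A} {a : ℕ}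
    (ha : 1 ≤ a) (k : K) {z : A} (hz : Good 𝔉 a z) : Good 𝔉 a (algebraMap K A k * z) := by
  refine ⟨Ideal.mul_mem_left _ _ hz.mem, fun n hn => ?_⟩
  obtain ⟨m, rfl⟩ : ∃ m, n = m + 1 := ⟨n - 1, by omega⟩
  rw [lam_scalar_mul hA hKb halg, Finset.sum_range_succ', Finset.sum_range_succ']
  simp only [pow_zero, PowerSeries.coeff_one, Nat.succ_ne_zero, if_false, mul_zero, add_zero, zero_add, pow_one,
    Ring.choose_one_right, map_sub, coeff_lamSeries, sub_zero]
  rw [show ∀ (S : A), S + algebraMap K A k * LambdaOps.lam (m + 1) z - (leadC a (m + 1) : A) * (algebraMap K A k * z) =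
    S + algebraMap K A k * (LambdaOps.lam (m + 1) z - (leadC a (m + 1) : A) * z) from fun S => by ring]
  refine add_mem (Ideal.sum_mem _ fun j _ => Ideal.mul_mem_left _ _ ?_) (Ideal.mul_mem_left _ _ (hz.lam _ hn))
  have hI : ∀ i, PowerSeries.coeff i (lamSeries z - 1) ∈ 𝔉.F a := by
    intro i
    rw [map_sub, coeff_lamSeries, PowerSeries.coeff_one]
    rcases i with _ | i
    · simp [LambdaOps.lam_zero]
    · simpa using hz.lam_mem (Nat.succ_le_succ (Nat.zero_le i))
  have h2 := Ideal.pow_le_pow_right (show 2 ≤ j + 1 + 1 by omega) (coeff_pow_mem hI (j + 1 + 1) (m + 1))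
  rw [pow_two] at h2
  exact 𝔉.le (by omega) (Ideal.mul_le.mpr (fun x hx y hy => 𝔉.mul hx hy) h2)

end Groth.Agent.LambdaLib
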