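import Groth.Agent.LambdaLib.GammaFilt

/-!
# The γ-filtration of an augmented special λ-algebra over a binomial ring
-/

universe u v w

open Finset LambdaRing

namespace Groth.Agent.LambdaLib

variable {A : Type v} [CommRing A] [LambdaOps A]

/-- the γ-filtration as an IdealFil -/
@[reducible] noncomputable def gFil {B : Type u} [CommRing B] (ε : A →+* B) : IdealFil A where
  F n := gammaFil ε n
  zero := by
    rw [Ideal.eq_top_iff_one]
    exact Ideal.subset_span ⟨[], by simp, by simp, by simp⟩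
  anti := fun a b h => Ideal.span_mono fun y ⟨l, h1, h2, h3⟩ => ⟨l, h1, h.trans h2, h3⟩
  mul := fun {a b} x y hx hy => by
    have := Ideal.mul_mem_mul hx hy
    rw [gammaFil, gammaFil, Ideal.span_mul_span'] at this
    refine Ideal.span_mono ?_ this
    rintro _ ⟨x, ⟨l, h1, h2, rfl⟩, y, ⟨l', h1', h2', rfl⟩, rfl⟩
    refine ⟨l ++ l', fun p hp => (List.mem_append.mp hp).elim (h1 p) (h1' p),
      by rw [List.map_append, List.sum_append]; omega, ?_⟩
    simp [List.map_append, List.prod_append]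

theorem mem_gammaBound_gFil {B : Type u} [CommRing B] (ε : A →+* B) {x : A} (hx : ε x = 0) :
    x ∈ gammaBound (gFil ε) := fun r => Ideal.subset_span ⟨[(r, x)], by simpa using hx, by simp, by simp⟩

theorem ε_gamma {K : Type u} [CommRing K] [LambdaOps K] [Algebra K A] {ε : A →ₐ[K] K} (hε : IsAugLambdaAlg K A ε)
    (r : ℕ) (x : A) : ε (gamma r x) = gamma r (ε x) := by
  unfold gamma
  split_ifs with h
  · exact map_one ε
  · rw [map_sum]
    exact Finset.sum_congr rfl fun j _ => by split_ifs <;> simp [hε.map_lam _ _]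

theorem good_list_prod {B : Type u} [CommRing B] (hA : IsSpecial A) (ε : A →+* B) (l : List (ℕ × A))
    (hl : ∀ p ∈ l, ε p.2 = 0) :
    ((l.map Prod.fst).sum = 0 ∧ (l.map fun p => gamma p.1 p.2).prod = 1) ∨
      (1 ≤ (l.map Prod.fst).sum ∧ Good (gFil ε) (l.map Prod.fst).sum (l.map fun p => gamma p.1 p.2).prod) := by
  induction l with
  | nil => simp
  | cons p l ih =>
    simp only [List.map_cons, List.sum_cons, List.prod_cons]
    have hp := hl p List.mem_cons_self
    rcases ih (fun q hq => hl q (List.mem_cons_of_mem p hq)) with ⟨h0, h1⟩ | ⟨h0, h1⟩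
    · rcases Nat.eq_zero_or_pos p.1 with hz | hz
      · exact Or.inl ⟨by omega, by rw [hz, h1, gamma_zero, one_mul]⟩
      · refine Or.inr ⟨by omega, ?_⟩
        rw [h0, h1, mul_one, add_zero]
        exact (gamma_gamma_bounds hA (gFil ε) (mem_gammaBound_gFil ε hp) hz).1
    · rcases Nat.eq_zero_or_pos p.1 with hz | hz
      · refine Or.inr ⟨by omega, ?_⟩
        rw [hz, gamma_zero, one_mul, zero_add]; exact h1
      · exact Or.inr ⟨by omega, (gamma_gamma_bounds hA (gFil ε) (mem_gammaBound_gFil ε hp) hz).1.mul hA hz h0 h1⟩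

theorem good_of_mem {K : Type u} [CommRing K] [LambdaOps K] [BinomialRing K] (hKb : IsBinomial K) [Algebra K A]
    (hA : IsSpecial A) {ε : A →ₐ[K] K} (hε : IsAugLambdaAlg K A ε) {m : ℕ} (hm : 1 ≤ m) {z : A}
    (hz : z ∈ gammaFil (ε : A →+* K) m) : Good (gFil (ε : A →+* K)) m z := by
  set 𝔉 := gFil (ε : A →+* K)
  have down : ∀ {w : ℕ} {y : A}, m ≤ w → Good 𝔉 w y → Good 𝔉 m y := by
    intro w y hw hy
    rcases eq_or_lt_of_le hw with rfl | hlt
    · exact hy
    · exact Good.of_lam_mem (𝔉.le hlt hy.mem) fun n hn => 𝔉.le hlt (hy.lam_mem hn)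
  induction hz using Submodule.span_induction with
  | mem y hy =>
    obtain ⟨l, h1, h2, rfl⟩ := hy
    rcases good_list_prod hA (ε : A →+* K) l h1 with ⟨h0, -⟩ | ⟨-, h⟩
    · omega
    · exact down h2 h
  | zero => exact Good.zero 𝔉 m
  | add a b _ _ ha hb => exact ha.add hm hb
  | smul a y hy ih =>
    rw [smul_eq_mul, show a * y = (a - algebraMap K A (ε a)) * y + algebraMap K A (ε a) * y by ring]
    refine Good.add hm ?_ (ih.scalar hA hKb hε.isLambdaAlg hm (ε a))
    have h0 : (ε : A →+* K) (a - algebraMap K A (ε a)) = 0 := by simp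
    have hg := (gamma_gamma_bounds hA 𝔉 (mem_gammaBound_gFil (ε : A →+* K) h0) le_rfl).1
    rw [gamma_one] at hg
    exact down (by omega) (hg.mul hA le_rfl hm ih)

theorem sum_choose_leadC (m : ℕ) (hm : 1 ≤ m) :
    ∑ n ∈ range (m + 1), ((m - 1).choose (n - 1) : ℤ) * (if n = 0 then 0 else leadC m n) =
      (-1) ^ (m - 1) * ((m - 1).factorial : ℤ) := by
  obtain ⟨M, rfl⟩ : ∃ M, m = M + 1 := ⟨m - 1, by omega⟩
  have h := congrFun (fwdDiff_iter_eq_factorial (R := ℤ) (n := M)) 1
  rw [fwdDiff_iter_eq_sum_shift] at h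
  simp only [Pi.natCast_apply, smul_eq_mul, nsmul_one] at h
  rw [Nat.add_sub_cancel, ← h, Finset.mul_sum, Finset.sum_range_succ']
  simp only [if_true, mul_zero, add_zero, Nat.succ_ne_zero, if_false, Nat.add_sub_cancel, leadC]
  refine Finset.sum_congr rfl fun k hk => ?_
  rw [Finset.mem_range] at hk
  obtain ⟨d, rfl⟩ : ∃ d, M = k + d := ⟨M - k, by omega⟩
  rw [Nat.add_sub_cancel_left]
  have : ((-1 : ℤ) ^ (k + d)) * (-1) ^ d = (-1) ^ k := by
    rw [← pow_add, show k + d + d = k + 2 * d by ring, pow_add, pow_mul, neg_one_sq, one_pow, mul_one]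
  push_cast
  linear_combination -(((k + d).choose k : ℤ) * (1 + (k : ℤ)) ^ (k + d)) * this

theorem gamma_sub_mem_succ {K : Type u} [CommRing K] [LambdaOps K] [BinomialRing K] (hKb : IsBinomial K) [Algebra K A]
    (hA : IsSpecial A) {ε : A →ₐ[K] K} (hε : IsAugLambdaAlg K A ε) {m : ℕ} (hm : 1 ≤ m) {z : A}
    (hz : z ∈ gammaFil (ε : A →+* K) m) :
    gamma m z - (-1 : A) ^ (m - 1) * ((m - 1).factorial : A) * z ∈ gammaFil (ε : A →+* K) (m + 1) := by
  have hg := good_of_mem hKb hA hε hm hz
  have hc := congrArg (fun c : ℤ => (c : A)) (sum_choose_leadC m hm)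
  simp only [Int.cast_sum, Int.cast_mul, Int.cast_natCast, Int.cast_pow, Int.cast_neg, Int.cast_one, apply_ite Int.cast,
    Int.cast_zero] at hc
  rw [← hc, Finset.sum_mul, gamma, if_neg (by omega), ← Finset.sum_sub_distrib]
  refine Ideal.sum_mem _ fun n _ => ?_
  rw [mul_assoc, ← mul_sub]
  refine Ideal.mul_mem_left _ _ ?_
  split_ifs with hn
  · simp
  · exact hg.lam n (Nat.one_le_iff_ne_zero.mpr hn)

/-- All elements, shifted to augmentation zero, lie in the bound, as soon as generators do. -/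
theorem sub_aug_mem_gammaBound {K : Type u} [CommRing K] [LambdaOps K] [BinomialRing K] (hKb : IsBinomial K)
    [Algebra K A] (hA : IsSpecial A) {ε : A →ₐ[K] K} (hε : IsAugLambdaAlg K A ε) (𝔉 : IdealFil A)
    {b c : A} (hb : b - algebraMap K A (ε b) ∈ gammaBound 𝔉) (hc : c - algebraMap K A (ε c) ∈ gammaBound 𝔉) :
    b * c - algebraMap K A (ε (b * c)) ∈ gammaBound 𝔉 := by
  rw [map_mul, map_mul, show b * c - algebraMap K A (ε b) * algebraMap K A (ε c) =
    (b - algebraMap K A (ε b)) * (c - algebraMap K A (ε c)) + algebraMap K A (ε b) * (c - algebraMap K A (ε c)) +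
      algebraMap K A (ε c) * (b - algebraMap K A (ε b)) by ring]
  exact add_mem (add_mem (mul_mem_gammaBound hA 𝔉 hb hc) (scalar_mem_gammaBound hA hKb hε.isLambdaAlg 𝔉 _ hc))
    (scalar_mem_gammaBound hA hKb hε.isLambdaAlg 𝔉 _ hb)

theorem gammaFil_le_of_gammaBound {B : Type u} [CommRing B] (ε : A →+* B) (𝔉 : IdealFil A)
    (h : ∀ b : A, ε b = 0 → b ∈ gammaBound 𝔉) (k : ℕ) : gammaFil ε k ≤ 𝔉.F k := by
  refine Ideal.span_le.mpr ?_
  rintro y ⟨l, h1, h2, rfl⟩
  refine 𝔉.le h2 ?_
  clear h2
  induction l with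
  | nil => simpa using 𝔉.one_mem
  | cons p l ih =>
    simp only [List.map_cons, List.prod_cons, List.sum_cons]
    exact 𝔉.mul (h p.2 (h1 p List.mem_cons_self) p.1) (ih fun q hq => h1 q (List.mem_cons_of_mem p hq))

theorem gammaFil_eq_monomials {K : Type u} [CommRing K] [LambdaOps K] [BinomialRing K] (hKb : IsBinomial K)
    [Algebra K A] (hA : IsSpecial A) {ε : A →ₐ[K] K} (hε : IsAugLambdaAlg K A ε) (n : ℕ) (x : A) (hx : ε x = 0)
    (hγ : ∀ k : ℕ, n < k → gamma k x = 0)
    (hgen : Algebra.adjoin K (Set.range fun j : Fin n => gamma ((j : ℕ) + 1) x) = ⊤) (k : ℕ) :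
    gammaFil (ε : A →+* K) k =
      Ideal.span {m : A | ∃ e : Fin n → ℕ, k ≤ ∑ j : Fin n, ((j : ℕ) + 1) * e j ∧
        m = ∏ j : Fin n, gamma ((j : ℕ) + 1) x ^ e j} := by
  set S : ℕ → Set A := fun k => {m : A | ∃ e : Fin n → ℕ, k ≤ ∑ j : Fin n, ((j : ℕ) + 1) * e j ∧
        m = ∏ j : Fin n, gamma ((j : ℕ) + 1) x ^ e j}
  let 𝔉 : IdealFil A :=
    { F := fun k => Ideal.span (S k)
      zero := by
        rw [Ideal.eq_top_iff_one]
        exact Ideal.subset_span ⟨0, by simp, by simp⟩
      anti := fun a b h => Ideal.span_mono fun y ⟨e, h1, h2⟩ => ⟨e, h.trans h1, h2⟩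
      mul := fun {a b} p q hp hq => by
        have := Ideal.mul_mem_mul hp hq
        rw [Ideal.span_mul_span'] at this
        refine Ideal.span_mono ?_ this
        rintro _ ⟨p, ⟨e, h1, rfl⟩, q, ⟨e', h1', rfl⟩, rfl⟩
        refine ⟨e + e', ?_, by simp [pow_add, Finset.prod_mul_distrib]⟩
        simp only [Pi.add_apply, mul_add, Finset.sum_add_distrib]
        exact add_le_add h1 h1' }
  change _ = 𝔉.F k
  have hxb : x ∈ gammaBound 𝔉 := by
    intro r
    rcases Nat.eq_zero_or_pos r with rfl | hr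
    · exact 𝔉.mem_zero _
    by_cases hrn : r ≤ n
    · refine Ideal.subset_span ⟨Pi.single ⟨r - 1, by omega⟩ 1, ?_, ?_⟩
      · rw [Finset.sum_eq_single ⟨r - 1, by omega⟩ (fun b _ hb => by simp [Pi.single_eq_of_ne hb]) (by simp)]
        simp; omega
      · rw [Finset.prod_eq_single ⟨r - 1, by omega⟩ (fun b _ hb => by simp [Pi.single_eq_of_ne hb]) (by simp)]
        simp [show r - 1 + 1 = r by omega]
    · rw [hγ r (by omega)]; exact zero_mem _
  refine le_antisymm (gammaFil_le_of_gammaBound _ 𝔉 (fun b hb => ?_) k) ?_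
  · have hall : ∀ b : A, b - algebraMap K A (ε b) ∈ gammaBound 𝔉 := by
      intro b
      have hb : b ∈ Algebra.adjoin K (Set.range fun j : Fin n => gamma ((j : ℕ) + 1) x) := by rw [hgen]; trivial
      induction hb using Algebra.adjoin_induction with
      | mem y hy =>
        obtain ⟨j, rfl⟩ := hy
        rw [ε_gamma hε, hx, gamma_apply_zero _ (Nat.succ_ne_zero _), map_zero, sub_zero]
        exact (gamma_gamma_bounds hA 𝔉 hxb (Nat.succ_le_succ (Nat.zero_le _))).2
      | algebraMap c => rw [AlgHom.commutes, Algebra.algebraMap_self, RingHom.id_apply, sub_self]; exact zero_mem _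
      | add a b _ _ ha hb => rw [map_add, map_add, add_sub_add_comm]; exact add_mem ha hb
      | mul a b _ _ ha hb => exact sub_aug_mem_gammaBound hKb hA hε 𝔉 ha hb
    have := hall b
    rwa [show ε b = 0 from hb, map_zero, sub_zero] at this
  · refine Ideal.span_le.mpr ?_
    rintro y ⟨e, h1, rfl⟩
    refine (gFil (ε : A →+* K)).le h1 ((gFil (ε : A →+* K)).prod univ fun j _ => ?_)
    exact (gFil (ε : A →+* K)).pow (mem_gammaBound_gFil (ε : A →+* K) hx _) (e j)

theorem gammaFil_free_over {K : Type u} [CommRing K] [LambdaOps K] [BinomialRing K] (hKb : IsBinomial K)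
    [Algebra K A] {εA : A →ₐ[K] K}
    {B : Type w} [CommRing B] [LambdaOps B] [Algebra K B] [Algebra A B] [IsScalarTower K A B]
    (hB : IsSpecial B) (hAB : IsLambdaAlg A B) {εB : B →ₐ[K] K} (hεB : IsAugLambdaAlg K B εB)
    (hεAB : ∀ a : A, εB (algebraMap A B a) = εA a) (x : B) (hx : εB x = 0)
    (hgen : Algebra.adjoin A (Set.range fun j : ℕ => gamma (j + 1) x) = ⊤) (k : ℕ) :
    gammaFil (εB : B →+* K) k =
      Ideal.span {b : B | ∃ (e : ℕ →₀ ℕ) (a : A),
        a ∈ gammaFil (εA : A →+* K) (k - e.sum fun j n => (j + 1) * n) ∧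
        b = algebraMap A B a * e.prod fun j n => gamma (j + 1) x ^ n} := by
  classical
  set S : ℕ → Set B := fun k => {b : B | ∃ (e : ℕ →₀ ℕ) (a : A),
        a ∈ gammaFil (εA : A →+* K) (k - e.sum fun j n => (j + 1) * n) ∧
        b = algebraMap A B a * e.prod fun j n => gamma (j + 1) x ^ n}
  set fA := gFil (εA : A →+* K)
  let 𝔉 : IdealFil B :=
    { F := fun k => Ideal.span (S k)
      zero := by
        rw [Ideal.eq_top_iff_one]
        refine Ideal.subset_span ⟨0, 1, ?_, by simp⟩
        simpa using fA.one_mem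
      anti := fun a b h => Ideal.span_mono fun y ⟨e, c, h1, h2⟩ =>
        ⟨e, c, fA.le (Nat.sub_le_sub_right h _) h1, h2⟩
      mul := fun {a b} p q hp hq => by
        have := Ideal.mul_mem_mul hp hq
        rw [Ideal.span_mul_span'] at this
        refine Ideal.span_mono ?_ this
        rintro _ ⟨p, ⟨e, c, h1, rfl⟩, q, ⟨e', c', h1', rfl⟩, rfl⟩
        refine ⟨e + e', c * c', fA.le ?_ (fA.mul h1 h1'), ?_⟩
        · rw [Finsupp.sum_add_index' (by simp) (fun j m m' => by ring)]
          omega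
        · rw [Finsupp.prod_add_index' (by simp) (fun j m m' => pow_add _ _ _), map_mul]
          ring }
  change _ = 𝔉.F k
  have hxb : x ∈ gammaBound 𝔉 := by
    intro r
    rcases Nat.eq_zero_or_pos r with rfl | hr
    · exact 𝔉.mem_zero _
    refine Ideal.subset_span ⟨Finsupp.single (r - 1) 1, 1, ?_, ?_⟩
    · rw [Finsupp.sum_single_index (by simp), show r - (r - 1 + 1) * 1 = 0 by omega]
      exact fA.one_mem
    · rw [Finsupp.prod_single_index (by simp), map_one, one_mul, pow_one, show r - 1 + 1 = r by omega]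
  have hgammaMap : ∀ (r : ℕ) (a : A), algebraMap A B (gamma r a) = gamma r (algebraMap A B a) := by
    intro r a
    unfold gamma
    split_ifs with h
    · exact map_one _
    · rw [map_sum]
      exact Finset.sum_congr rfl fun j _ => by split_ifs <;> simp [hAB _ _]
  have hscal : ∀ a : A, εA a = 0 → algebraMap A B a ∈ gammaBound 𝔉 := by
    intro a ha r
    rw [← hgammaMap]
    refine Ideal.subset_span ⟨0, gamma r a, ?_, by simp⟩
    simpa using mem_gammaBound_gFil (εA : A →+* K) (x := a) (by simpa using ha) r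
  refine le_antisymm (gammaFil_le_of_gammaBound _ 𝔉 (fun b hb => ?_) k) ?_
  · have hall : ∀ b : B, b - algebraMap K B (εB b) ∈ gammaBound 𝔉 := by
      intro b
      have hb : b ∈ Algebra.adjoin A (Set.range fun j : ℕ => gamma (j + 1) x) := by rw [hgen]; trivial
      induction hb using Algebra.adjoin_induction with
      | mem y hy =>
        obtain ⟨j, rfl⟩ := hy
        rw [ε_gamma hεB, hx, gamma_apply_zero _ (Nat.succ_ne_zero _), map_zero, sub_zero]
        exact (gamma_gamma_bounds hB 𝔉 hxb (Nat.succ_le_succ (Nat.zero_le _))).2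
      | algebraMap a =>
        rw [hεAB, IsScalarTower.algebraMap_apply K A B, ← map_sub]
        exact hscal _ (by simp)
      | add a b _ _ ha hb => rw [map_add, map_add, add_sub_add_comm]; exact add_mem ha hb
      | mul a b _ _ ha hb => exact sub_aug_mem_gammaBound hKb hB hεB 𝔉 ha hb
    have := hall b
    rwa [show εB b = 0 from hb, map_zero, sub_zero] at this
  · refine Ideal.span_le.mpr ?_
    rintro y ⟨e, a, h1, rfl⟩
    set fB := gFil (εB : B →+* K)
    have he : (e.prod fun j n => gamma (j + 1) x ^ n) ∈ fB.F (e.sum fun j n => (j + 1) * n) := by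
      have := fB.finsuppProd e (g := fun j => gamma (j + 1) x) (w := fun j => j + 1)
        (fun j _ => mem_gammaBound_gFil (εB : B →+* K) hx _)
      rwa [Finsupp.weight_apply, show (e.sum fun j n => n • (j + 1)) = e.sum fun j n => (j + 1) * n from
        Finsupp.sum_congr fun j _ => by rw [smul_eq_mul, mul_comm]] at this
    have ha : algebraMap A B a ∈ fB.F (k - e.sum fun j n => (j + 1) * n) := by
      have hmap : (gammaFil (εA : A →+* K) (k - e.sum fun j n => (j + 1) * n)).map (algebraMap A B) ≤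
          fB.F (k - e.sum fun j n => (j + 1) * n) := by
        rw [gammaFil, Ideal.map_span]
        refine Ideal.span_le.mpr ?_
        rintro _ ⟨_, ⟨l, g1, g2, rfl⟩, rfl⟩
        refine Ideal.subset_span ⟨l.map fun p => (p.1, algebraMap A B p.2), ?_, by simpa [Function.comp_def] using g2, ?_⟩
        · intro q hq
          obtain ⟨p, hp, rfl⟩ := List.mem_map.mp hq
          simpa [hεAB] using g1 p hp
        · rw [map_list_prod, List.map_map, List.map_map]
          exact congrArg List.prod (List.map_congr_left fun p _ => hgammaMap _ _)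
      exact hmap (Ideal.mem_map_of_mem _ h1)
    exact fB.le (by omega) (fB.mul ha he)

end Groth.Agent.LambdaLib
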