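import Groth.Agent.LambdaLib.UniRing

/-!
# Universal properties of γ-operations on special λ-rings
-/

universe u v

open Finset LambdaRing MvPolynomial

namespace Groth.Agent.LambdaLib

section split

variable {A : Type u} [CommRing A]

theorem mulPoly_monomial_cases {n : ℕ} (hn : 1 ≤ n) {s : Fin n ⊕ Fin n →₀ ℕ}
    (hs : Finsupp.weight (mulW n n) s = ((n, n) : ℕ × ℕ)) :
    (1 ≤ ∑ k, s (Sum.inl k) ∧ 1 ≤ ∑ k, s (Sum.inr k)) ∧
    (∑ k, s (Sum.inl k) = 1 → ∀ k : Fin n, s (Sum.inl k) = if (k : ℕ) + 1 = n then 1 else 0) ∧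
    (∑ k, s (Sum.inr k) = 1 → ∀ k : Fin n, s (Sum.inr k) = if (k : ℕ) + 1 = n then 1 else 0) := by
  classical
  rw [Finsupp.weight_apply, Finsupp.sum_fintype _ _ (fun i => by simp), Fintype.sum_sum_type] at hs
  have h1 : ∑ k : Fin n, s (Sum.inl k) * ((k : ℕ) + 1) = n := by
    simpa [mulW, Prod.fst_sum] using congrArg Prod.fst hs
  have h2 : ∑ k : Fin n, s (Sum.inr k) * ((k : ℕ) + 1) = n := by
    simpa [mulW, Prod.snd_sum] using congrArg Prod.snd hs
  have key : ∀ f : Fin n → ℕ, ∑ k, f k * ((k : ℕ) + 1) = n →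
      1 ≤ ∑ k, f k ∧ (∑ k, f k = 1 → ∀ k : Fin n, f k = if (k : ℕ) + 1 = n then 1 else 0) := by
    intro f hf
    refine ⟨?_, fun h1 k => ?_⟩
    · by_contra h0
      have : ∀ k, f k = 0 := fun k =>
        Nat.le_zero.mp (le_trans (Finset.single_le_sum (fun i _ => Nat.zero_le (f i)) (Finset.mem_univ k)) (by omega))
      simp [this] at hf
      omega
    · obtain ⟨k₀, hk₀⟩ : ∃ k, f k ≠ 0 := by by_contra! h0; simp [h0] at h1
      have hle : ∀ k, k ≠ k₀ → f k = 0 := by
        intro k hk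
        have := Finset.sum_le_sum_of_subset (f := f) (Finset.subset_univ {k, k₀})
        rw [Finset.sum_pair hk, h1] at this
        omega
      have hk1 : f k₀ = 1 := by
        rw [← h1, eq_comm]; exact Finset.sum_eq_single k₀ (fun b _ hb => hle b hb) (by simp)
      rw [Finset.sum_eq_single k₀ (fun b _ hb => by rw [hle b hb, zero_mul]) (by simp), hk1, one_mul] at hf
      by_cases hk : k = k₀
      · subst hk; rw [hk1, if_pos hf]
      · rw [hle k hk, if_neg]; intro h; exact hk (Fin.ext (by omega))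
  obtain ⟨a1, a2⟩ := key (fun k => s (Sum.inl k)) h1
  obtain ⟨b1, b2⟩ := key (fun k => s (Sum.inr k)) h2
  exact ⟨⟨a1, b1⟩, a2, b2⟩

/-- the exponent of X_n Y_n -/
noncomputable def topMon (n : ℕ) (hn : 1 ≤ n) : Fin n ⊕ Fin n →₀ ℕ :=
  Finsupp.single (Sum.inl ⟨n - 1, by omega⟩) 1 + Finsupp.single (Sum.inr ⟨n - 1, by omega⟩) 1

theorem eq_topMon {n : ℕ} (hn : 1 ≤ n) {s : Fin n ⊕ Fin n →₀ ℕ}
    (h : ∀ k : Fin n, s (Sum.inl k) = (if (k : ℕ) + 1 = n then 1 else 0) ∧ s (Sum.inr k) = if (k : ℕ) + 1 = n then 1 else 0) :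
    s = topMon n hn := by
  classical
  ext i
  rcases i with k | k
  · rw [(h k).1, topMon]
    simp only [Finsupp.add_apply, Finsupp.single_apply, Sum.inl.injEq, reduceCtorEq, if_false, add_zero]
    exact if_congr ⟨fun hk => Fin.ext (by simp only; omega), fun hk => by rw [← hk]; simp only; omega⟩ rfl rfl
  · rw [(h k).2, topMon]
    simp only [Finsupp.add_apply, Finsupp.single_apply, Sum.inr.injEq, reduceCtorEq, if_false, zero_add]
    exact if_congr ⟨fun hk => Fin.ext (by simp only; omega), fun hk => by rw [← hk]; simp only; omega⟩ rfl rfl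

theorem coeff_topMon {n : ℕ} (hn : 1 ≤ n) {P : MvPolynomial (Fin n ⊕ Fin n) ℤ} (hP : IsMulPoly n P) :
    coeff (topMon n hn) P = (-1) ^ (n - 1) * (n : ℤ) := by
  classical
  set R2 := MvPolynomial (Fin 2) ℚ
  set fx : PowerSeries R2 := 1 + PowerSeries.C (X 0) * PowerSeries.X ^ n
  set fy : PowerSeries R2 := 1 + PowerSeries.C (X 1) * PowerSeries.X ^ n
  choose P' hP' using exists_isMulPoly
  set c : ℤ := coeff (topMon n hn) P
  have hval : ∀ (m : ℕ), m ≤ n → ∀ (Pm : MvPolynomial (Fin m ⊕ Fin m) ℤ), IsMulPoly m Pm → 1 ≤ m → m < n →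
      aeval (pairVal fx fy m) Pm = 0 := by
    intro m _ Pm hPm hm1 hmn
    rw [aeval_def, eval₂_eq]
    refine Finset.sum_eq_zero fun s hs => ?_
    obtain ⟨k, hk⟩ : ∃ k, s (Sum.inl k) ≠ 0 := by
      have := (mulPoly_monomial_cases hm1 (hPm.2 (MvPolynomial.mem_support_iff.mp hs))).1.1
      by_contra! h0
      simp [h0] at this
    rw [Finset.prod_eq_zero (Finsupp.mem_support_iff.mpr hk), mul_zero]
    simp [pairVal, fx, PowerSeries.coeff_one, PowerSeries.coeff_C_mul, PowerSeries.coeff_X_pow,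
      zero_pow hk, show (k : ℕ) + 1 ≠ n by have := k.2; omega]
  have htop : aeval (pairVal fx fy n) P = (c : R2) * (X 0 * X 1) := by
    rw [aeval_def, eval₂_eq, Finset.sum_eq_single (topMon n hn)]
    · rw [topMon, Finsupp.support_add_eq (by simp [Finsupp.support_single_ne_zero]),
        Finsupp.support_single_ne_zero _ one_ne_zero, Finsupp.support_single_ne_zero _ one_ne_zero,
        Finset.prod_union (by simp)]
      simp [pairVal, fx, fy, c, topMon, PowerSeries.coeff_one, PowerSeries.coeff_C_mul, PowerSeries.coeff_X_pow,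
        show n - 1 + 1 = n by omega, show n ≠ 0 by omega]
    · intro s hs hne
      have hc := mulPoly_monomial_cases hn (hP.2 (MvPolynomial.mem_support_iff.mp hs))
      obtain ⟨i, hi, hi'⟩ : ∃ i, s i ≠ 0 ∧ pairVal fx fy n i = 0 := by
        by_contra! h0
        apply hne
        have hz : ∀ k : Fin n, (k : ℕ) + 1 ≠ n → s (Sum.inl k) = 0 ∧ s (Sum.inr k) = 0 := fun k hk =>
          ⟨by by_contra h; exact h0 _ h (by simp [pairVal, fx, PowerSeries.coeff_one, PowerSeries.coeff_C_mul, PowerSeries.coeff_X_pow, hk]),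
           by by_contra h; exact h0 _ h (by simp [pairVal, fy, PowerSeries.coeff_one, PowerSeries.coeff_C_mul, PowerSeries.coeff_X_pow, hk])⟩
        have hw := hP.2 (MvPolynomial.mem_support_iff.mp hs)
        change Finsupp.weight (mulW n n) s = ((n, n) : ℕ × ℕ) at hw
        rw [Finsupp.weight_apply, Finsupp.sum_fintype _ _ (fun i => by simp), Fintype.sum_sum_type] at hw
        set k₀ : Fin n := ⟨n - 1, by omega⟩
        have hz' : ∀ k : Fin n, k ≠ k₀ → s (Sum.inl k) = 0 ∧ s (Sum.inr k) = 0 :=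
          fun k hk => hz k fun h => hk (Fin.ext (by simp only [k₀]; omega))
        rw [Finset.sum_eq_single k₀ (fun k _ hk => by simp [(hz' k hk).1]) (by simp),
          Finset.sum_eq_single k₀ (fun k _ hk => by simp [(hz' k hk).2]) (by simp)] at hw
        have e1 := congrArg Prod.fst hw
        have e2 := congrArg Prod.snd hw
        simp [mulW, k₀, show n - 1 + 1 = n by omega] at e1 e2
        refine eq_topMon hn fun k => ?_
        by_cases hk : (k : ℕ) + 1 = n
        · obtain rfl : k = k₀ := Fin.ext (by simp only [k₀]; omega)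
          have h1 : s (Sum.inl k₀) * n = 1 * n := by rw [one_mul]; exact e1
          have h2 : s (Sum.inr k₀) * n = 1 * n := by rw [one_mul]; exact e2
          rw [if_pos hk, Nat.eq_of_mul_eq_mul_right (by omega) h1, Nat.eq_of_mul_eq_mul_right (by omega) h2]
          exact ⟨rfl, rfl⟩
        · rw [if_neg hk]; exact hz k hk
      rw [Finset.prod_eq_zero (Finsupp.mem_support_iff.mpr hi) (by rw [hi', zero_pow hi]), mul_zero]
    · intro hs
      rw [notMem_support_iff.mp hs]; simp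
  have hone : ∀ a : R2, PowerSeries.constantCoeff (1 + PowerSeries.C a * PowerSeries.X ^ n : PowerSeries R2) = 1 :=
    fun a => by simp [show n ≠ 0 by omega]
  have hpsi : ∀ a : R2, psiS (1 + PowerSeries.C a * PowerSeries.X ^ n) n = (-1) ^ (n - 1) * ((n : R2) * a) := by
    intro a
    have hm : ∃ g : PowerSeries R2, logD (1 + PowerSeries.C a * PowerSeries.X ^ n) =
        PowerSeries.derivative R2 (1 + PowerSeries.C a * PowerSeries.X ^ n) * (1 + PowerSeries.X * g) := by
      obtain ⟨g, hg⟩ : PowerSeries.X ∣ (1 + PowerSeries.C a * PowerSeries.X ^ n : PowerSeries R2).invOfUnit 1 - 1 := by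
        rw [PowerSeries.X_dvd_iff]; simp
      exact ⟨g, by rw [logD, ← hg, add_sub_cancel]⟩
    obtain ⟨g, hg⟩ := hm
    have hd : PowerSeries.derivative R2 (1 + PowerSeries.C a * PowerSeries.X ^ n) =
        PowerSeries.C ((n : R2) * a) * PowerSeries.X ^ (n - 1) := by
      ext m : 1
      rw [PowerSeries.coeff_derivative, map_add, PowerSeries.coeff_one, if_neg (by omega), zero_add,
        PowerSeries.coeff_C_mul_X_pow, PowerSeries.coeff_C_mul_X_pow]
      by_cases hm : m + 1 = n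
      · rw [if_pos hm, if_pos (by omega), ← hm]; push_cast; ring
      · rw [if_neg hm, if_neg (by omega), zero_mul]
    rw [psiS, hg, hd, mul_add, mul_one, map_add, PowerSeries.coeff_C_mul_X_pow, if_pos rfl,
      mul_assoc (PowerSeries.C _), PowerSeries.coeff_C_mul, PowerSeries.coeff_X_pow_mul', if_pos le_rfl, Nat.sub_self,
      PowerSeries.coeff_zero_X_mul, mul_zero, add_zero]
  have h := psiS_mul_universal n hn (fun m => if h : m = n then h ▸ P else P' m)
    (fun m => by by_cases h : m = n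
                 · subst h; simpa using hP
                 · simpa [h] using hP' m)
    (fx := fx) (fy := fy) (fxy := 1 + PowerSeries.C ((c : R2) * (X 0 * X 1)) * PowerSeries.X ^ n)
    (hone _) (hone _) (hone _) (fun i hi => by
      rcases eq_or_lt_of_le hi with rfl | hlt
      · rw [dif_pos rfl]
        refine Eq.trans ?_ (Eq.trans htop.symm (by congr!))
        rw [map_add, PowerSeries.coeff_one, if_neg (by omega), zero_add, PowerSeries.coeff_C_mul_X_pow, if_pos rfl]
      · rw [dif_neg (by omega)]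
        rcases Nat.eq_zero_or_pos i with rfl | hi0
        · rw [PowerSeries.coeff_zero_eq_constantCoeff_apply, hone,
            show pairVal fx fy 0 = Sum.elim (fun k : Fin 0 => (0 : Multiset R2).esymm ((k : ℕ) + 1))
              (fun k : Fin 0 => (0 : Multiset R2).esymm ((k : ℕ) + 1)) from Subsingleton.elim _ _,
            mulPoly_eval (hP' 0), esymm_zero']
        · refine Eq.trans ?_ (Eq.trans (hval i hi (P' i) (hP' i) hi0 hlt).symm (by congr!))
          rw [map_add, PowerSeries.coeff_one, if_neg (by omega), zero_add, PowerSeries.coeff_C_mul_X_pow, if_neg (by omega)])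
  rw [hpsi, hpsi, hpsi] at h
  have h2 := congrArg (MvPolynomial.eval fun _ => (1 : ℚ)) h
  simp only [map_mul, map_pow, map_neg, map_one, map_natCast, map_intCast, eval_X, mul_one] at h2
  have hne : ((-1 : ℚ) ^ (n - 1) * (n : ℚ)) ≠ 0 :=
    mul_ne_zero (pow_ne_zero _ (by norm_num)) (Nat.cast_ne_zero.mpr (by omega))
  rw [← mul_assoc] at h2
  have h3 := mul_left_cancel₀ hne h2
  exact_mod_cast h3

theorem mulPoly_linear_split {n : ℕ} (hn : 1 ≤ n) {P : MvPolynomial (Fin n ⊕ Fin n) ℤ} (hP : IsMulPoly n P)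
    (f g : ℕ → A) (I J : Ideal A) (hf : ∀ l, 1 ≤ l → f l ∈ I) (hg : ∀ l, 1 ≤ l → g l ∈ J) :
    aeval (Sum.elim (fun k : Fin n => f ((k : ℕ) + 1)) fun k : Fin n => g ((k : ℕ) + 1)) P -
        ((-1) ^ (n - 1) * (n : A)) * (f n * g n) ∈ I * I * J ⊔ I * J * J := by
  classical
  set v : Fin n ⊕ Fin n → A := Sum.elim (fun k : Fin n => f ((k : ℕ) + 1)) fun k : Fin n => g ((k : ℕ) + 1)
  have htop : ((-1) ^ (n - 1) * (n : A)) * (f n * g n) =
      algebraMap ℤ A (coeff (topMon n hn) P) * ∏ i ∈ (topMon n hn).support, v i ^ (topMon n hn) i := by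
    rw [coeff_topMon hn hP, topMon, Finsupp.support_add_eq (by simp [Finsupp.support_single_ne_zero]),
      Finsupp.support_single_ne_zero _ one_ne_zero, Finsupp.support_single_ne_zero _ one_ne_zero,
      Finset.prod_union (by simp)]
    simp [v, show n - 1 + 1 = n by omega]
  rw [htop, aeval_def, eval₂_eq]
  by_cases htm : topMon n hn ∈ P.support
  swap
  · exfalso
    rw [notMem_support_iff, coeff_topMon hn hP] at htm
    rcases mul_eq_zero.mp htm with h | h
    · exact absurd h (pow_ne_zero _ (by norm_num))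
    · omega
  rw [← Finset.sum_erase_add _ _ htm, add_sub_cancel_right]
  refine Ideal.sum_mem _ fun s hs => Ideal.mul_mem_left _ _ ?_
  rw [Finset.mem_erase] at hs
  have hc := mulPoly_monomial_cases hn (hP.2 (MvPolynomial.mem_support_iff.mp hs.2))
  rw [show ∏ i ∈ s.support, v i ^ s i = s.prod (fun i k => v i ^ k) from rfl,
    Finsupp.prod_fintype _ _ (fun i => pow_zero _), Fintype.prod_sum_type]
  have hprod : ∀ (w : Fin n → A) (L : Ideal A), (∀ k, w k ∈ L) → ∀ e : Fin n → ℕ,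
      ∏ k, w k ^ e k ∈ L ^ (∑ k, e k) := by
    intro w L hw e
    rw [← Finset.prod_pow_eq_pow_sum]
    exact Ideal.prod_mem_prod fun k _ => Ideal.pow_mem_pow (hw k) _
  have m1 := hprod (fun k => v (Sum.inl k)) I (fun k => hf _ (by omega)) fun k => s (Sum.inl k)
  have m2 := hprod (fun k => v (Sum.inr k)) J (fun k => hg _ (by omega)) fun k => s (Sum.inr k)
  by_cases hL : 2 ≤ ∑ k, s (Sum.inl k)
  · refine Ideal.mem_sup_left (Ideal.mul_mem_mul ?_ ?_)
    · rw [← pow_two]; exact Ideal.pow_le_pow_right hL m1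
    · exact Ideal.pow_le_self (by have := hc.1.2; omega) m2
  · refine Ideal.mem_sup_right ?_
    rw [mul_assoc]
    refine Ideal.mul_mem_mul (Ideal.pow_le_self (by have := hc.1.1; omega) m1) ?_
    rw [← pow_two]
    refine Ideal.pow_le_pow_right ?_ m2
    by_contra hR
    exact hs.1 (eq_topMon hn fun k =>
      ⟨hc.2.1 (by have := hc.1.1; omega) k, hc.2.2 (by have := hc.1.2; omega) k⟩)

end split

/-! ### leading constants -/

/-- (-1)^(n-1) n^(a-1) -/
def leadC (a n : ℕ) : ℤ := (-1) ^ (n - 1) * (n : ℤ) ^ (a - 1)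

variable {A : Type u} [CommRing A] [LambdaOps A]

/-- λ^n acts on y ∈ F^a as the scalar leadC a n modulo F^{a+1} -/
structure Good (𝔉 : IdealFil A) (a : ℕ) (y : A) : Prop where
  mem : y ∈ 𝔉.F a
  lam : ∀ n, 1 ≤ n → LambdaOps.lam n y - (leadC a n : A) * y ∈ 𝔉.F (a + 1)

theorem Good.lam_mem {𝔉 : IdealFil A} {a : ℕ} {y : A} (h : Good 𝔉 a y) {n : ℕ} (hn : 1 ≤ n) :
    LambdaOps.lam n y ∈ 𝔉.F a := by
  have := Ideal.add_mem _ (𝔉.le (Nat.le_succ a) (h.lam n hn)) (Ideal.mul_mem_left _ (leadC a n : A) h.mem)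
  simpa using this

theorem Good.zero (𝔉 : IdealFil A) (a : ℕ) : Good 𝔉 a (0 : A) :=
  ⟨zero_mem _, fun n hn => by simp [lam_apply_zero n (by omega)]⟩

theorem Good.of_lam_mem {𝔉 : IdealFil A} {a : ℕ} {y : A} (hy : y ∈ 𝔉.F (a + 1))
    (h : ∀ n, 1 ≤ n → LambdaOps.lam n y ∈ 𝔉.F (a + 1)) : Good 𝔉 a y :=
  ⟨𝔉.le (Nat.le_succ a) hy, fun n hn => sub_mem (h n hn) (Ideal.mul_mem_left _ _ hy)⟩

theorem Good.add {𝔉 : IdealFil A} {a : ℕ} (ha : 1 ≤ a) {y z : A} (hy : Good 𝔉 a y) (hz : Good 𝔉 a z) :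
    Good 𝔉 a (y + z) := by
  refine ⟨add_mem hy.mem hz.mem, fun n hn => ?_⟩
  obtain ⟨m, rfl⟩ : ∃ m, n = m + 1 := ⟨n - 1, by omega⟩
  rw [LambdaOps.lam_add, Finset.sum_range_succ, Finset.sum_range_succ', Nat.sub_self, LambdaOps.lam_zero,
    LambdaOps.lam_zero, one_mul, mul_one, Nat.sub_zero]
  rw [show (∑ k ∈ range m, LambdaOps.lam (k + 1) y * LambdaOps.lam (m + 1 - (k + 1)) z + LambdaOps.lam (m + 1) z) +
      LambdaOps.lam (m + 1) y - (leadC a (m + 1) : A) * (y + z) =
    (∑ k ∈ range m, LambdaOps.lam (k + 1) y * LambdaOps.lam (m + 1 - (k + 1)) z) +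
      (LambdaOps.lam (m + 1) y - (leadC a (m + 1) : A) * y) + (LambdaOps.lam (m + 1) z - (leadC a (m + 1) : A) * z) by ring]
  refine add_mem (add_mem (Ideal.sum_mem _ fun k hk => ?_) (hy.lam _ hn)) (hz.lam _ hn)
  rw [Finset.mem_range] at hk
  exact 𝔉.le (by omega) (𝔉.mul (hy.lam_mem (Nat.succ_le_succ (Nat.zero_le k))) (hz.lam_mem (by omega)))

theorem Good.neg {𝔉 : IdealFil A} {a : ℕ} (ha : 1 ≤ a) {y : A} (hy : Good 𝔉 a y) : Good 𝔉 a (-y) := by
  refine ⟨neg_mem hy.mem, fun n hn => ?_⟩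
  induction n using Nat.strong_induction_on with
  | _ n ih =>
    obtain ⟨m, rfl⟩ : ∃ m, n = m + 1 := ⟨n - 1, by omega⟩
    have h := LambdaOps.lam_add (m + 1) (-y) y
    rw [neg_add_cancel, lam_apply_zero _ (by omega), Finset.sum_range_succ, Finset.sum_range_succ', Nat.sub_self,
      LambdaOps.lam_zero, LambdaOps.lam_zero, one_mul, mul_one, Nat.sub_zero] at h
    rw [show LambdaOps.lam (m + 1) (-y) - (leadC a (m + 1) : A) * (-y) =
      -(∑ k ∈ range m, LambdaOps.lam (k + 1) (-y) * LambdaOps.lam (m + 1 - (k + 1)) y) -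
        (LambdaOps.lam (m + 1) y - (leadC a (m + 1) : A) * y) by linear_combination -h]
    refine sub_mem (neg_mem (Ideal.sum_mem _ fun k hk => ?_)) (hy.lam _ hn)
    rw [Finset.mem_range] at hk
    have h1 : LambdaOps.lam (k + 1) (-y) ∈ 𝔉.F a := by
      have := Ideal.add_mem _ (𝔉.le (Nat.le_succ a) (ih (k + 1) (by omega) (by omega)))
        (Ideal.mul_mem_left _ (leadC a (k + 1) : A) (neg_mem hy.mem))
      rwa [sub_add_cancel] at this
    exact 𝔉.le (by omega) (𝔉.mul h1 (hy.lam_mem (by omega)))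

theorem Good.sum {𝔉 : IdealFil A} {a : ℕ} (ha : 1 ≤ a) {ι : Type*} (s : Finset ι) {y : ι → A}
    (h : ∀ i ∈ s, Good 𝔉 a (y i)) : Good 𝔉 a (∑ i ∈ s, y i) := by
  classical
  induction s using Finset.induction with
  | empty => simpa using Good.zero 𝔉 a
  | insert b s hb ih =>
    rw [Finset.sum_insert hb]
    exact (h b (Finset.mem_insert_self b s)).add ha (ih fun i hi => h i (Finset.mem_insert_of_mem hi))

theorem leadC_mul {a b n : ℕ} (ha : 1 ≤ a) (hb : 1 ≤ b) :
    (-1) ^ (n - 1) * (n : ℤ) * (leadC a n * leadC b n) = leadC (a + b) n := by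
  rw [leadC, leadC, leadC, show a + b - 1 = 1 + (a - 1) + (b - 1) by omega, pow_add, pow_add, pow_one]
  have : ((-1 : ℤ) ^ (n - 1)) * (-1) ^ (n - 1) = 1 := by rw [← mul_pow]; simp
  linear_combination ((-1 : ℤ) ^ (n - 1) * (n : ℤ) * (n : ℤ) ^ (a - 1) * (n : ℤ) ^ (b - 1)) * this

theorem Good.mul (hA : IsSpecial A) {𝔉 : IdealFil A} {a b : ℕ} (ha : 1 ≤ a) (hb : 1 ≤ b) {y z : A}
    (hy : Good 𝔉 a y) (hz : Good 𝔉 b z) : Good 𝔉 (a + b) (y * z) := by
  refine ⟨𝔉.mul hy.mem hz.mem, fun n hn => ?_⟩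
  obtain ⟨P, hP⟩ := exists_isMulPoly n
  have h := mulPoly_linear_split hn hP (fun l => LambdaOps.lam l y) (fun l => LambdaOps.lam l z) (𝔉.F a) (𝔉.F b)
    (fun l hl => hy.lam_mem hl) (fun l hl => hz.lam_mem hl)
  rw [← hA.lam_mul n P hP] at h
  have hle : 𝔉.F a * 𝔉.F a * 𝔉.F b ⊔ 𝔉.F a * 𝔉.F b * 𝔉.F b ≤ 𝔉.F (a + b + 1) := by
    have hsub : ∀ p q, 𝔉.F p * 𝔉.F q ≤ 𝔉.F (p + q) := fun p q => Ideal.mul_le.mpr fun x hx w hw => 𝔉.mul hx hw
    refine sup_le ?_ ?_
    · exact ((Ideal.mul_mono_left (hsub a a)).trans (hsub _ _)).trans (𝔉.anti (by omega))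
    · exact ((Ideal.mul_mono_left (hsub a b)).trans (hsub _ _)).trans (𝔉.anti (by omega))
  have h2 : ((-1) ^ (n - 1) * (n : A)) * (LambdaOps.lam n y * LambdaOps.lam n z) - (leadC (a + b) n : A) * (y * z) ∈
      𝔉.F (a + b + 1) := by
    rw [← leadC_mul ha hb, Int.cast_mul, Int.cast_mul, Int.cast_mul, Int.cast_pow, Int.cast_neg, Int.cast_one, Int.cast_natCast,
      show ((-1) ^ (n - 1) * (n : A)) * (LambdaOps.lam n y * LambdaOps.lam n z) -
        (-1) ^ (n - 1) * (n : A) * ((leadC a n : A) * (leadC b n : A)) * (y * z) =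
      ((-1) ^ (n - 1) * (n : A)) * ((LambdaOps.lam n y - (leadC a n : A) * y) * LambdaOps.lam n z +
        (leadC a n : A) * (y * (LambdaOps.lam n z - (leadC b n : A) * z))) by ring]
    refine Ideal.mul_mem_left _ _ (add_mem (𝔉.le (by omega) (𝔉.mul (hy.lam n hn) (hz.lam_mem hn))) ?_)
    exact Ideal.mul_mem_left _ _ (𝔉.le (by omega) (𝔉.mul hy.mem (hz.lam n hn)))
  rw [show LambdaOps.lam n (y * z) - (leadC (a + b) n : A) * (y * z) =
    (LambdaOps.lam n (y * z) - (-1) ^ (n - 1) * (n : A) * (LambdaOps.lam n y * LambdaOps.lam n z)) +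
    ((-1) ^ (n - 1) * (n : A) * (LambdaOps.lam n y * LambdaOps.lam n z) - (leadC (a + b) n : A) * (y * z)) by ring]
  exact add_mem (hle h) h2

/-! ### base cases in the universal ring -/

theorem good_X {σ : Type} (i : σ) : @Good _ _ (uniOps σ) (degFil σ) 1 (X i) := by
  letI := uniOps σ
  have hX : (X i : MvPolynomial σ ℚ) ∈ (degFil σ).F 1 := by
    change X i ∈ idealOfVars σ ℚ ^ 1
    rw [pow_one]; exact Ideal.subset_span ⟨i, rfl⟩
  have h : ∀ m, LambdaOps.lam (m + 1) (X i : MvPolynomial σ ℚ) = (-1) ^ m * X i := by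
    intro m
    induction m with
    | zero => simp [LambdaOps.lam_one]
    | succ m ih =>
      have h1 := lam_add_one (K := MvPolynomial σ ℚ) lam_one_uni (m + 1) (X i)
      rw [lam_uline (by rw [add_comm]; exact isULine_one_add_X i) _ (by omega), ih] at h1
      linear_combination -h1
  refine ⟨hX, fun n hn => ?_⟩
  obtain ⟨m, rfl⟩ : ∃ m, n = m + 1 := ⟨n - 1, by omega⟩
  rw [h]; simp [leadC]

theorem good_esymm {σ : Type} [Fintype σ] {r : ℕ} (hr : 1 ≤ r) :
    @Good _ _ (uniOps σ) (degFil σ) r (esymm σ ℚ r) := by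
  letI := uniOps σ
  classical
  rw [MvPolynomial.esymm]
  refine Good.sum hr _ fun t ht => ?_
  have key : ∀ t : Finset σ, t.Nonempty → Good (degFil σ) t.card (∏ i ∈ t, (X i : MvPolynomial σ ℚ)) := by
    intro t ht
    induction t using Finset.induction with
    | empty => simp at ht
    | insert b t hb ih =>
      rw [Finset.prod_insert hb, Finset.card_insert_of_notMem hb]
      rcases t.eq_empty_or_nonempty with rfl | ht'
      · simpa using good_X b
      · rw [add_comm t.card 1]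
        exact (good_X b).mul isSpecial_uni le_rfl (Finset.card_pos.mpr ht') (ih ht')
  rw [Finset.mem_powersetCard] at ht
  rw [← ht.2] at hr ⊢
  exact key t (Finset.card_pos.mp hr)

end Groth.Agent.LambdaLib
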