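import Groth.Prelude.Def_W4bkmilneecrracsp2Inv
import Groth.Agent.LambdaLib.KGrBasic
import Groth.Agent.LambdaLib.Lines

/-!
# Todd class times the Chern character of λ_{-1}(e^∨)
-/

universe u v

open Finset LambdaRing MvPolynomial

namespace Groth.Agent.LambdaLib

variable {K : Type u} [CommRing K] [LambdaOps K] {P : PosStructure K}

/-! ### generalities on weights -/

theorem weight_ge_of_aeval_mem' {C : Type v} [CommRing C] {ι : Type} {τ : Type} {W : ι → ℕ}
    {g : ι → MvPolynomial τ C} (hg : ∀ i, IsWeightedHomogeneous (fun _ => (1 : ℕ)) (g i) (W i))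
    (hinj : Function.Injective (aeval (R := C) g)) {d : ℕ} {Φ : MvPolynomial ι C}
    (h : aeval g Φ ∈ idealOfVars τ C ^ d) : ∀ s ∈ Φ.support, d ≤ Finsupp.weight W s := by
  classical
  intro s hs
  by_contra hlt
  have h0 : weightedHomogeneousComponent W (Finsupp.weight W s) Φ = 0 := by
    apply hinj
    rw [← aeval_isWeightedHomogeneous_component W (fun _ => (1 : ℕ)) g hg, map_zero]
    ext x
    rw [coeff_weightedHomogeneousComponent, coeff_zero]
    split_ifs with hx
    · exact (mem_pow_idealOfVars_iff' d _).mp h x (by rw [Finsupp.degree_eq_weight_one]; exact hx ▸ not_le.mp hlt)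
    · rfl
  have h3 := congrArg (coeff s) h0
  rw [coeff_weightedHomogeneousComponent, if_pos rfl, coeff_zero] at h3
  exact (MvPolynomial.mem_support_iff.mp hs) h3

theorem mem_idealOfVars_pow_of_homogeneous {C : Type v} [CommRing C] {σ : Type} {m : ℕ} {Φ : MvPolynomial σ C}
    (h : Φ.IsHomogeneous m) : Φ ∈ idealOfVars σ C ^ m :=
  (mem_pow_idealOfVars_iff' m _).mpr fun x hx => h.coeff_eq_zero (by omega)

theorem prod_one_add_sub_one_mem {σ : Type} (t : Finset σ) :
    (∏ i ∈ t, (1 + X i) - 1 : MvPolynomial σ ℤ) ∈ idealOfVars σ ℤ ∧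
      (∏ i ∈ t, (1 + X i) - 1 - ∑ i ∈ t, X i : MvPolynomial σ ℤ) ∈ idealOfVars σ ℤ ^ 2 := by
  classical
  induction t using Finset.induction with
  | empty => simp
  | insert a t ha ih =>
    have hX : (X a : MvPolynomial σ ℤ) ∈ idealOfVars σ ℤ := Ideal.subset_span ⟨a, rfl⟩
    rw [Finset.prod_insert ha, Finset.sum_insert ha]
    constructor
    · rw [show ((1 + X a) * ∏ i ∈ t, (1 + X i) - 1 : MvPolynomial σ ℤ) =
        (∏ i ∈ t, (1 + X i) - 1) + X a * ∏ i ∈ t, (1 + X i) by ring]
      exact add_mem ih.1 (Ideal.mul_mem_right _ _ hX)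
    · rw [show ((1 + X a) * ∏ i ∈ t, (1 + X i) - 1 - (X a + ∑ i ∈ t, X i) : MvPolynomial σ ℤ) =
        (∏ i ∈ t, (1 + X i) - 1 - ∑ i ∈ t, X i) + X a * (∏ i ∈ t, (1 + X i) - 1) by ring]
      exact add_mem ih.2 (by rw [pow_two]; exact Ideal.mul_mem_mul hX ih.1)

theorem pow_sub_pow_mem {C : Type v} [CommRing C] {I : Ideal C} {a b : C} (ha : a ∈ I) (hb : b ∈ I)
    (h : a - b ∈ I ^ 2) : ∀ m : ℕ, a ^ m - b ^ m ∈ I ^ (m + 1)
  | 0 => by simp
  | m + 1 => by
    rw [show a ^ (m + 1) - b ^ (m + 1) = (a - b) * a ^ m + b * (a ^ m - b ^ m) by ring]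
    refine add_mem ?_ ?_
    · have := Ideal.mul_mem_mul h (Ideal.pow_mem_pow ha m)
      rwa [← pow_add, show 2 + m = m + 1 + 1 by omega] at this
    · have := Ideal.mul_mem_mul hb (pow_sub_pow_mem ha hb h m)
      rwa [← pow_succ'] at this

theorem eq_line_sum {L : Type u} [CommRing L] [LambdaOps L] (PL : PosStructure L) {n : ℕ} (y : Fin n → L)
    (hy : ∀ i, PL.IsLine (y i)) : gammaSeries (∑ i, y i - (n : L)) = ∏ i, (1 + PowerSeries.C (y i - 1) * PowerSeries.X) := by
  rw [show ∑ i, y i - (n : L) = ∑ i, (y i - 1) by simp, gammaSeries_sum]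
  exact Finset.prod_congr rfl fun i _ => gammaSeries_line_sub_one (lam_one_eq_zero PL) (lam_line_eq_zero PL (hy i))

namespace GrTarget

variable {R : Type u} [CommRing R] {G : GrTarget P R}

theorem isCls_monomial {σ : Type} [Fintype σ] (W : σ → ℕ) {a : σ → K} {c : σ → R}
    (h : ∀ i, G.IsCls (W i) (a i) (c i)) (s : σ →₀ ℕ) :
    G.IsCls (Finsupp.weight W s) (s.prod fun i k => a i ^ k) (s.prod fun i k => c i ^ k) := by
  rw [Finsupp.weight_apply, Finsupp.sum, Finsupp.prod, Finsupp.prod]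
  refine IsCls.prod _ fun i _ => ?_
  rw [smul_eq_mul, mul_comm]
  exact (h i).pow _

theorem isCls_aeval {σ : Type} [Fintype σ] (W : σ → ℕ) {a : σ → K} {c : σ → R}
    (h : ∀ i, G.IsCls (W i) (a i) (c i)) {m : ℕ} {Ψ : MvPolynomial σ ℤ}
    (hΨ : ∀ s ∈ Ψ.support, m ≤ Finsupp.weight W s) :
    G.IsCls m (aeval a Ψ) (aeval c (weightedHomogeneousComponent W m Ψ)) := by
  classical
  rw [show aeval a Ψ = ∑ s ∈ Ψ.support, aeval a (monomial s (coeff s Ψ)) by rw [← map_sum, ← Ψ.as_sum],
    show aeval c (weightedHomogeneousComponent W m Ψ) =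
      ∑ s ∈ Ψ.support, aeval c (weightedHomogeneousComponent W m (monomial s (coeff s Ψ))) by
        rw [← map_sum, ← map_sum, ← Ψ.as_sum]]
  refine IsCls.sum _ fun s hs => ?_
  have hz := ((IsCls.intCast (G := G) (coeff s Ψ)).mul (isCls_monomial W h s))
  rw [zero_add] at hz
  rw [weightedHomogeneousComponent_of_mem (isWeightedHomogeneous_monomial W s (coeff s Ψ) rfl), aeval_monomial]
  split_ifs with hw
  · subst hw
    rw [aeval_monomial]
    simpa [algebraMap_int_eq] using hz
  · rw [map_zero]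
    exact IsCls.of_succ (v := Finsupp.weight W s) (by simpa [algebraMap_int_eq] using hz.1) (by have := hΨ s hs; omega)

theorem isCls_gamma_of_aug {x : K} {n : ℕ} (hx : P.aug x = (n : ℤ)) (k : ℕ) :
    G.IsCls k (gamma k (x - (n : K))) (G.chern k x) := by
  have := isCls_chern (G := G) x k
  rwa [hx, Int.cast_natCast] at this

/-- classes of symmetric expressions in the roots -/
theorem isCls_of_symm {L : PosLambdaRing.{u}} {f : K →+* L.carrier} (hf : IsExtension P L.posStr f) {n : ℕ}
    (y : Fin n → L.carrier) (hy : ∀ i, L.posStr.IsLine (y i)) {x : K} (hx : P.aug x = (n : ℤ)) (hsum : ∑ i, y i = f x)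
    {m : ℕ} {Φ Φ0 : MvPolynomial (Fin n) ℤ} (hΦ : Φ.IsSymmetric) (hΦ0 : Φ0.IsHomogeneous m)
    (hord : Φ - Φ0 ∈ idealOfVars (Fin n) ℤ ^ (m + 1)) {a : K} (ha : f a = aeval (fun i => y i - 1) Φ) :
    ∃ Rp : MvPolynomial (Fin n) ℤ, aeval (fun k : Fin n => esymm (Fin n) ℤ ((k : ℕ) + 1)) Rp = Φ0 ∧
      G.IsCls m a (aeval (fun k : Fin n => G.chern ((k : ℕ) + 1) x) Rp) := by
  classical
  obtain ⟨Ψ, hΨ'⟩ := esymmAlgHom_surjective ℤ (σ := Fin n) (n := n) (Fintype.card_fin n).le ⟨_, hΦ⟩
  have hΨ : aeval (fun k : Fin n => esymm (Fin n) ℤ ((k : ℕ) + 1)) Ψ = Φ := by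
    have := congrArg Subtype.val hΨ'
    rwa [esymmAlgHom_apply] at this
  set W : Fin n → ℕ := fun k => (k : ℕ) + 1
  have hg : ∀ k : Fin n, IsWeightedHomogeneous (fun _ => (1 : ℕ)) (esymm (Fin n) ℤ ((k : ℕ) + 1)) (W k) :=
    fun k => esymm_isHomogeneous' ((k : ℕ) + 1)
  have hord' : Φ ∈ idealOfVars (Fin n) ℤ ^ m := by
    have := add_mem (Ideal.pow_le_pow_right (Nat.le_succ m) hord) (mem_idealOfVars_pow_of_homogeneous hΦ0)
    rwa [sub_add_cancel] at this
  refine ⟨weightedHomogeneousComponent W m Ψ, ?_, ?_⟩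
  · rw [← aeval_isWeightedHomogeneous_component W (fun _ => (1 : ℕ)) _ hg, hΨ]
    ext s
    rw [coeff_weightedHomogeneousComponent]
    split_ifs with hs
    · have h0 := (mem_pow_idealOfVars_iff' (m + 1) _).mp hord s (by rw [Finsupp.degree_eq_weight_one]; exact Nat.lt_succ_of_le hs.le)
      rw [coeff_sub, sub_eq_zero] at h0
      exact h0
    · exact (hΦ0.coeff_eq_zero (by rw [Finsupp.degree_eq_weight_one]; exact hs)).symm
  · have ha' : a = aeval (fun k : Fin n => gamma ((k : ℕ) + 1) (x - (n : K))) Ψ := by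
      apply hf.injective
      rw [ha, map_aeval_int (iT := (inferInstance : Algebra ℤ L.carrier)) f, ← hΨ, ← AlgHom.comp_apply, comp_aeval]
      refine congrArg (fun g => aeval g Ψ) (funext fun k => ?_)
      rw [gamma_map hf.isLambdaHom, map_sub, map_natCast, ← hsum, gamma_sub_card_eq_aeval L.posStr y hy]
    rw [ha']
    exact isCls_aeval W (fun k => isCls_gamma_of_aug hx _)
      (weight_ge_of_aeval_mem' hg (aeval_esymm_injective (by simp)) (by rw [hΨ]; exact hord'))

/-- the classes of the dual -/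
theorem chern_inv {L : PosLambdaRing.{u}} {f : K →+* L.carrier} (hf : IsExtension P L.posStr f) {n : ℕ}
    (y z : Fin n → L.carrier) (hy : ∀ i, L.posStr.IsLine (y i)) (hz : ∀ i, L.posStr.IsLine (z i))
    (hzy : ∀ i, z i * y i = 1) {e q : K} (he : P.aug e = (n : ℤ)) (hq : P.aug q = (n : ℤ)) (hsy : ∑ i, y i = f e)
    (hsz : ∑ i, z i = f q) (i : ℕ) (hi : i ≤ n) : G.chern i q = (-1) ^ i * G.chern i e := by
  classical
  have hser : gammaSeries (f (q - (n : K))) * PowerSeries.C (f (LambdaOps.lam n e)) =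
      ∑ j ∈ range (n + 1), PowerSeries.C (f (gamma j (e - (n : K)))) * (1 - PowerSeries.X) ^ j := by
    rw [map_sub, map_natCast, ← hsz, eq_line_sum L.posStr z hz, hf.isLambdaHom, ← hsy,
      lam_sum_lines _ _ (fun k _ => lam_line_eq_zero _ (hy k)), powersetCard_univ_self, Finset.sum_singleton,
      map_prod, ← Finset.prod_mul_distrib]
    have : ∀ k, (1 + PowerSeries.C (z k - 1) * PowerSeries.X) * PowerSeries.C (y k) =
        1 + PowerSeries.C (y k - 1) * (1 - PowerSeries.X) := by
      intro k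
      have h1 : PowerSeries.C (z k) * PowerSeries.C (y k) = 1 := by rw [← map_mul, hzy, map_one]
      rw [map_sub, map_sub, map_one]
      linear_combination PowerSeries.X * h1
    rw [Finset.prod_congr rfl fun k _ => this k, Finset.prod_one_add, Finset.sum_powerset, Finset.card_univ, Fintype.card_fin]
    refine Finset.sum_congr rfl fun j _ => ?_
    rw [gamma_map hf.isLambdaHom, map_sub, map_natCast, ← hsy, gamma_sub_card_eq_aeval L.posStr y hy, aeval_esymm_eq,
      map_sum, Finset.sum_mul]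
    refine Finset.sum_congr rfl fun t ht => ?_
    rw [Finset.prod_mul_distrib, Finset.prod_const, (Finset.mem_powersetCard.mp ht).2, map_prod]
  have key : gamma i (q - (n : K)) * LambdaOps.lam n e =
      ∑ j ∈ range (n + 1), ((((-1) ^ i * (j.choose i : ℤ)) : ℤ) : K) * gamma j (e - (n : K)) := by
    apply hf.injective
    have h := congrArg (PowerSeries.coeff i) hser
    rw [PowerSeries.coeff_mul_C, coeff_gammaSeries, map_sum, ← gamma_map hf.isLambdaHom] at h
    rw [map_mul, h, map_sum]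
    refine Finset.sum_congr rfl fun j _ => ?_
    rw [PowerSeries.coeff_C_mul, map_mul, map_intCast]
    rw [show ((1 - PowerSeries.X) ^ j : PowerSeries L.carrier) = PowerSeries.rescale (-1) ((1 + PowerSeries.X) ^ j) by
      rw [map_pow, map_add, map_one, PowerSeries.rescale_X, map_neg, map_one, neg_one_mul, ← sub_eq_add_neg],
      PowerSeries.coeff_rescale, coeff_one_add_X_pow]
    push_cast
    ring
  have hu : G.IsCls 0 (LambdaOps.lam n e) 1 := by
    have h1 : LambdaOps.lam n e - 1 ∈ gammaFiltration P 1 := by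
      refine mem_one_of_aug_eq_zero P ?_
      rw [← hf.aug_comp, map_sub, map_one, hf.isLambdaHom, ← hsy,
        lam_sum_lines _ _ (fun k _ => lam_line_eq_zero _ (hy k)), powersetCard_univ_self, Finset.sum_singleton,
        map_sub, map_prod, map_one]
      simp [(hy _).2]
    have := (IsCls.one (G := G)).add (IsCls.of_succ (G := G) h1 Nat.zero_lt_one)
    rwa [add_sub_cancel, add_zero] at this
  have hl := (isCls_gamma_of_aug (G := G) hq i).mul hu
  rw [mul_one, add_zero, key] at hl
  have hr : G.IsCls i (∑ j ∈ range (n + 1), ((((-1) ^ i * (j.choose i : ℤ)) : ℤ) : K) * gamma j (e - (n : K)))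
      (∑ j ∈ range (n + 1), if j = i then (-1) ^ i * G.chern i e else 0) := by
    refine IsCls.sum _ fun j _ => ?_
    split_ifs with hj
    · subst hj
      have := (IsCls.intCast (G := G) ((-1) ^ j * (j.choose j : ℤ))).mul (isCls_gamma_of_aug (G := G) he j)
      rw [zero_add] at this
      simpa using this
    · rcases lt_or_gt_of_ne hj with h | h
      · rw [Nat.choose_eq_zero_of_lt h, Nat.cast_zero, mul_zero, Int.cast_zero, zero_mul]
        exact IsCls.zero i
      · exact IsCls.of_succ (mul_mem_left P _ (isCls_gamma_of_aug (G := G) he j).1) h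
  rw [← hl.2, hr.2, Finset.sum_ite_eq', if_pos (Finset.mem_range.mpr (by omega))]

variable [Algebra ℚ R]

theorem aeval_chern_eq_zero {d : ℕ} (hd : gammaFiltration P (d + 1) = ⊥) {n : ℕ} {x : K} (hx : P.aug x = (n : ℤ))
    {Φ : MvPolynomial (Fin n) ℚ}
    (hΦ : aeval (fun k : Fin n => esymm (Fin n) ℚ ((k : ℕ) + 1)) Φ ∈ idealOfVars (Fin n) ℚ ^ (d + 1)) :
    aeval (fun k : Fin n => G.chern ((k : ℕ) + 1) x) Φ = 0 := by
  classical
  set W : Fin n → ℕ := fun k => (k : ℕ) + 1
  have hw := weight_ge_of_aeval_mem' (W := W) (fun k => esymm_isHomogeneous' ((k : ℕ) + 1))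
    (aeval_esymm_injective (by simp)) hΦ
  rw [aeval_def, eval₂_eq]
  refine Finset.sum_eq_zero fun s hs => ?_
  have h := isCls_monomial (G := G) W (a := fun k => gamma ((k : ℕ) + 1) (x - (n : K)))
    (fun k => isCls_gamma_of_aug hx _) s
  have h0 : (s.prod fun i k => gamma ((i : ℕ) + 1) (x - (n : K)) ^ k) = 0 := by
    have := gammaFiltration_antitone P (hw s hs) h.1
    rwa [hd, AddSubgroup.mem_bot] at this
  have h2 := h.2
  rw [h0, G.cl_zero] at h2
  change algebraMap ℚ R (coeff s Φ) * s.prod (fun i k => G.chern ((i : ℕ) + 1) x ^ k) = 0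
  rw [← h2, mul_zero]

/-- the Todd class -/
noncomputable def tdK (G : GrTarget P R) (d : ℕ) (x : K) : R :=
  MvPolynomial.aeval (fun i : Fin d => G.chern (i.1 + 1) x) (KGr.toddPoly d)

end GrTarget

/-! ### the Todd identity -/

theorem toddPoly_roots {S : Type v} [CommRing S] [Algebra ℚ S] (d : ℕ) (x : Fin d → S) :
    aeval (fun i : Fin d => ((univ : Finset (Fin d)).val.map x).esymm ((i : ℕ) + 1)) (KGr.toddPoly d) =
      ∏ i : Fin d, Polynomial.aeval (x i) (KGr.toddTrunc d) := by
  have h := (esymmAlgEquiv (Fin d) ℚ (Fintype.card_fin d)).apply_symm_apply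
    ⟨∏ i : Fin d, Polynomial.aeval (X i : MvPolynomial (Fin d) ℚ) (KGr.toddTrunc d),
      KGr.isSymmetric_prod_aeval d (KGr.toddTrunc d)⟩
  have h2 := congrArg Subtype.val h
  have h3 : aeval (fun i : Fin d => esymm (Fin d) ℚ ((i : ℕ) + 1)) (KGr.toddPoly d) =
      ∏ i : Fin d, Polynomial.aeval (X i : MvPolynomial (Fin d) ℚ) (KGr.toddTrunc d) := by
    refine Eq.trans ?_ h2
    exact (esymmAlgHom_apply (σ := Fin d) (R := ℚ) (n := d) (KGr.toddPoly d)).symm
  have h4 := congrArg (aeval (R := ℚ) x) h3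
  rw [← AlgHom.comp_apply, comp_aeval, map_prod] at h4
  simp only [← Polynomial.aeval_algHom_apply, aeval_X] at h4
  rw [← h4]
  refine congrArg (fun g => aeval g (KGr.toddPoly d)) (funext fun i => ?_)
  rw [aeval_esymm_eq, Finset.esymm_map_val]

theorem toddTrunc_eval_zero {S : Type v} [CommRing S] [Algebra ℚ S] (d : ℕ) :
    Polynomial.aeval (0 : S) (KGr.toddTrunc d) = 1 := by
  simp only [KGr.toddTrunc, map_sum, map_mul, map_pow, Polynomial.aeval_C, Polynomial.aeval_X]
  rw [Finset.sum_range_succ', Finset.sum_eq_zero fun k _ => by rw [zero_pow (Nat.succ_ne_zero k), mul_zero]]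
  simp

theorem toddPoly_roots_of_card_le {S : Type v} [CommRing S] [Algebra ℚ S] (d : ℕ) (T : Multiset S) (m : ℕ)
    (hT : Multiset.card T ≤ d) :
    aeval (fun i : Fin d => (Multiset.replicate m (0 : S) + T).esymm ((i : ℕ) + 1)) (KGr.toddPoly d) =
      ((Multiset.replicate m (0 : S) + T).map fun a => Polynomial.aeval a (KGr.toddTrunc d)).prod := by
  simp only [esymm_replicate_zero_add, Multiset.map_add, Multiset.map_replicate, toddTrunc_eval_zero,
    Multiset.prod_add, Multiset.prod_replicate, one_pow, one_mul]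
  set T' := Multiset.replicate (d - Multiset.card T) (0 : S) + T with hT'
  have hc : Multiset.card T' = d := by simp [hT']; omega
  obtain ⟨x, hx⟩ := exists_fin_map T'
  obtain ⟨x', hx'⟩ : ∃ x' : Fin d → S, (univ : Finset (Fin d)).val.map x' = T' := by
    rw [← hc]; exact ⟨x, hx⟩
  have h := toddPoly_roots d x'
  rw [hx'] at h
  simp only [hT', esymm_replicate_zero_add] at h
  rw [h, show (∏ i, Polynomial.aeval (x' i) (KGr.toddTrunc d)) =
    (((univ : Finset (Fin d)).val.map x').map fun a => Polynomial.aeval a (KGr.toddTrunc d)).prod by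
      rw [Multiset.map_map]; rfl, hx', hT']
  simp [Multiset.map_add, Multiset.map_replicate, toddTrunc_eval_zero]

theorem toddPoly_sub_prod_mem (d n : ℕ) :
    aeval (fun i : Fin d => esymm (Fin n) ℚ ((i : ℕ) + 1)) (KGr.toddPoly d) -
        ∏ i : Fin n, Polynomial.aeval (X i : MvPolynomial (Fin n) ℚ) (KGr.toddTrunc d) ∈
      idealOfVars (Fin n) ℚ ^ (d + 1) := by
  classical
  refine (mem_pow_idealOfVars_iff' _ _).mpr fun s hs => ?_
  set A := s.support
  have hA : A.card ≤ d := by
    refine le_trans ?_ (Nat.le_of_lt_succ hs)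
    rw [Finsupp.degree_apply, Finset.card_eq_sum_ones]
    exact Finset.sum_le_sum fun i hi => Nat.one_le_iff_ne_zero.mpr (Finsupp.mem_support_iff.mp hi)
  rw [← coeff_keep A _ s subset_rfl, map_sub]
  set S := (univ : Finset (Fin n)).val.map fun i => if i ∈ A then (X i : MvPolynomial (Fin n) ℚ) else 0
  have h1 : keep A (aeval (fun i : Fin d => esymm (Fin n) ℚ ((i : ℕ) + 1)) (KGr.toddPoly d)) =
      aeval (fun i : Fin d => S.esymm ((i : ℕ) + 1)) (KGr.toddPoly d) := by
    rw [← AlgHom.comp_apply, comp_aeval]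
    refine congrArg (fun g => aeval g (KGr.toddPoly d)) (funext fun i => ?_)
    rw [keep, aeval_esymm_eq, Finset.esymm_map_val]
    congr!
  have h2 : keep A (∏ i : Fin n, Polynomial.aeval (X i : MvPolynomial (Fin n) ℚ) (KGr.toddTrunc d)) =
      (S.map fun a => Polynomial.aeval a (KGr.toddTrunc d)).prod := by
    rw [map_prod, Multiset.map_map]
    refine Finset.prod_congr rfl fun i _ => ?_
    simp [← Polynomial.aeval_algHom_apply, keep]
    congr!
  have hS : S = Multiset.replicate (univ \ A).card 0 + A.val.map X := by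
    have hu : (univ : Finset (Fin n)).val = (univ \ A).val + A.val := by
      rw [← Finset.disjUnion_val, Finset.disjUnion_eq_union, Finset.sdiff_union_of_subset (Finset.subset_univ A)]
      exact Finset.sdiff_disjoint
    simp only [S]
    rw [hu, Multiset.map_add]
    congr 1
    · rw [Multiset.map_congr rfl fun i hi => if_neg (Finset.mem_sdiff.mp (Finset.mem_val.mp hi)).2, Multiset.map_const']
      rfl
    · exact Multiset.map_congr rfl fun i hi => if_pos (Finset.mem_val.mp hi)
  rw [h1, h2, hS, toddPoly_roots_of_card_le d _ _ (by simpa using hA), sub_self, coeff_zero]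

theorem todd_series_identity :
    bernoulli'PowerSeries ℚ * (1 - PowerSeries.evalNegHom (PowerSeries.exp ℚ)) = PowerSeries.X := by
  have h := bernoulli'PowerSeries_mul_exp_sub_one ℚ
  have h2 := PowerSeries.exp_mul_exp_neg_eq_one (A := ℚ)
  linear_combination PowerSeries.evalNegHom (PowerSeries.exp ℚ) * h - (bernoulli'PowerSeries ℚ - PowerSeries.X) * h2

theorem todd_mul_one_sub_exp {Q : Type v} [CommRing Q] [Algebra ℚ Q] {x : Q} {d : ℕ} (hx : x ^ (d + 1) = 0) :
    Polynomial.aeval x (KGr.toddTrunc d) * (1 - IsNilpotent.exp (-x)) = x := by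
  classical
  set E : Polynomial ℚ := ∑ k ∈ range (d + 1), Polynomial.C ((-1) ^ k / (k.factorial : ℚ)) * Polynomial.X ^ k
  have hE : Polynomial.aeval x E = IsNilpotent.exp (-x) := by
    rw [IsNilpotent.exp_eq_sum (k := d + 1) (by rw [neg_pow, hx, mul_zero]), map_sum]
    refine Finset.sum_congr rfl fun k _ => ?_
    rw [map_mul, map_pow, Polynomial.aeval_C, Polynomial.aeval_X, Algebra.smul_def, neg_pow x, ← mul_assoc]
    congr 1
    rw [show ((-1 : Q) ^ k) = algebraMap ℚ Q ((-1) ^ k) by simp, ← map_mul]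
    congr 1
    ring
  have hdvd : Polynomial.X ^ (d + 1) ∣ KGr.toddTrunc d * (1 - E) - Polynomial.X := by
    rw [Polynomial.X_pow_dvd_iff]
    intro j hj
    have hb : ∀ i ≤ j, (KGr.toddTrunc d).coeff i = PowerSeries.coeff i (bernoulli'PowerSeries ℚ) := by
      intro i hi
      rw [KGr.toddTrunc, Polynomial.finsetSum_coeff]
      simp only [Polynomial.coeff_C_mul_X_pow]
      rw [Finset.sum_ite_eq, if_pos (Finset.mem_range.mpr (by omega)), bernoulli'PowerSeries, PowerSeries.coeff_mk]
      simp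
    have he : ∀ i ≤ j, (1 - E).coeff i = PowerSeries.coeff i (1 - PowerSeries.evalNegHom (PowerSeries.exp ℚ)) := by
      intro i hi
      rw [Polynomial.coeff_sub, Polynomial.finsetSum_coeff, map_sub, PowerSeries.coeff_one, Polynomial.coeff_one,
        PowerSeries.evalNegHom, PowerSeries.coeff_rescale, PowerSeries.coeff_exp]
      simp only [Polynomial.coeff_C_mul_X_pow]
      rw [Finset.sum_ite_eq, if_pos (Finset.mem_range.mpr (by omega))]
      simp [div_eq_mul_inv]
    rw [Polynomial.coeff_sub, Polynomial.coeff_mul, sub_eq_zero, ← Polynomial.coeff_coe (φ := Polynomial.X),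
      Polynomial.coe_X, ← todd_series_identity, PowerSeries.coeff_mul]
    refine Finset.sum_congr rfl fun p hp => ?_
    obtain rfl : p.1 + p.2 = j := by simpa using hp
    rw [hb _ (by omega), he _ (by omega)]
  obtain ⟨g, hg⟩ := hdvd
  have h := congrArg (Polynomial.aeval x) hg
  rw [map_sub, map_mul, map_sub, map_one, hE, Polynomial.aeval_X, map_mul, map_pow, Polynomial.aeval_X, hx, zero_mul,
    sub_eq_zero] at h
  exact h

theorem exp_sum {Q : Type v} [CommRing Q] [Algebra ℚ Q] {ι : Type*} (t : Finset ι) {x : ι → Q}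
    (hx : ∀ i, IsNilpotent (x i)) :
    IsNilpotent.exp (∑ i ∈ t, x i) = ∏ i ∈ t, IsNilpotent.exp (x i) ∧ IsNilpotent (∑ i ∈ t, x i) := by
  classical
  induction t using Finset.induction with
  | empty => simp
  | insert a t ha ih =>
    rw [Finset.sum_insert ha, Finset.prod_insert ha]
    refine ⟨?_, Commute.isNilpotent_add (Commute.all _ _) (hx a) ih.2⟩
    rw [IsNilpotent.exp_add_of_commute (Commute.all _ _) (hx a) ih.2, ih.1]

theorem todd_sum {Q : Type v} [CommRing Q] [Algebra ℚ Q] {d n : ℕ} (x : Fin n → Q) (hx : ∀ i, x i ^ (d + 1) = 0)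
    (hs : ∀ t : Finset (Fin n), (∑ i ∈ t, x i) ^ (d + 1) = 0) :
    (∏ i : Fin n, Polynomial.aeval (x i) (KGr.toddTrunc d)) *
        (∑ m ∈ range (d + 1), algebraMap ℚ Q (1 / (m.factorial : ℚ)) *
          ∑ t : Finset (Fin n), (-1) ^ t.card * (-∑ i ∈ t, x i) ^ m) = ∏ i : Fin n, x i := by
  classical
  have hin : ∀ t : Finset (Fin n), ∑ m ∈ range (d + 1), algebraMap ℚ Q (1 / (m.factorial : ℚ)) *
      ((-1) ^ t.card * (-∑ i ∈ t, x i) ^ m) = ∏ i ∈ t, -IsNilpotent.exp (-(x i)) := by
    intro t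
    have hs' : (-∑ i ∈ t, x i) ^ (d + 1) = 0 := by rw [neg_pow, hs t, mul_zero]
    rw [Finset.prod_neg, ← (exp_sum t fun i => ⟨d + 1, by rw [neg_pow, hx, mul_zero]⟩).1, Finset.sum_neg_distrib,
      IsNilpotent.exp_eq_sum hs', Finset.mul_sum]
    refine Finset.sum_congr rfl fun m _ => ?_
    rw [Algebra.smul_def, one_div]
    ring
  simp only [Finset.mul_sum (s := (univ : Finset (Finset (Fin n))))]
  rw [Finset.sum_comm, Finset.sum_congr rfl fun t _ => hin t]
  have h : ∏ i, (1 - IsNilpotent.exp (-(x i))) = ∑ t : Finset (Fin n), ∏ i ∈ t, -IsNilpotent.exp (-(x i)) := by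
    simp only [sub_eq_add_neg (1 : Q), Finset.prod_one_add]
    rw [Finset.powerset_univ]
  rw [← h, ← Finset.prod_mul_distrib]
  exact Finset.prod_congr rfl fun i _ => todd_mul_one_sub_exp (hx i)

theorem todd_main (d n : ℕ) :
    (∏ i : Fin n, Polynomial.aeval (X i : MvPolynomial (Fin n) ℚ) (KGr.toddTrunc d)) *
        (∑ m ∈ range (d + 1), C (1 / (m.factorial : ℚ)) *
          ∑ t : Finset (Fin n), (-1) ^ t.card * (-∑ i ∈ t, X i) ^ m) - ∏ i : Fin n, X i ∈
      idealOfVars (Fin n) ℚ ^ (d + 1) := by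
  classical
  rw [← Ideal.Quotient.eq]
  have hpow : ∀ p ∈ idealOfVars (Fin n) ℚ, Ideal.Quotient.mkₐ ℚ (idealOfVars (Fin n) ℚ ^ (d + 1)) p ^ (d + 1) = 0 :=
    fun p hp => by
      rw [← map_pow, Ideal.Quotient.mkₐ_eq_mk, Ideal.Quotient.eq_zero_iff_mem]; exact Ideal.pow_mem_pow hp _
  have h := todd_sum (fun i : Fin n => Ideal.Quotient.mkₐ ℚ (idealOfVars (Fin n) ℚ ^ (d + 1)) (X i))
    (fun i => hpow _ (Ideal.subset_span ⟨i, rfl⟩))
    (fun t => by rw [← map_sum]; exact hpow _ (Ideal.sum_mem _ fun i _ => Ideal.subset_span ⟨i, rfl⟩))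
  rw [← Ideal.Quotient.mkₐ_eq_mk ℚ, map_mul, map_prod, map_prod, map_sum]
  simp only [← Polynomial.aeval_algHom_apply, map_mul, map_sum, map_pow, map_neg, map_one, ← algebraMap_eq, AlgHom.commutes]
  exact h

/-! ### assembling -/

theorem neg_one_pow_mul_pw (m k : ℕ) (x : K) : pw P m ((-1) ^ k * x) = (-1) ^ k * pw P m x := by
  rcases neg_one_pow_eq_or K k with h | h <;> rw [h]
  · rw [one_mul, one_mul]
  · rw [neg_one_mul, neg_one_mul, ← pwHom_apply, map_neg, pwHom_apply]

theorem isSymmetric_sum_finset {C : Type v} [CommRing C] {n : ℕ} (F : Finset (Fin n) → MvPolynomial (Fin n) C)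
    (hF : ∀ (e : Equiv.Perm (Fin n)) (t : Finset (Fin n)), rename e (F t) = F (t.map e.toEmbedding)) :
    (∑ t : Finset (Fin n), F t).IsSymmetric := by
  intro e
  rw [map_sum]
  exact Fintype.sum_equiv e.finsetCongr _ _ fun t => by rw [hF]; rfl

theorem tdK_mul_chK_eq {R : Type u} [CommRing R] [Algebra ℚ R] {G : GrTarget P R} {d : ℕ}
    (hd : gammaFiltration P (d + 1) = ⊥) {inv : K → K} (hV : IsInvolution P inv) (hS : HasInvSplitting P inv) {e : K}
    (he : e ∈ P.pos) :
    G.tdK d e * G.chK d (∑ i ∈ range ((P.aug e).toNat + 1), (-1 : K) ^ i * LambdaOps.lam i (inv e)) =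
      G.chern (P.aug e).toNat e := by
  classical
  obtain ⟨L, f, n, y, z, hf, hn, hy, hz, hzy, hsy, hsz⟩ := exists_inv_split hS he
  have hne : P.aug e = (n : ℤ) := by rw [← hn]; exact (aug_toNat_cast P he).symm
  have hn1 : 1 ≤ n := by have := P.aug_pos e he; omega
  rw [hn]
  set q := inv e
  have hnq : P.aug q = (n : ℤ) := by rw [hV.aug_inv, hne]
  set a := ∑ i ∈ range (n + 1), (-1 : K) ^ i * LambdaOps.lam i q
  set c : Fin n → R := fun k => G.chern ((k : ℕ) + 1) e
  set cq : Fin n → R := fun k => G.chern ((k : ℕ) + 1) q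
  -- the Chern character of λ_{-1}(q)
  set F0 : ℕ → Finset (Fin n) → MvPolynomial (Fin n) ℤ := fun m t => (-1) ^ t.card * (∑ i ∈ t, X i) ^ m
  set F1 : ℕ → Finset (Fin n) → MvPolynomial (Fin n) ℤ := fun m t => (-1) ^ t.card * (∏ i ∈ t, (1 + X i) - 1) ^ m
  have hch : ∀ m, ∃ Rp : MvPolynomial (Fin n) ℤ,
      aeval (fun k : Fin n => esymm (Fin n) ℤ ((k : ℕ) + 1)) Rp = ∑ t, F0 m t ∧ G.gpw m a = aeval cq Rp := by
    intro m
    obtain ⟨Rp, h1, h2⟩ := GrTarget.isCls_of_symm (G := G) hf z hz hnq hsz (m := m) (Φ := ∑ t, F1 m t)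
      (Φ0 := ∑ t, F0 m t)
      (isSymmetric_sum_finset _ fun σ t => by simp [F1, map_prod, Finset.prod_map])
      (IsHomogeneous.sum _ _ _ fun t _ => by
        simp only [F0]
        rw [show ((-1 : MvPolynomial (Fin n) ℤ) ^ t.card) = C ((-1) ^ t.card) by simp]
        have := (isHomogeneous_C (Fin n) ((-1 : ℤ) ^ t.card)).mul
          ((IsHomogeneous.sum t (fun i => (X i : MvPolynomial (Fin n) ℤ)) 1 fun i _ => isHomogeneous_X _ i).pow m)
        rwa [zero_add, one_mul] at this)
      (by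
        rw [← Finset.sum_sub_distrib]
        refine Ideal.sum_mem _ fun t _ => ?_
        simp only [F0, F1, ← mul_sub]
        exact Ideal.mul_mem_left _ _ (pow_sub_pow_mem (prod_one_add_sub_one_mem t).1
          (Ideal.sum_mem _ fun i _ => Ideal.subset_span (Set.mem_range_self i)) (prod_one_add_sub_one_mem t).2 m))
      (a := pw P m a) (by
        rw [pw_map hf]
        have hfa : f a = ∑ t : Finset (Fin n), (-1) ^ t.card * ∏ i ∈ t, z i := by
          rw [← Finset.powerset_univ, Finset.sum_powerset, Finset.card_univ, Fintype.card_fin, map_sum]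
          refine Finset.sum_congr rfl fun i _ => ?_
          rw [map_mul, map_pow, map_neg, map_one, hf.isLambdaHom, ← hsz,
            lam_sum_lines _ _ (fun k _ => lam_line_eq_zero _ (hz k)), Finset.mul_sum]
          exact Finset.sum_congr rfl fun t ht => by rw [(Finset.mem_powersetCard.mp ht).2]
        rw [hfa, ← pwHom_apply, map_sum, map_sum]
        refine Finset.sum_congr rfl fun t _ => ?_
        rw [pwHom_apply, neg_one_pow_mul_pw]
        have hl : L.posStr.IsLine (∏ i ∈ t, z i) :=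
          Finset.prod_induction _ L.posStr.IsLine (fun _ _ => isLine_mul _) (isLine_one _) fun i _ => hz i
        rw [pw_of_isLine hl]
        simp [F1, map_prod])
    exact ⟨Rp, h1, by rw [← (GrTarget.isCls_pw (G := G) m a).2, h2.2]⟩
  choose Rp hRp1 hRp2 using hch
  set σ : MvPolynomial (Fin n) ℚ →ₐ[ℚ] MvPolynomial (Fin n) ℚ :=
    aeval fun k : Fin n => (-1) ^ ((k : ℕ) + 1) * X k
  set Rq : ℕ → MvPolynomial (Fin n) ℚ := fun m => σ (MvPolynomial.map (Int.castRingHom ℚ) (Rp m))
  have hgpw : ∀ m, G.gpw m a = aeval c (Rq m) := by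
    intro m
    rw [hRp2, ← AlgHom.comp_apply, comp_aeval, ← algebraMap_int_eq, aeval_map_algebraMap]
    refine congrArg (fun g => aeval g (Rp m)) (funext fun k => ?_)
    simp only [cq, c, map_mul, map_pow, map_neg, map_one, aeval_X]
    exact GrTarget.chern_inv hf y z hy hz hzy hne hnq hsy hsz _ k.2
  have hRq : ∀ m, aeval (fun k : Fin n => esymm (Fin n) ℚ ((k : ℕ) + 1)) (Rq m) =
      ∑ t : Finset (Fin n), (-1) ^ t.card * (-∑ i ∈ t, X i) ^ m := by
    intro m
    have hneg : ∀ k : ℕ, aeval (fun i : Fin n => -(X i : MvPolynomial (Fin n) ℚ)) (esymm (Fin n) ℤ k) =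
        (-1) ^ k * esymm (Fin n) ℚ k := by
      intro k
      rw [aeval_esymm_eq, esymm, Finset.mul_sum]
      refine Finset.sum_congr rfl fun t ht => ?_
      rw [Finset.prod_neg, (Finset.mem_powersetCard.mp ht).2]
    have h : aeval (fun k : Fin n => esymm (Fin n) ℚ ((k : ℕ) + 1)) (Rq m) =
        aeval (fun i : Fin n => -(X i : MvPolynomial (Fin n) ℚ))
          (MvPolynomial.map (Int.castRingHom ℚ) (aeval (fun k : Fin n => esymm (Fin n) ℤ ((k : ℕ) + 1)) (Rp m))) := by
      simp only [Rq]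
      rw [← algebraMap_int_eq, ← AlgHom.comp_apply, comp_aeval, aeval_map_algebraMap, aeval_map_algebraMap,
        ← AlgHom.comp_apply, comp_aeval]
      refine congrArg (fun g => aeval g (Rp m)) (funext fun k => ?_)
      rw [map_mul, map_pow, map_neg, map_one, aeval_X]
      exact (hneg _).symm
    rw [h, hRp1, map_sum, map_sum]
    exact Finset.sum_congr rfl fun t _ => by simp [F0]
  -- the Todd class
  set TD : MvPolynomial (Fin n) ℚ := aeval (fun k : Fin d => if h : (k : ℕ) < n then X (⟨k, h⟩ : Fin n) else 0) (KGr.toddPoly d)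
  have hTD : aeval c TD = G.tdK d e := by
    rw [← AlgHom.comp_apply, comp_aeval, GrTarget.tdK]
    refine congrArg (fun g => aeval g (KGr.toddPoly d)) (funext fun k => ?_)
    split_ifs with h
    · rw [aeval_X]
    · rw [map_zero]
      have hz0 : gamma ((k : ℕ) + 1) (e - (n : K)) = 0 := by
        apply hf.injective
        rw [gamma_map hf.isLambdaHom, map_sub, map_natCast, ← hsy, gamma_sub_card_eq_aeval L.posStr y hy, map_zero,
          MvPolynomial.esymm, Finset.powersetCard_eq_empty.mpr (by simp; omega), Finset.sum_empty, map_zero]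
      rw [← (GrTarget.isCls_gamma_of_aug (G := G) hne _).2, hz0, G.cl_zero]
  have hTDe : aeval (fun k : Fin n => esymm (Fin n) ℚ ((k : ℕ) + 1)) TD =
      aeval (fun i : Fin d => esymm (Fin n) ℚ ((i : ℕ) + 1)) (KGr.toddPoly d) := by
    rw [← AlgHom.comp_apply, comp_aeval]
    refine congrArg (fun g => aeval g (KGr.toddPoly d)) (funext fun k => ?_)
    split_ifs with h
    · rw [aeval_X]
    · rw [map_zero, MvPolynomial.esymm, Finset.powersetCard_eq_empty.mpr (by simp; omega), Finset.sum_empty]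
  set top : Fin n := ⟨n - 1, by omega⟩
  have hzero := GrTarget.aeval_chern_eq_zero (G := G) hd hne
    (Φ := TD * (∑ m ∈ range (d + 1), C (1 / (m.factorial : ℚ)) * Rq m) - X top) (by
      rw [map_sub, map_mul, map_sum, hTDe, aeval_X, show (top : ℕ) + 1 = n by simp only [top]; omega]
      simp only [map_mul, aeval_C, algebraMap_eq, hRq]
      rw [show esymm (Fin n) ℚ n = ∏ i : Fin n, X i by
        rw [MvPolynomial.esymm, powersetCard_univ_self, Finset.sum_singleton]]
      have h1 := Ideal.mul_mem_right (∑ m ∈ range (d + 1), C (1 / (m.factorial : ℚ)) *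
        ∑ t : Finset (Fin n), (-1) ^ t.card * (-∑ i ∈ t, X i) ^ m) _ (toddPoly_sub_prod_mem d n)
      have := add_mem h1 (todd_main d n)
      rw [sub_mul] at this
      convert this using 1
      ring)
  rw [map_sub, map_mul, aeval_X, sub_eq_zero, hTD, show (top : ℕ) + 1 = n by simp only [top]; omega] at hzero
  rw [← hzero, GrTarget.chK_eq]
  congr 1
  rw [map_sum]
  exact Finset.sum_congr rfl fun m _ => by rw [hgpw, map_mul, aeval_C]

theorem kgr_tdK_eq (P : PosStructure K) (d : ℕ) (x : K) : KGr.tdK P d x = (grTarget P).tdK d x := rfl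

end Groth.Agent.LambdaLib
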