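import Groth.Agent.LambdaLib.Psi

/-!
# Adams operations and special λ-rings
-/

universe u

open Finset LambdaRing MvPolynomial
open scoped TensorProduct

namespace Groth.Agent.LambdaLib

variable {K : Type u} [CommRing K] [LambdaOps K]

theorem adamsOp_add {k : ℕ} (hk : 1 ≤ k) (x y : K) : adamsOp k (x + y) = adamsOp k x + adamsOp k y := by
  simp only [adamsOp_eq_psiS hk, psiS, lamSeries_add, logD_mul (constantCoeff_lamSeries x) (constantCoeff_lamSeries y),
    map_add, mul_add]

theorem adamsOp_one (h1 : ∀ n : ℕ, 2 ≤ n → LambdaOps.lam n (1 : K) = 0) {k : ℕ} (hk : 1 ≤ k) :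
    adamsOp k (1 : K) = 1 := by
  rw [adamsOp_eq_psiS hk, psiS_congr (g := rootSeries ({1} : Multiset K)) (constantCoeff_lamSeries _) hk,
    psiS_rootSeries _ hk]
  · simp
  · intro i _
    simp [rootSeries, lamSeries_one h1]

theorem pairVal_lamSeries (x y : K) (n : ℕ) :
    pairVal (lamSeries x) (lamSeries y) n =
      Sum.elim (fun k : Fin n => LambdaOps.lam ((k : ℕ) + 1) x) fun k : Fin n => LambdaOps.lam ((k : ℕ) + 1) y := by
  funext i; rcases i with i | i <;> simp [pairVal, coeff_lamSeries]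

theorem adamsOp_mul (hK : IsSpecial K) {k : ℕ} (hk : 1 ≤ k) (x y : K) :
    adamsOp k (x * y) = adamsOp k x * adamsOp k y := by
  simp only [adamsOp_eq_psiS hk]
  choose P hP using exists_isMulPoly
  exact psiS_mul_universal k hk P hP (constantCoeff_lamSeries x) (constantCoeff_lamSeries y) (constantCoeff_lamSeries _)
    fun i _ => by rw [coeff_lamSeries, hK.lam_mul i _ (hP i), pairVal_lamSeries]

/-- ψ^k as a ring hom, given unit and multiplicativity -/
noncomputable def adamsOpHom {k : ℕ} (hk : 1 ≤ k) (h1 : adamsOp k (1 : K) = 1)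
    (hm : ∀ x y : K, adamsOp k (x * y) = adamsOp k x * adamsOp k y) : K →+* K :=
  RingHom.mk' { toFun := adamsOp k, map_one' := h1, map_mul' := hm } (adamsOp_add hk)

@[simp] theorem adamsOpHom_apply {k : ℕ} (hk : 1 ≤ k) (h1 : adamsOp k (1 : K) = 1)
    (hm : ∀ x y : K, adamsOp k (x * y) = adamsOp k x * adamsOp k y) (x : K) : adamsOpHom hk h1 hm x = adamsOp k x := rfl

theorem adamsOp_adamsOp (hK : IsSpecial K) {k k' : ℕ} (hk : 1 ≤ k) (hk' : 1 ≤ k') (x : K) :
    adamsOp k (adamsOp k' x) = adamsOp (k * k') x := by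
  choose Q hQ using exists_isCompPoly
  set h := adamsOpHom hk (adamsOp_one hK.lam_one_eq_zero hk) (adamsOp_mul hK hk)
  have e : adamsOp k (adamsOp k' x) = psiS (PowerSeries.map h (lamSeries x)) k' := by
    rw [← map_psiS h (constantCoeff_lamSeries x), ← adamsOp_eq_psiS hk']; rfl
  rw [e, adamsOp_eq_psiS (Nat.one_le_iff_ne_zero.mpr (Nat.mul_ne_zero (by omega) (by omega)))]
  refine psiS_comp_universal k k' hk hk' Q hQ (G := fun i => lamSeries (LambdaOps.lam i x)) (constantCoeff_lamSeries x)
    (fun i => constantCoeff_lamSeries _) ?_ (fun i _ j _ => ?_) (fun i _ => ?_)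
  · rw [← PowerSeries.coeff_zero_eq_constantCoeff_apply, PowerSeries.coeff_map, PowerSeries.coeff_zero_eq_constantCoeff_apply,
      constantCoeff_lamSeries, map_one]
  · rw [coeff_lamSeries, hK.lam_lam i j _ (hQ i j)]
    exact congrArg (fun g => aeval g (Q i j)) (funext fun l => (coeff_lamSeries _ _).symm)
  · rw [PowerSeries.coeff_map, coeff_lamSeries, adamsOpHom_apply, adamsOp_eq_psiS hk]

theorem lam_eq_expInt [Algebra ℚ K] (n : ℕ) (x : K) :
    LambdaOps.lam n x = expInt (fun m => (-1) ^ m * adamsOp (m + 1) x) n := by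
  rw [← coeff_lamSeries, coeff_eq_expInt (constantCoeff_lamSeries x)]
  exact expInt_congr n fun m _ => by rw [adamsOp_eq_psiS (Nat.succ_le_succ (Nat.zero_le m))]

theorem isSpecial_of_adamsOp [Algebra ℚ K] (h1 : ∀ k : ℕ, 1 ≤ k → adamsOp k (1 : K) = 1)
    (hmul : ∀ k : ℕ, 1 ≤ k → ∀ x y : K, adamsOp k (x * y) = adamsOp k x * adamsOp k y)
    (hcomp : ∀ k k' : ℕ, 1 ≤ k → 1 ≤ k' → ∀ x : K, adamsOp k (adamsOp k' x) = adamsOp (k * k') x) :
    IsSpecial K where
  lam_one_eq_zero n hn := by
    rw [lam_eq_expInt]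
    have h := esymm_eq_expInt ({1} : Multiset K) n
    rw [expInt_congr (c' := fun m => (-1) ^ m * (({1} : Multiset K).map fun a => a ^ (m + 1)).sum) n
      (fun m _ => by simp [h1 (m + 1) (Nat.succ_le_succ (Nat.zero_le m))]), ← h]
    obtain ⟨k, rfl⟩ : ∃ k, n = k + 2 := ⟨n - 2, by omega⟩
    simp [Multiset.esymm, ← Multiset.cons_zero, Multiset.powersetCard_cons]
  lam_mul n P hP x y := by
    rw [← pairVal_lamSeries, ← expInt_mul_universal hP (constantCoeff_lamSeries x) (constantCoeff_lamSeries y),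
      lam_eq_expInt]
    refine expInt_congr n fun m _ => ?_
    rw [hmul _ (Nat.succ_le_succ (Nat.zero_le m)), adamsOp_eq_psiS (Nat.succ_le_succ (Nat.zero_le m)),
      adamsOp_eq_psiS (Nat.succ_le_succ (Nat.zero_le m))]
  lam_lam i j Q hQ x := by
    rw [show (fun k : Fin (i * j) => LambdaOps.lam ((k : ℕ) + 1) x) =
      fun l : Fin (i * j) => PowerSeries.coeff ((l : ℕ) + 1) (lamSeries x) from funext fun l => (coeff_lamSeries _ _).symm,
      ← expInt_comp_universal hQ (constantCoeff_lamSeries x), lam_eq_expInt j]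
    refine expInt_congr j fun m _ => ?_
    congr 1
    have hk := Nat.succ_le_succ (Nat.zero_le m)
    rw [lam_eq_expInt i x, ← adamsOpHom_apply hk (h1 _ hk) (hmul _ hk), map_expInt]
    refine expInt_congr i fun l _ => ?_
    rw [map_mul, map_pow, map_neg, map_one, adamsOpHom_apply, hcomp _ _ hk (Nat.succ_le_succ (Nat.zero_le l)),
      adamsOp_eq_psiS (Nat.one_le_iff_ne_zero.mpr (Nat.mul_ne_zero (by omega) (by omega)))]

theorem existsUnique_lambdaOps {K : Type u} [CommRing K] [Algebra ℚ K] (ψ : ℕ → K →+ K) (hψ : ψ 1 = AddMonoidHom.id K) :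
    ∃! L : LambdaOps K, ∀ k : ℕ, 1 ≤ k → ∀ x : K, @adamsOp K _ L k x = ψ k x := by
  let lam : ℕ → K → K := fun n x => expInt (fun m => (-1) ^ m * ψ (m + 1) x) n
  have hadd : ∀ x y : K, PowerSeries.mk (fun n => lam n (x + y)) =
      PowerSeries.mk (fun n => lam n x) * PowerSeries.mk (fun n => lam n y) := by
    intro x y
    refine (eq_mk_expInt (by simp [lam, expInt_zero]) ?_).symm
    rw [logD_mul (constantCoeff_mk_expInt _) (constantCoeff_mk_expInt _), logD_mk_expInt, logD_mk_expInt]
    ext m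
    simp [mul_add]
  let L : LambdaOps K :=
    { lam := lam
      lam_zero := fun x => expInt_zero _
      lam_one := fun x => by
        have h := succ_mul_expInt (fun m => (-1 : K) ^ m * ψ (m + 1) x) 0
        simpa [lam, expInt_zero, hψ] using h
      lam_add := fun k x y => by
        have h := congrArg (PowerSeries.coeff k) (hadd x y)
        rw [PowerSeries.coeff_mk, PowerSeries.coeff_mul, Finset.Nat.sum_antidiagonal_eq_sum_range_succ_mk] at h
        simpa using h }
  refine ⟨L, fun k hk x => ?_, fun L' hL' => ?_⟩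
  · letI := L
    obtain ⟨m, rfl⟩ : ∃ m, k = m + 1 := ⟨k - 1, by omega⟩
    change (-1) ^ m * PowerSeries.coeff m (logD (PowerSeries.mk fun n => lam n x)) = ψ (m + 1) x
    rw [logD_mk_expInt, PowerSeries.coeff_mk, ← mul_assoc, ← mul_pow]
    simp
  · have : L'.lam = lam := by
      funext n x
      letI := L'
      exact (lam_eq_expInt n x).trans (expInt_congr n fun m _ => by rw [hL' _ (Nat.succ_le_succ (Nat.zero_le m))])
    cases L'
    subst this
    rfl

theorem isLambdaHom_iff {K' : Type u} [CommRing K'] [LambdaOps K'] [Algebra ℚ K] [Algebra ℚ K'] (f : K →+* K') :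
    IsLambdaHom f ↔ ∀ k : ℕ, 1 ≤ k → ∀ x : K, f (adamsOp k x) = adamsOp k (f x) := by
  constructor
  · intro hf k hk x
    rw [adamsOp_eq_psiS hk, adamsOp_eq_psiS hk, map_psiS f (constantCoeff_lamSeries x)]
    congr 1
    ext i
    rw [PowerSeries.coeff_map, coeff_lamSeries, coeff_lamSeries, hf]
  · intro h n x
    rw [lam_eq_expInt, lam_eq_expInt, map_expInt]
    exact expInt_congr n fun m _ => by rw [map_mul, map_pow, map_neg, map_one, h _ (Nat.succ_le_succ (Nat.zero_le m))]

/-! ### binomial rings -/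

theorem esymm_replicate_one {S : Type*} [CommRing S] (a k : ℕ) :
    (Multiset.replicate a (1 : S)).esymm k = (a.choose k : S) := by
  simp only [Multiset.esymm]
  rw [Multiset.map_congr rfl (g := fun _ => (1 : S))]
  · simp
  · intro t ht
    obtain ⟨hle, -⟩ := Multiset.mem_powersetCard.mp ht
    exact Multiset.prod_eq_one fun z hz => Multiset.eq_of_mem_replicate (Multiset.mem_of_le hle hz)

theorem prodPairs_replicate_one {S : Type*} [CommRing S] (a b : ℕ) :
    prodPairs (Multiset.replicate a (1 : S)) (Multiset.replicate b 1) = Multiset.replicate (a * b) 1 := by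
  rw [Multiset.eq_replicate]
  refine ⟨by simp [prodPairs], fun z hz => ?_⟩
  obtain ⟨p, hp, rfl⟩ := Multiset.mem_map.mp hz
  obtain ⟨h1, h2⟩ := Multiset.mem_product.mp hp
  rw [Multiset.eq_of_mem_replicate h1, Multiset.eq_of_mem_replicate h2, one_mul]

theorem prodSubs_replicate_one {S : Type*} [CommRing S] (a i : ℕ) :
    prodSubs i (Multiset.replicate a (1 : S)) = Multiset.replicate (a.choose i) 1 := by
  rw [Multiset.eq_replicate]
  refine ⟨by simp [prodSubs], fun z hz => ?_⟩
  obtain ⟨t, ht, rfl⟩ := Multiset.mem_map.mp hz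
  exact Multiset.prod_eq_one fun w hw => Multiset.eq_of_mem_replicate (Multiset.mem_of_le (Multiset.mem_powersetCard.mp ht).1 hw)

theorem isSpecial_of_isBinomial [BinomialRing K] (hKb : IsBinomial K) : IsSpecial K := by
  haveI : IsAddTorsionFree K := BinomialRing.toIsAddTorsionFree
  letI : Module ℚ≥0 (ℚ ⊗[ℤ] K) := Module.compHom (ℚ ⊗[ℤ] K) (algebraMap ℚ≥0 ℚ)
  let ι : K →+* ℚ ⊗[ℤ] K := (Algebra.TensorProduct.includeRight : K →ₐ[ℤ] ℚ ⊗[ℤ] K).toRingHom
  have hι : Function.Injective ι :=
    Algebra.TensorProduct.includeRight_injective (R := ℤ) (A := ℚ) (B := K) (algebraMap ℤ ℚ).injective_int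
  refine ⟨fun n hn => ?_, fun n P hP x y => ?_, fun i j Q hQ x => ?_⟩
  · rw [hKb, show (1 : K) = ((1 : ℕ) : K) from Nat.cast_one.symm, Ring.choose_natCast, Nat.choose_eq_zero_of_lt (by omega),
      Nat.cast_zero]
  · apply hι
    simp only [hKb _ _]
    rw [Ring.map_choose, map_mul, map_aeval_int]
    let X₀ : MvPolynomial (Fin 2) ℚ := MvPolynomial.X 0
    let X₁ : MvPolynomial (Fin 2) ℚ := MvPolynomial.X 1
    have key : Ring.choose (X₀ * X₁) n = aeval (Sum.elim (fun k : Fin n => Ring.choose X₀ ((k : ℕ) + 1))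
        fun k : Fin n => Ring.choose X₁ ((k : ℕ) + 1)) P := by
      refine funext_set (fun _ : Fin 2 => Set.range (Nat.cast : ℕ → ℚ)) (fun _ => Set.infinite_range_of_injective Nat.cast_injective)
        fun v hv => ?_
      obtain ⟨a, ha⟩ := hv 0 (Set.mem_univ _)
      obtain ⟨b, hb⟩ := hv 1 (Set.mem_univ _)
      rw [Ring.map_choose, map_mul, map_aeval_int]
      simp only [X₀, X₁, eval_X, ← ha, ← hb]
      rw [← Nat.cast_mul, Ring.choose_natCast]
      have h := mulPoly_eval hP (Multiset.replicate a (1 : ℚ)) (Multiset.replicate b 1)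
      rw [prodPairs_replicate_one, esymm_replicate_one] at h
      rw [← h]
      refine congrArg (fun g => aeval g P) (funext fun l => ?_)
      rcases l with l | l <;>
        simp only [Sum.elim_inl, Sum.elim_inr, Ring.map_choose, eval_X, ← ha, ← hb, Ring.choose_natCast, esymm_replicate_one]
    let φ : MvPolynomial (Fin 2) ℚ →+* ℚ ⊗[ℤ] K :=
      (aeval (R := ℚ) ![ι x, ι y] : MvPolynomial (Fin 2) ℚ →ₐ[ℚ] ℚ ⊗[ℤ] K).toRingHom
    have h := congrArg φ key
    rw [Ring.map_choose, map_mul, map_aeval_int] at h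
    simp only [X₀, X₁] at h
    have h0 : φ (MvPolynomial.X 0) = ι x := by simp [φ]
    have h1 : φ (MvPolynomial.X 1) = ι y := by simp [φ]
    rw [h0, h1] at h
    rw [h]
    refine congrArg (fun g => aeval g P) (funext fun l => ?_)
    rcases l with l | l <;> simp [Ring.map_choose, h0, h1]
  · apply hι
    simp only [hKb _ _]
    rw [Ring.map_choose, Ring.map_choose, map_aeval_int]
    let X₀ : MvPolynomial (Fin 1) ℚ := MvPolynomial.X 0
    have key : Ring.choose (Ring.choose X₀ i) j = aeval (fun k : Fin (i * j) => Ring.choose X₀ ((k : ℕ) + 1)) Q := by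
      refine funext_set (fun _ : Fin 1 => Set.range (Nat.cast : ℕ → ℚ)) (fun _ => Set.infinite_range_of_injective Nat.cast_injective)
        fun v hv => ?_
      obtain ⟨a, ha⟩ := hv 0 (Set.mem_univ _)
      rw [Ring.map_choose, Ring.map_choose, map_aeval_int]
      simp only [X₀, eval_X, ← ha]
      rw [Ring.choose_natCast, Ring.choose_natCast]
      have h := compPoly_eval hQ (Multiset.replicate a (1 : ℚ))
      rw [prodSubs_replicate_one, esymm_replicate_one] at h
      rw [← h]
      exact congrArg (fun g => aeval g Q) (funext fun l => by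
        simp only [Ring.map_choose, eval_X, ← ha, Ring.choose_natCast, esymm_replicate_one])
    let φ : MvPolynomial (Fin 1) ℚ →+* ℚ ⊗[ℤ] K :=
      (aeval (R := ℚ) ![ι x] : MvPolynomial (Fin 1) ℚ →ₐ[ℚ] ℚ ⊗[ℤ] K).toRingHom
    have h := congrArg φ key
    rw [Ring.map_choose, Ring.map_choose, map_aeval_int] at h
    have h0 : φ X₀ = ι x := by simp [φ, X₀]
    rw [h0] at h
    rw [h]
    exact congrArg (fun g => aeval g Q) (funext fun l => by simp [Ring.map_choose, h0])

end Groth.Agent.LambdaLib
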