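import Groth.Agent.LambdaLib.Special

/-!
# The special λ-ring ℚ[v] in which all 1 + v are lines; filtrations by ideals
-/

universe u v

open Finset LambdaRing MvPolynomial

namespace Groth.Agent.LambdaLib

/-- a multiplicative filtration by ideals -/
structure IdealFil (A : Type u) [CommRing A] where
  /-- the terms -/
  F : ℕ → Ideal A
  zero : F 0 = ⊤
  anti : Antitone F
  mul : ∀ {a b : ℕ} {x y : A}, x ∈ F a → y ∈ F b → x * y ∈ F (a + b)

namespace IdealFil

variable {A : Type u} [CommRing A] (𝔉 : IdealFil A)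

theorem one_mem : (1 : A) ∈ 𝔉.F 0 := by simp [𝔉.zero]

theorem mem_zero (x : A) : x ∈ 𝔉.F 0 := by simp [𝔉.zero]

theorem le {a b : ℕ} (h : a ≤ b) {x : A} (hx : x ∈ 𝔉.F b) : x ∈ 𝔉.F a := 𝔉.anti h hx

theorem pow {a : ℕ} {x : A} (hx : x ∈ 𝔉.F a) : ∀ k : ℕ, x ^ k ∈ 𝔉.F (a * k)
  | 0 => by simp [𝔉.zero]
  | k + 1 => by rw [pow_succ, Nat.mul_succ]; exact 𝔉.mul (pow hx k) hx

theorem prod {ι : Type*} (s : Finset ι) {f : ι → A} {w : ι → ℕ} (h : ∀ i ∈ s, f i ∈ 𝔉.F (w i)) :
    ∏ i ∈ s, f i ∈ 𝔉.F (∑ i ∈ s, w i) := by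
  classical
  induction s using Finset.induction with
  | empty => simp [𝔉.zero]
  | insert a s ha ih =>
    rw [Finset.prod_insert ha, Finset.sum_insert ha]
    exact 𝔉.mul (h a (Finset.mem_insert_self a s)) (ih fun i hi => h i (Finset.mem_insert_of_mem hi))

theorem finsuppProd {σ : Type*} (s : σ →₀ ℕ) {g : σ → A} {w : σ → ℕ} (hg : ∀ i ∈ s.support, g i ∈ 𝔉.F (w i)) :
    (s.prod fun i k => g i ^ k) ∈ 𝔉.F (Finsupp.weight w s) := by
  rw [Finsupp.weight_apply, Finsupp.sum]
  refine 𝔉.prod s.support fun i hi => ?_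
  rw [smul_eq_mul, mul_comm]
  exact 𝔉.pow (hg i hi) _

theorem aeval_mem {σ : Type*} {g : σ → A} {w : σ → ℕ} (hg : ∀ i, g i ∈ 𝔉.F (w i)) {d : ℕ}
    {Φ : MvPolynomial σ ℤ} (hΦ : ∀ s ∈ Φ.support, d ≤ Finsupp.weight w s) : aeval g Φ ∈ 𝔉.F d := by
  rw [aeval_def, eval₂_eq]
  refine Ideal.sum_mem _ fun s hs => Ideal.mul_mem_left _ _ (𝔉.le (hΦ s hs) ?_)
  exact 𝔉.finsuppProd s fun i _ => hg i

end IdealFil

variable {A : Type u} [CommRing A] [LambdaOps A]

/-- the elements all of whose γ^r lie in the r-th step -/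
def gammaBound (𝔉 : IdealFil A) : AddSubgroup A where
  carrier := {b | ∀ r, gamma r b ∈ 𝔉.F r}
  zero_mem' r := by
    rcases r with _ | r
    · exact 𝔉.mem_zero _
    · simp [gamma_apply_zero]
  add_mem' {a b} ha hb r := by
    rw [gamma_add]
    refine Ideal.sum_mem _ fun i hi => 𝔉.le ?_ (𝔉.mul (ha i) (hb (r - i)))
    rw [Finset.mem_range] at hi; omega
  neg_mem' {a} ha := by
    intro r
    induction r using Nat.strong_induction_on with
    | _ r ih =>
      rcases r with _ | r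
      · exact 𝔉.mem_zero _
      have h := gamma_add (r + 1) (-a) a
      rw [neg_add_cancel, gamma_apply_zero _ (by omega), Finset.sum_range_succ, Nat.sub_self, gamma_zero, mul_one,
        eq_comm, add_eq_zero_iff_neg_eq] at h
      rw [← h]
      refine neg_mem (Ideal.sum_mem _ fun i hi => ?_)
      rw [Finset.mem_range] at hi
      exact 𝔉.le (by omega) (𝔉.mul (ih i hi) (ha (r + 1 - i)))

theorem mem_gammaBound {𝔉 : IdealFil A} {b : A} : b ∈ gammaBound 𝔉 ↔ ∀ r, gamma r b ∈ 𝔉.F r := Iff.rfl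

/-! ### the universal ring of lines -/

section uni

variable {σ : Type}

/-- ψ^k v = (1+v)^k - 1 -/
noncomputable def uniPsi (σ : Type) (k : ℕ) : MvPolynomial σ ℚ →ₐ[ℚ] MvPolynomial σ ℚ :=
  aeval fun i => (1 + X i) ^ k - 1

theorem uniPsi_one : (uniPsi σ 1).toRingHom.toAddMonoidHom = AddMonoidHom.id _ := by
  refine AddMonoidHom.ext fun p => ?_
  simp [uniPsi, aeval_X_left_apply]

/-- the λ-structure on ℚ[v] in which each 1 + v is a line -/
@[reducible] noncomputable def uniOps (σ : Type) : LambdaOps (MvPolynomial σ ℚ) :=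
  (existsUnique_lambdaOps (fun k => (uniPsi σ k).toRingHom.toAddMonoidHom) uniPsi_one).choose

theorem adamsOp_uni (k : ℕ) (hk : 1 ≤ k) (p : MvPolynomial σ ℚ) :
    @adamsOp _ _ (uniOps σ) k p = uniPsi σ k p :=
  (existsUnique_lambdaOps (fun k => (uniPsi σ k).toRingHom.toAddMonoidHom) uniPsi_one).choose_spec.1 k hk p

theorem uniPsi_comp (k k' : ℕ) (p : MvPolynomial σ ℚ) : uniPsi σ k (uniPsi σ k' p) = uniPsi σ (k * k') p := by
  rw [← AlgHom.comp_apply]
  refine DFunLike.congr_fun (algHom_ext fun i => ?_) p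
  simp [uniPsi, pow_mul]

theorem isSpecial_uni : @IsSpecial (MvPolynomial σ ℚ) _ (uniOps σ) := by
  letI := uniOps σ
  refine isSpecial_of_adamsOp (fun k hk => ?_) (fun k hk x y => ?_) fun k k' hk hk' x => ?_
  · rw [adamsOp_uni k hk, map_one]
  · simp only [adamsOp_uni k hk, map_mul]
  · rw [adamsOp_uni k hk, adamsOp_uni k' hk', adamsOp_uni _ (Nat.one_le_iff_ne_zero.mpr (Nat.mul_ne_zero (by omega) (by omega))),
      uniPsi_comp]

/-- lines of ℚ[v] -/
def IsULine (L : MvPolynomial σ ℚ) : Prop := ∀ k : ℕ, uniPsi σ k L = L ^ k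

theorem isULine_one : IsULine (1 : MvPolynomial σ ℚ) := fun k => by simp

theorem isULine_mul {L M : MvPolynomial σ ℚ} (hL : IsULine L) (hM : IsULine M) : IsULine (L * M) := fun k => by
  rw [map_mul, hL, hM, mul_pow]

theorem isULine_one_add_X (i : σ) : IsULine (1 + X i : MvPolynomial σ ℚ) := fun k => by simp [uniPsi]

theorem lam_uline {L : MvPolynomial σ ℚ} (hL : IsULine L) :
    ∀ j : ℕ, 2 ≤ j → @LambdaOps.lam _ _ (uniOps σ) j L = 0 := by
  letI := uniOps σ
  intro j hj
  rw [lam_eq_expInt, expInt_congr (c' := fun m => (-1) ^ m * (({L} : Multiset _).map fun a => a ^ (m + 1)).sum) j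
    (fun m _ => by simp [adamsOp_uni (m + 1) (Nat.succ_le_succ (Nat.zero_le m)), hL (m + 1)]), ← esymm_eq_expInt]
  obtain ⟨k, rfl⟩ : ∃ k, j = k + 2 := ⟨j - 2, by omega⟩
  simp [Multiset.esymm, ← Multiset.cons_zero, Multiset.powersetCard_cons]

theorem lam_one_uni : ∀ j : ℕ, 2 ≤ j → @LambdaOps.lam _ _ (uniOps σ) j (1 : MvPolynomial σ ℚ) = 0 :=
  lam_uline isULine_one

theorem gamma_sum_X {ι : Type} [Fintype ι] (f : ι → σ) (k : ℕ) :
    @gamma _ _ (uniOps σ) k (∑ i, X (f i) : MvPolynomial σ ℚ) = rename f (esymm ι ℚ k) := by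
  letI := uniOps σ
  have h := gamma_sum_sub_card (K := MvPolynomial σ ℚ) lam_one_uni (univ : Finset ι) (fun i => 1 + X (f i))
    (fun i _ => lam_uline (isULine_one_add_X (f i))) k
  rw [Finset.sum_add_distrib, Finset.sum_const, nsmul_one, add_sub_cancel_left] at h
  rw [h, MvPolynomial.esymm]
  simp [map_prod]

/-- the degree filtration -/
@[reducible] noncomputable def degFil (σ : Type) : IdealFil (MvPolynomial σ ℚ) where
  F n := idealOfVars σ ℚ ^ n
  zero := by rw [pow_zero, Ideal.one_eq_top]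
  anti := fun _ _ h => Ideal.pow_le_pow_right h
  mul := fun {a b} x y hx hy => by rw [pow_add]; exact Ideal.mul_mem_mul hx hy

/-- the subgroup spanned by the L - 1 -/
noncomputable def lineDiffs (σ : Type) : AddSubgroup (MvPolynomial σ ℚ) :=
  AddSubgroup.closure {b | ∃ L, IsULine L ∧ b = L - 1}

theorem X_mem_lineDiffs (i : σ) : (X i : MvPolynomial σ ℚ) ∈ lineDiffs σ :=
  AddSubgroup.subset_closure ⟨_, isULine_one_add_X i, by ring⟩

theorem mul_mem_lineDiffs {x y : MvPolynomial σ ℚ} (hx : x ∈ lineDiffs σ) (hy : y ∈ lineDiffs σ) :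
    x * y ∈ lineDiffs σ := by
  induction hx using AddSubgroup.closure_induction with
  | mem x hx =>
    obtain ⟨L, hL, rfl⟩ := hx
    induction hy using AddSubgroup.closure_induction with
    | mem y hy =>
      obtain ⟨M, hM, rfl⟩ := hy
      rw [show (L - 1) * (M - 1) = (L * M - 1) - (L - 1) - (M - 1) by ring]
      exact sub_mem (sub_mem (AddSubgroup.subset_closure ⟨_, isULine_mul hL hM, rfl⟩)
        (AddSubgroup.subset_closure ⟨_, hL, rfl⟩)) (AddSubgroup.subset_closure ⟨_, hM, rfl⟩)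
    | zero => simp
    | add a b _ _ ha hb => rw [mul_add]; exact add_mem ha hb
    | neg a _ ha => rw [mul_neg]; exact neg_mem ha
  | zero => simp
  | add a b _ _ ha hb => rw [add_mul]; exact add_mem ha hb
  | neg a _ ha => rw [neg_mul]; exact neg_mem ha

theorem constantCoeff_uline {L : MvPolynomial σ ℚ} (hL : IsULine L) : constantCoeff L = 1 := by
  classical
  have h := congrArg constantCoeff (hL 0)
  rw [pow_zero, map_one] at h
  rw [← h, uniPsi]
  simp only [pow_zero, sub_self]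
  change _ = constantCoeff (aeval (fun _ : σ => (0 : MvPolynomial σ ℚ)) L)
  rw [show (fun _ : σ => (0 : MvPolynomial σ ℚ)) = 0 from rfl, aeval_zero]
  simp

theorem lineDiffs_le_gammaBound :
    lineDiffs σ ≤ @gammaBound _ _ (uniOps σ) (degFil σ) := by
  letI := uniOps σ
  rw [lineDiffs, AddSubgroup.closure_le]
  rintro _ ⟨L, hL, rfl⟩
  intro r
  rw [← coeff_gammaSeries, gammaSeries_line_sub_one lam_one_uni (lam_uline hL)]
  match r with
  | 0 => exact (degFil σ).mem_zero _
  | 1 =>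
    simp only [map_add, PowerSeries.coeff_one, one_ne_zero, if_false, zero_add, PowerSeries.coeff_succ_mul_X,
      PowerSeries.coeff_C, if_true]
    change L - 1 ∈ idealOfVars σ ℚ ^ 1
    rw [mem_pow_idealOfVars_iff']
    intro x hx
    have hx0 : x = 0 := (Finsupp.degree_eq_zero_iff x).mp (by omega)
    rw [hx0, coeff_sub, coeff_zero_one, ← constantCoeff_eq, constantCoeff_uline hL, sub_self]
  | r + 2 => simp [PowerSeries.coeff_one, PowerSeries.coeff_succ_mul_X, PowerSeries.coeff_C]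

theorem weight_ge_of_aeval_mem {ι : Type} {τ : Type} {W : ι → ℕ} {g : ι → MvPolynomial τ ℤ}
    (hg : ∀ i, IsWeightedHomogeneous (fun _ => (1 : ℕ)) (g i) (W i)) (hinj : Function.Injective (aeval (R := ℤ) g))
    {d : ℕ} {Φ : MvPolynomial ι ℤ} (h : MvPolynomial.map (Int.castRingHom ℚ) (aeval g Φ) ∈ idealOfVars τ ℚ ^ d) :
    ∀ s ∈ Φ.support, d ≤ Finsupp.weight W s := by
  classical
  intro s hs
  by_contra hlt
  have h0 : weightedHomogeneousComponent W (Finsupp.weight W s) Φ = 0 := by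
    apply hinj
    rw [← aeval_isWeightedHomogeneous_component W (fun _ => (1 : ℕ)) g hg, map_zero]
    ext x
    rw [coeff_weightedHomogeneousComponent, coeff_zero]
    split_ifs with hx
    · have h2 := (mem_pow_idealOfVars_iff' d _).mp h x (by
        rw [Finsupp.degree_eq_weight_one]; exact hx ▸ not_le.mp hlt)
      rw [coeff_map] at h2
      exact Int.cast_eq_zero.mp h2
    · rfl
  have h3 := congrArg (coeff s) h0
  rw [coeff_weightedHomogeneousComponent, if_pos rfl, coeff_zero] at h3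
  exact (MvPolynomial.mem_support_iff.mp hs) h3

end uni

end Groth.Agent.LambdaLib
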