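import Groth.Prelude.Def_LambdaSp
import Groth.Agent.LambdaLib.Esymm

/-!
# The universal polynomials P_n and Q_{i,j}
-/

universe u

open MvPolynomial Finset LambdaRing

namespace Groth.Agent.LambdaLib

variable {S : Type u} [CommRing S]

/-- bidegree weight -/
def biW (a b : ℕ) : Fin a ⊕ Fin b → ℕ × ℕ := Sum.elim (fun _ => (1, 0)) fun _ => (0, 1)

/-- weight of the P variables -/
def mulW (a b : ℕ) : Fin a ⊕ Fin b → ℕ × ℕ :=
  Sum.elim (fun k : Fin a => ((k : ℕ) + 1, 0)) fun k : Fin b => (0, (k : ℕ) + 1)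

theorem esymm_weighted {R : Type*} [CommRing R] {σ : Type*} [Fintype σ] {τ : Type*} {M : Type*} [AddCommMonoid M]
    (W : τ → M) (w : M) (f : σ → τ) (hf : ∀ i, W (f i) = w) (k : ℕ) :
    IsWeightedHomogeneous W (rename f (esymm σ R k)) (k • w) := by
  rw [esymm, map_sum]
  refine IsWeightedHomogeneous.sum _ _ _ fun t ht => ?_
  rw [map_prod]
  have h := IsWeightedHomogeneous.prod t (fun i => (rename f (X i) : MvPolynomial τ R)) (fun _ => w) (w := W)
    fun i _ => by rw [rename_X]; simpa [hf] using isWeightedHomogeneous_X (R := R) W (f i)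
  rwa [Finset.sum_const, (Finset.mem_powersetCard.mp ht).2] at h

theorem esymmPair_weighted {R : Type*} [CommRing R] (a b : ℕ) (i : Fin a ⊕ Fin b) :
    IsWeightedHomogeneous (biW a b) (esymmPair R a b i) (mulW a b i) := by
  rcases i with k | k
  · simpa [esymmPair, mulW] using esymm_weighted (R := R) (biW a b) ((1, 0) : ℕ × ℕ) Sum.inl (fun _ => rfl) ((k : ℕ) + 1)
  · simpa [esymmPair, mulW] using esymm_weighted (R := R) (biW a b) ((0, 1) : ℕ × ℕ) Sum.inr (fun _ => rfl) ((k : ℕ) + 1)

theorem weight_biW {a b : ℕ} (s : Fin a ⊕ Fin b →₀ ℕ) :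
    Finsupp.weight (biW a b) s = (∑ i, s (Sum.inl i), ∑ i, s (Sum.inr i)) := by
  rw [Finsupp.weight_apply, Finsupp.sum_fintype _ _ (fun i => by simp), Fintype.sum_sum_type]
  ext <;> simp [biW, Prod.fst_sum, Prod.snd_sum]

theorem mulGen_eval {a b : ℕ} (x : Fin a → S) (y : Fin b → S) (n : ℕ) :
    ((univ : Finset (Fin a × Fin b)).val.map fun ab => x ab.1 * y ab.2).esymm n =
      (prodPairs ((univ : Finset (Fin a)).val.map x) ((univ : Finset (Fin b)).val.map y)).esymm n := by
  rw [univ_prod_map]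

theorem mulPoly_eval_small {n : ℕ} {P : MvPolynomial (Fin n ⊕ Fin n) ℤ} (hP : IsMulPoly n P) (s t : Multiset S)
    (hs : Multiset.card s ≤ n) (ht : Multiset.card t ≤ n) :
    aeval (Sum.elim (fun k : Fin n => s.esymm ((k : ℕ) + 1)) fun k : Fin n => t.esymm ((k : ℕ) + 1)) P =
      (prodPairs s t).esymm n := by
  obtain ⟨x, hx⟩ : ∃ x : Fin n → S, (univ : Finset (Fin n)).val.map x =
      Multiset.replicate (n - Multiset.card s) 0 + s := by
    obtain ⟨x, hx⟩ := exists_fin_map (Multiset.replicate (n - Multiset.card s) (0 : S) + s)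
    have hc : Multiset.card (Multiset.replicate (n - Multiset.card s) (0 : S) + s) = n := by simp; omega
    generalize Multiset.card (Multiset.replicate (n - Multiset.card s) (0 : S) + s) = m at x hx hc
    subst hc
    exact ⟨x, hx⟩
  obtain ⟨y, hy⟩ : ∃ y : Fin n → S, (univ : Finset (Fin n)).val.map y =
      Multiset.replicate (n - Multiset.card t) 0 + t := by
    obtain ⟨y, hy⟩ := exists_fin_map (Multiset.replicate (n - Multiset.card t) (0 : S) + t)
    have hc : Multiset.card (Multiset.replicate (n - Multiset.card t) (0 : S) + t) = n := by simp; omega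
    generalize Multiset.card (Multiset.replicate (n - Multiset.card t) (0 : S) + t) = m at y hy hc
    subst hc
    exact ⟨y, hy⟩
  have h := congrArg (aeval (Sum.elim x y)) hP.1
  rw [← AlgHom.comp_apply, comp_aeval, mulGen] at h
  have h2 : aeval (Sum.elim x y) (((univ : Finset (Fin n × Fin n)).val.map
      fun ab => (X (Sum.inl ab.1) * X (Sum.inr ab.2) : MvPolynomial (Fin n ⊕ Fin n) ℤ)).esymm n) =
      (prodPairs s t).esymm n := by
    have h3 := map_esymm' (aeval (Sum.elim x y) : MvPolynomial (Fin n ⊕ Fin n) ℤ →ₐ[ℤ] S).toRingHom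
      (((univ : Finset (Fin n × Fin n)).val.map
      fun ab => (X (Sum.inl ab.1) * X (Sum.inr ab.2) : MvPolynomial (Fin n ⊕ Fin n) ℤ))) n
    rw [AlgHom.toRingHom_eq_coe, RingHom.coe_coe] at h3
    rw [h3, Multiset.map_map]
    simp only [Function.comp_def, map_mul, RingHom.coe_coe, aeval_X, Sum.elim_inl, Sum.elim_inr]
    rw [mulGen_eval, hx, hy, esymm_prodPairs_zero]
  rw [h2] at h
  rw [← h]
  refine congrArg (fun g => aeval g P) (funext fun i => ?_)
  rcases i with k | k <;> simp only [Sum.elim_inl, Sum.elim_inr] <;> rw [aeval_esymm_rename]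
  · rw [show (Sum.elim x y ∘ Sum.inl) = x from rfl, hx, esymm_replicate_zero_add]
  · rw [show (Sum.elim x y ∘ Sum.inr) = y from rfl, hy, esymm_replicate_zero_add]

theorem mulPoly_universal {n : ℕ} {P : MvPolynomial (Fin n ⊕ Fin n) ℤ} (hP : IsMulPoly n P) (a b : ℕ) :
    aeval (Sum.elim (fun k : Fin n => rename Sum.inl (esymm (Fin a) ℤ ((k : ℕ) + 1)))
      fun k : Fin n => rename Sum.inr (esymm (Fin b) ℤ ((k : ℕ) + 1))) P =
      ((univ : Finset (Fin a × Fin b)).val.map
        fun ab => (X (Sum.inl ab.1) * X (Sum.inr ab.2) : MvPolynomial (Fin a ⊕ Fin b) ℤ)).esymm n := by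
  classical
  set g : Fin n ⊕ Fin n → MvPolynomial (Fin a ⊕ Fin b) ℤ :=
    Sum.elim (fun k : Fin n => rename Sum.inl (esymm (Fin a) ℤ ((k : ℕ) + 1)))
      fun k : Fin n => rename Sum.inr (esymm (Fin b) ℤ ((k : ℕ) + 1))
  have hgw : ∀ i, IsWeightedHomogeneous (biW a b) (g i) (mulW n n i) := by
    intro i
    rcases i with k | k
    · simpa [g, mulW] using esymm_weighted (R := ℤ) (biW a b) ((1, 0) : ℕ × ℕ) Sum.inl (fun _ => rfl) ((k : ℕ) + 1)
    · simpa [g, mulW] using esymm_weighted (R := ℤ) (biW a b) ((0, 1) : ℕ × ℕ) Sum.inr (fun _ => rfl) ((k : ℕ) + 1)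
  set M := ((univ : Finset (Fin a × Fin b)).val.map
        fun ab => (X (Sum.inl ab.1) * X (Sum.inr ab.2) : MvPolynomial (Fin a ⊕ Fin b) ℤ)).esymm n
  have h1 : IsWeightedHomogeneous (biW a b) (aeval g P) ((n, n) : ℕ × ℕ) := by
    have hc := aeval_isWeightedHomogeneous_component (mulW n n) (biW a b) g hgw P ((n, n) : ℕ × ℕ)
    have hP2 : IsWeightedHomogeneous (mulW n n) P ((n, n) : ℕ × ℕ) := hP.2
    rw [hP2.weightedHomogeneousComponent_same] at hc
    rw [← hc]
    exact weightedHomogeneousComponent_isWeightedHomogeneous _ _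
  have h2 : IsWeightedHomogeneous (biW a b) M ((n, n) : ℕ × ℕ) := by
    rw [show M = _ from Finset.esymm_map_val _ _ _]
    refine IsWeightedHomogeneous.sum _ _ _ fun t ht => ?_
    have h := IsWeightedHomogeneous.prod t (fun ab : Fin a × Fin b => (X (Sum.inl ab.1) * X (Sum.inr ab.2) : MvPolynomial (Fin a ⊕ Fin b) ℤ))
      (fun _ => ((1, 1) : ℕ × ℕ)) (w := biW a b) fun ab _ => by
        simpa [biW] using (isWeightedHomogeneous_X (R := ℤ) (biW a b) (Sum.inl ab.1)).mul
          (isWeightedHomogeneous_X (R := ℤ) (biW a b) (Sum.inr ab.2))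
    simpa [(Finset.mem_powersetCard.mp ht).2] using h
  ext s
  by_cases hw : Finsupp.weight (biW a b) s = ((n, n) : ℕ × ℕ)
  swap
  · rw [h1.coeff_eq_zero s hw, h2.coeff_eq_zero s hw]
  rw [weight_biW, Prod.mk.injEq] at hw
  set A := (univ : Finset (Fin a)).filter fun i => s (Sum.inl i) ≠ 0
  set B := (univ : Finset (Fin b)).filter fun i => s (Sum.inr i) ≠ 0
  have hA : A.card ≤ n := by
    rw [← hw.1, Finset.card_eq_sum_ones]
    refine (Finset.sum_le_sum fun i hi => ?_).trans (Finset.sum_le_sum_of_subset (Finset.subset_univ A))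
    have := (Finset.mem_filter.mp hi).2; omega
  have hB : B.card ≤ n := by
    rw [← hw.2, Finset.card_eq_sum_ones]
    refine (Finset.sum_le_sum fun i hi => ?_).trans (Finset.sum_le_sum_of_subset (Finset.subset_univ B))
    have := (Finset.mem_filter.mp hi).2; omega
  set U := A.disjSum B
  have hsU : s.support ⊆ U := by
    intro i hi
    rcases i with i | i <;> simpa [U, A, B, Finset.mem_disjSum] using hi
  rw [← coeff_keep U (aeval g P) s hsU, ← coeff_keep U M s hsU]
  congr 1
  set x : Fin a → MvPolynomial (Fin a ⊕ Fin b) ℤ := fun i => keep U (X (Sum.inl i))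
  set y : Fin b → MvPolynomial (Fin a ⊕ Fin b) ℤ := fun i => keep U (X (Sum.inr i))
  have hsplit : ∀ {m : ℕ} (T : Finset (Fin m)) (z : Fin m → MvPolynomial (Fin a ⊕ Fin b) ℤ),
      (∀ i ∉ T, z i = 0) → (univ : Finset (Fin m)).val.map z = Multiset.replicate Tᶜ.card 0 + T.val.map z := by
    intro m T z hz
    rw [← Finset.union_compl T, ← Finset.disjUnion_eq_union T Tᶜ disjoint_compl_right, Finset.disjUnion_val,
      Multiset.map_add, add_comm]
    congr 1
    rw [Multiset.eq_replicate]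
    exact ⟨by simp, fun v hv => by obtain ⟨i, hi, rfl⟩ := Multiset.mem_map.mp hv; exact hz i (Finset.mem_compl.mp hi)⟩
  have hx := hsplit A x fun i hi => by simp [x, keep, U, hi]
  have hy := hsplit B y fun i hi => by simp [y, keep, U, hi]
  have hsmall := mulPoly_eval_small hP (A.val.map x) (B.val.map y) (by simpa using hA) (by simpa using hB)
  have hR : keep U M = (prodPairs (A.val.map x) (B.val.map y)).esymm n := by
    have h3 := map_esymm' (keep U : MvPolynomial (Fin a ⊕ Fin b) ℤ →ₐ[ℤ] _).toRingHom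
      ((univ : Finset (Fin a × Fin b)).val.map
        fun ab => (X (Sum.inl ab.1) * X (Sum.inr ab.2) : MvPolynomial (Fin a ⊕ Fin b) ℤ)) n
    rw [AlgHom.toRingHom_eq_coe, RingHom.coe_coe] at h3
    rw [show keep U M = _ from h3, Multiset.map_map]
    simp only [Function.comp_def, map_mul, RingHom.coe_coe]
    rw [mulGen_eval x y, hx, hy, esymm_prodPairs_zero]
  rw [hR, ← hsmall, ← AlgHom.comp_apply, comp_aeval]
  refine congrArg (fun g => aeval g P) (funext fun i => ?_)
  rcases i with k | k <;> simp only [g, Sum.elim_inl, Sum.elim_inr]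
  · rw [esymm_eq_multiset_esymm]
    have h4 := map_esymm' (AlgHom.comp (keep U) (rename Sum.inl) : MvPolynomial (Fin a) ℤ →ₐ[ℤ] _).toRingHom
      ((univ : Finset (Fin a)).val.map X) ((k : ℕ) + 1)
    rw [AlgHom.toRingHom_eq_coe, RingHom.coe_coe, Multiset.map_map] at h4
    simp only [Function.comp_def, RingHom.coe_coe, AlgHom.comp_apply, rename_X] at h4
    rw [h4, show ((univ : Finset (Fin a)).val.map fun i => keep U (X (Sum.inl i))) = _ from hx, esymm_replicate_zero_add]
  · rw [esymm_eq_multiset_esymm]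
    have h4 := map_esymm' (AlgHom.comp (keep U) (rename Sum.inr) : MvPolynomial (Fin b) ℤ →ₐ[ℤ] _).toRingHom
      ((univ : Finset (Fin b)).val.map X) ((k : ℕ) + 1)
    rw [AlgHom.toRingHom_eq_coe, RingHom.coe_coe, Multiset.map_map] at h4
    simp only [Function.comp_def, RingHom.coe_coe, AlgHom.comp_apply, rename_X] at h4
    rw [h4, show ((univ : Finset (Fin b)).val.map fun i => keep U (X (Sum.inr i))) = _ from hy, esymm_replicate_zero_add]

theorem mulPoly_eval {n : ℕ} {P : MvPolynomial (Fin n ⊕ Fin n) ℤ} (hP : IsMulPoly n P) (s t : Multiset S) :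
    aeval (Sum.elim (fun k : Fin n => s.esymm ((k : ℕ) + 1)) fun k : Fin n => t.esymm ((k : ℕ) + 1)) P =
      (prodPairs s t).esymm n := by
  obtain ⟨x, hx⟩ := exists_fin_map s
  obtain ⟨y, hy⟩ := exists_fin_map t
  have h := congrArg (aeval (Sum.elim x y)) (mulPoly_universal hP (Multiset.card s) (Multiset.card t))
  have h3 := map_esymm' (aeval (Sum.elim x y) : MvPolynomial (Fin (Multiset.card s) ⊕ Fin (Multiset.card t)) ℤ →ₐ[ℤ] S).toRingHom
    ((univ : Finset (Fin (Multiset.card s) × Fin (Multiset.card t))).val.map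
        fun ab => (X (Sum.inl ab.1) * X (Sum.inr ab.2) : MvPolynomial (Fin (Multiset.card s) ⊕ Fin (Multiset.card t)) ℤ)) n
  rw [AlgHom.toRingHom_eq_coe, RingHom.coe_coe] at h3
  rw [h3, Multiset.map_map, ← AlgHom.comp_apply, comp_aeval] at h
  simp only [Function.comp_def, map_mul, RingHom.coe_coe, aeval_X, Sum.elim_inl, Sum.elim_inr] at h
  rw [mulGen_eval, hx, hy] at h
  rw [← h]
  refine congrArg (fun g => aeval g P) (funext fun i => ?_)
  rcases i with k | k <;> simp only [Sum.elim_inl, Sum.elim_inr] <;> rw [aeval_esymm_rename]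
  · rw [show (Sum.elim x y ∘ Sum.inl) = x from rfl, hx]
  · rw [show (Sum.elim x y ∘ Sum.inr) = y from rfl, hy]

end Groth.Agent.LambdaLib
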